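import Cfsg.Agent.Lib.LocalEven.JComp.Bound

/-!
The group `⟨K, T⟩` for a component outside `M`, and pairs of them.
-/

set_option autoImplicit false

open Cfsg CfsgLib.PLocal
open scoped commutatorElement

namespace CfsgLib.JComp

variable {G : Type*} [Group G] [Finite G] {T : Subgroup G}

theorem Frame.outside {M : Subgroup G} (F : Frame T M) {K : Subgroup G}
    (hK : K ∈ Cfsg.jComponentsOutside M T) : ∃ L, Above T K L ∧ T ≤ L := by
  obtain ⟨⟨hKc, -⟩, hKM, hO⟩ := hK
  obtain ⟨L, hL⟩ := F.exists_above hKc hKM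
  have hloc : Cfsg.IsTwoLocal (Subgroup.normalizer (Cfsg.pCoreOf 2 (K ⊔ T) : Set G)) :=
    ⟨_, haveI : Fact (Nat.Prime 2) := ⟨Nat.prime_two⟩
      CfsgLib.LocalEvenCharP.isPGroup_pCoreOf 2 _, hO, rfl⟩
  have hle : K ⊔ T ≤ Subgroup.normalizer (Cfsg.pCoreOf 2 (K ⊔ T) : Set G) :=
    CfsgLib.LocalEvenCharP.le_normalizer_pCoreOf 2 _
  exact ⟨L, hL, le_sup_right.trans (hle.trans
    (hL.le_of_local hloc ((sup_le_sup_left (jOf_le T) K).trans hle)))⟩

namespace Above

variable {K K' L L' : Subgroup G}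

theorem over_T (h : Above T K L) (hT : T ≤ L) : Over T L := by
  obtain ⟨M, F, -, hLM⟩ := h.exists_frame
  exact F.sylow h.max.1 hLM hT

theorem join_le (h : Above T K L) (hT : T ≤ L) : K ⊔ T ≤ L :=
  sup_le (le_sup_left.trans h.le) hT

theorem T_le_normalizer (h : Above T K L) (h' : Above T K' L') (hne : L' ≠ L) (hT : T ≤ L) :
    T ≤ Subgroup.normalizer (K : Set G) := fun _ hs =>
  h.mem_normalizer h' hne (normalizer_le_normalizer_jOf T (Subgroup.le_normalizer hs)) (hT hs)

theorem omega_eq (h : Above T K L) (h' : Above T K' L') (hne : L' ≠ L) (hT : T ≤ L) :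
    Cfsg.omegaCenterOf T = Cfsg.omegaCenterOf (Cfsg.thompsonSubgroupOf 2 T) := by
  refine le_antisymm (fun z hz => ?_) fun z hz => ?_
  · have hz2 := elemAb_sq (omegaCenterOf_elemAb T) hz
    refine mem_omegaCenterOf ?_ hz2 fun y hy => omegaCenterOf_comm T hz (jOf_le T hy)
    obtain ⟨A, hA⟩ := exists_isMaxElemIn 2 T
    rw [jOf_eq]
    exact hA.le_thompson (hA.mem_of_centralizes (omegaCenterOf_le T hz) (by rw [pow_two]; exact hz2)
      fun a ha => omegaCenterOf_comm T hz (hA.1 ha))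
  · exact mem_omegaCenterOf (jOf_le T (omegaCenterOf_le _ hz))
      (elemAb_sq (omegaCenterOf_elemAb _) hz) fun y hy =>
        h.centralizes h' hne (normalizer_le_normalizer_jOf T (Subgroup.le_normalizer hy))
          (h.T_le_normalizer h' hne hT hy) z hz

theorem join_core (h : Above T K L) (h' : Above T K' L') (hne : L' ≠ L) :
    Cfsg.pCoreOf 2 ((K ⊔ T) ⊔ (K' ⊔ T)) = ⊥ := by
  haveI : Fact (Nat.Prime 2) := ⟨Nat.prime_two⟩
  by_contra hO
  refine hne ?_
  set D := (K ⊔ T) ⊔ (K' ⊔ T)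
  have hD := CfsgLib.LocalEvenCharP.le_normalizer_pCoreOf 2 D
  exact h'.eq_of_local h ⟨_, CfsgLib.LocalEvenCharP.isPGroup_pCoreOf 2 D, hO, rfl⟩
    ((((sup_le_sup_left (jOf_le T) K')).trans le_sup_right).trans hD)
    ((((sup_le_sup_left (jOf_le T) K)).trans le_sup_left).trans hD)

/-- The properties of `P = ⟨K, T⟩`. -/
theorem join_props (h : Above T K L) (hT : T ≤ L) (hTK : T ≤ Subgroup.normalizer (K : Set G)) :
    Subgroup.centralizer (Cfsg.pCoreOf 2 (K ⊔ T) : Set G) ≤ Cfsg.pCoreOf 2 (K ⊔ T) ∧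
    Cfsg.IsSylowTwoIn T (K ⊔ T) ∧ (Cfsg.pCoreOf 2 (K ⊔ T)).relIndex (K ⊔ T) = 6 ∧
    ¬ ⁅K ⊔ T, K ⊔ T⁆ ≤ Cfsg.pCoreOf 2 (K ⊔ T) := by
  haveI : Fact (Nat.Prime 2) := ⟨Nat.prime_two⟩
  have hO := h.over_T hT
  obtain ⟨M, F, -, -⟩ := h.exists_frame
  obtain ⟨k, hd⟩ := exists_fourData h.comp.1 h.comp.2.2.1
  have hWne : Cfsg.wOf K ≠ ⊥ := fun e => by
    have := h.comp.2.2.2.2.1
    rw [e, Subgroup.card_bot] at this
    norm_num at this
  set P := K ⊔ T with hP
  set W := Cfsg.wOf K with hW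
  have hPL : P ≤ L := h.join_le hT
  set R := Cfsg.pCoreOf 2 P with hR
  have hQR : Cfsg.pCoreOf 2 L ≤ R :=
    CfsgLib.LocalEvenCharP.le_pCoreOf (hO.core_le.trans le_sup_right)
      (hPL.trans (CfsgLib.LocalEvenCharP.le_normalizer_pCoreOf 2 L)) hO.isPGroup_core
  have hcent : Subgroup.centralizer (R : Set G) ≤ R :=
    (Subgroup.centralizer_le hQR).trans (hO.cent.trans hQR)
  have hsyl : Cfsg.IsSylowTwoIn T P := by
    refine ⟨le_sup_right, F.pgroup, Odd.of_dvd_nat hO.syl.2.2 ?_⟩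
    rw [← Subgroup.relIndex_mul_relIndex T P L le_sup_right hPL]
    exact Dvd.intro _ rfl
  have hKnotR : ¬ K ≤ R := fun hle => hd.not_core (hd.mem_core hWne hd.mem (by
    exfalso
    have h1 : k = 1 := CfsgLib.LocalEvenCharP.eq_one_of_coprime_of_mem
      (CfsgLib.LocalEvenCharP.isPGroup_pCoreOf 2 P) (hle hd.mem) (by rw [hd.ord]; norm_num)
    have := hd.ord
    rw [h1, orderOf_one] at this
    norm_num at this))
  have hnab : ¬ ⁅P, P⁆ ≤ R := fun hle => hKnotR (by
    conv_lhs => rw [← h.comp.2.1]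
    exact (Subgroup.commutator_mono le_sup_left ((jOf_le T).trans le_sup_right)).trans hle)
  refine ⟨hcent, hsyl, ?_, hnab⟩
  have hPK : P ≤ Subgroup.normalizer (K : Set G) := sup_le Subgroup.le_normalizer hTK
  have hPW : P ≤ Subgroup.normalizer (W : Set G) := hPK.trans (normalizer_le_normalizer_wOf K)
  let ρ : P →* MulAut W := W.normalizerMonoidHom.comp (Subgroup.inclusion hPW)
  have hρ : ∀ g : P, ρ g = 1 ↔ (g : G) ∈ Subgroup.centralizer (W : Set G) := by
    intro g
    rw [Subgroup.mem_centralizer_iff]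
    constructor
    · intro e u hu
      have h1 := congrArg Subtype.val (DFunLike.congr_fun e ⟨u, hu⟩)
      exact (mul_inv_eq_iff_eq_mul.1 h1).symm
    · intro e
      refine MulEquiv.ext fun u => Subtype.ext ?_
      exact mul_inv_eq_iff_eq_mul.2 (e u u.2).symm
  have hker : ρ.ker.map P.subtype = R := by
    apply le_antisymm
    · refine CfsgLib.LocalEvenCharP.le_pCoreOf (Subgroup.map_subtype_le _)
        (le_normalizer_map_subtype P ρ.ker) ?_
      intro g
      obtain ⟨u, v, huv, hu, ⟨m, hm⟩, hu', -⟩ := exists_odd_two (g : G)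
      obtain ⟨g', hg', hgg⟩ : (u : G) ∈ ρ.ker.map P.subtype := Subgroup.zpowers_le.2 g.2 hu'
      have huP : u ∈ P := hgg ▸ g'.2
      have huC : u ∈ Subgroup.centralizer (W : Set G) := hgg ▸ (hρ g').1 hg'
      have huK : u ∈ K := odd_mem_of_sup F.pgroup hTK huP hu
      have hu1 : u = 1 := CfsgLib.LocalEvenCharP.eq_one_of_coprime_of_mem
        (CfsgLib.LocalEvenCharP.isPGroup_pCoreOf 2 K) (hd.mem_core hWne huK huC) hu.coprime_two_right
      exact ⟨m, Subtype.ext (by simpa [huv, hu1] using hm)⟩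
    · intro r hr
      have hrP : r ∈ P := CfsgLib.LocalEvenCharP.pCoreOf_le 2 P hr
      refine ⟨⟨r, hrP⟩, (hρ _).2 (Subgroup.mem_centralizer_iff.2 fun u hu => ?_), rfl⟩
      have hRW : R ≤ Subgroup.normalizer (W : Set G) :=
        (CfsgLib.LocalEvenCharP.pCoreOf_le 2 P).trans hPW
      exact (centralizes_four h.comp.2.2.2.2.1 h.comp.2.2.2.2.2 (hd.norm hd.mem)
        (CfsgLib.LocalEvenCharP.le_normalizer_pCoreOf 2 P (Subgroup.mem_sup_left hd.mem))
        hd.fpf (CfsgLib.LocalEvenCharP.isPGroup_pCoreOf 2 P) hRW r hr u hu).symm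
  have hidx : R.relIndex P = Nat.card ρ.range := by
    rw [← Subgroup.index_ker, Subgroup.relIndex, ← hker]
    rw [show (ρ.ker.map P.subtype).subgroupOf P = ρ.ker from
      Subgroup.comap_map_eq_self_of_injective P.subtype_injective _]
  rw [hidx]
  -- `3` and `2` divide the order, and the order is at most `6`
  have h3 : 3 ∣ Nat.card ρ.range := by
    have : orderOf (ρ ⟨k, Subgroup.mem_sup_left hd.mem⟩) = 3 := by
      refine orderOf_eq_prime (hp := ⟨Nat.prime_three⟩) ?_ ?_
      · rw [← map_pow]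
        convert map_one ρ
        exact Subtype.ext (by
          show k ^ 3 = 1
          rw [← hd.ord]; exact pow_orderOf_eq_one k)
      · exact fun e => hd.not_core (hd.mem_core hWne hd.mem ((hρ _).1 e))
    rw [← this]
    exact Subgroup.orderOf_dvd_natCard _ ⟨_, rfl⟩
  have h2 : 2 ∣ Nat.card ρ.range := by
    obtain ⟨j, hj, hjW⟩ : ∃ j ∈ Cfsg.thompsonSubgroupOf 2 T, j ∉ Subgroup.centralizer (W : Set G) := by
      by_contra hcon
      push Not at hcon
      refine hd.not_core (hd.mem_core hWne hd.mem ?_)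
      suffices hle : K ≤ Subgroup.centralizer (W : Set G) from hle hd.mem
      conv_lhs => rw [← h.comp.2.1]
      refine Subgroup.commutator_le.2 fun g hg j hj => ?_
      refine (Subgroup.centralizer (W : Set G)).mul_mem ?_ ((Subgroup.centralizer _).inv_mem (hcon j hj))
      refine Subgroup.mem_centralizer_iff.2 fun w hw => ?_
      have h1 := Subgroup.mem_centralizer_iff.1 (hcon j hj) _
        ((Subgroup.mem_normalizer_iff''.1 (hd.norm hg) w).1 hw)
      calc w * (g * j * g⁻¹) = g * ((g⁻¹ * w * g) * j) * g⁻¹ := by group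
        _ = g * (j * (g⁻¹ * w * g)) * g⁻¹ := by rw [h1]
        _ = g * j * g⁻¹ * w := by group
    have hjP : j ∈ P := Subgroup.mem_sup_right (jOf_le T hj)
    set J' : Subgroup P := (Cfsg.thompsonSubgroupOf 2 T).subgroupOf P
    have hJp : IsPGroup 2 ↥(J'.map ρ) :=
      ((F.pgroup.to_le (jOf_le T)).comap_of_injective P.subtype P.subtype_injective).map _
    have hne : J'.map ρ ≠ ⊥ := fun e => hjW ((hρ ⟨j, hjP⟩).1 (by
      rw [← Subgroup.mem_bot, ← e]; exact ⟨_, hj, rfl⟩))
    obtain ⟨n, hn⟩ := IsPGroup.iff_card.1 hJp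
    have hn0 : n ≠ 0 := by
      rintro rfl
      exact hne (Subgroup.card_eq_one.1 (by simpa using hn))
    exact (dvd_pow_self 2 hn0).trans (hn ▸ Subgroup.card_dvd_of_le
      (by rintro _ ⟨g, -, rfl⟩; exact ⟨g, rfl⟩))
  have h6 : Nat.card ρ.range ≤ 6 := by
    classical
    let g : W → G := Subtype.val
    let e : MulAut W →* Equiv.Perm {u : W // u ≠ 1} :=
      { toFun := fun f => Equiv.Perm.subtypePerm f.toEquiv fun u => by simp
        map_one' := by ext; rfl
        map_mul' := fun a b => by ext; rfl }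
    have he : Function.Injective e := by
      intro a b hab
      refine MulEquiv.ext fun u => ?_
      by_cases hu : u = 1
      · simp [hu]
      · exact congrArg Subtype.val (DFunLike.congr_fun hab ⟨u, hu⟩)
    have hc : Nat.card {u : W // u ≠ 1} = 3 := by
      haveI := Fintype.ofFinite W
      rw [Nat.card_eq_fintype_card, Fintype.card_subtype_compl, Fintype.card_subtype_eq,
        ← Nat.card_eq_fintype_card, h.comp.2.2.2.2.1]
    calc Nat.card ρ.range ≤ Nat.card (MulAut W) :=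
          Nat.card_le_card_of_injective _ Subtype.val_injective
      _ ≤ Nat.card (Equiv.Perm {u : W // u ≠ 1}) := Nat.card_le_card_of_injective _ he
      _ = 6 := by rw [Nat.card_perm, hc]; rfl
  have h6' : 6 ∣ Nat.card ρ.range := Nat.Coprime.mul_dvd_of_dvd_of_dvd (by norm_num : Nat.Coprime 2 3) h2 h3
  have := Nat.le_of_dvd Nat.card_pos h6'
  omega

end Above

end CfsgLib.JComp
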