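import Cfsg.Prelude.Def_JComponents
import Cfsg.Agent.Lib.LocalEven.CharP
import Cfsg.Agent.Lib.Coprime.Commutator
import Cfsg.Agent.Lib.PLocal.Thompson

/-!
Generalities for the theory of `J(T)`-components: Thompson subgroups of 2-groups, Sylow subgroups
of subgroups, subgroups generated by elements of odd order.
-/

set_option autoImplicit false

open Cfsg CfsgLib.PLocal
open scoped commutatorElement

namespace CfsgLib.JComp

variable {G : Type*} [Group G]

theorem jOf_eq (P : Subgroup G) : Cfsg.thompsonSubgroupOf 2 P = thompson 2 P :=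
  thompsonSubgroupOf_eq 2 P

theorem jOf_le (P : Subgroup G) : Cfsg.thompsonSubgroupOf 2 P ≤ P := Subgroup.map_subtype_le _

theorem jOf_conj (P : Subgroup G) (g : G) :
    Cfsg.thompsonSubgroupOf 2 (P.map (MulAut.conj g).toMonoidHom) =
      (Cfsg.thompsonSubgroupOf 2 P).map (MulAut.conj g).toMonoidHom := by
  rw [jOf_eq, jOf_eq]; exact thompson_conj 2 P g

theorem normalizer_le_normalizer_jOf (P : Subgroup G) :
    Subgroup.normalizer (P : Set G) ≤
      Subgroup.normalizer (Cfsg.thompsonSubgroupOf 2 P : Set G) := by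
  rw [jOf_eq]; exact normalizer_le_normalizer_thompson 2 P

variable [Finite G]

theorem maxElemAbelianOrder_eq {P A : Subgroup G} (hA : IsMaxElemIn 2 P A) :
    Cfsg.maxElemAbelianOrder P = Nat.card A := by
  have h : (fun B : Subgroup P => Nat.card B) '' maxElementaryAbelianSubgroups 2 P =
      {Nat.card A} := by
    ext n
    constructor
    · rintro ⟨B, hB, rfl⟩
      have hB' : IsMaxElemIn 2 P (B.map P.subtype) := by
        have := Set.mem_image_of_mem (fun A : Subgroup P => A.map P.subtype) hB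
        rwa [image_maxElementaryAbelianSubgroups] at this
      rw [Set.mem_singleton_iff, ← hA.card_eq hB' |>.symm,
        Subgroup.card_map_of_injective P.subtype_injective]
    · intro hn
      have h1 : A ∈ {A | IsMaxElemIn 2 P A} := hA
      rw [← image_maxElementaryAbelianSubgroups] at h1
      obtain ⟨B, hB, rfl⟩ := h1
      exact ⟨B, hB, by rw [Set.mem_singleton_iff.1 hn,
        Subgroup.card_map_of_injective P.subtype_injective]⟩
  rw [Cfsg.maxElemAbelianOrder, h, csSup_singleton]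

theorem maxElemAbelianOrder_mono {P Q : Subgroup G} (h : P ≤ Q) :
    Cfsg.maxElemAbelianOrder P ≤ Cfsg.maxElemAbelianOrder Q := by
  obtain ⟨A, hA⟩ := exists_isMaxElemIn 2 P
  obtain ⟨B, hB⟩ := exists_isMaxElemIn 2 Q
  rw [maxElemAbelianOrder_eq hA, maxElemAbelianOrder_eq hB]
  exact hB.2.2 A (hA.1.trans h) hA.2.1

theorem maxElemAbelianOrder_jOf (P : Subgroup G) :
    Cfsg.maxElemAbelianOrder (Cfsg.thompsonSubgroupOf 2 P) = Cfsg.maxElemAbelianOrder P := by
  rw [jOf_eq]
  obtain ⟨A, hA⟩ := exists_isMaxElemIn 2 P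
  rw [maxElemAbelianOrder_eq hA,
    maxElemAbelianOrder_eq ((isMaxElemIn_iff_of_le (thompson_le 2 P) le_rfl).2 hA)]

/-- With the same rank, `J` is monotone. -/
theorem jOf_mono {P Q : Subgroup G} (h : P ≤ Q)
    (ha : Cfsg.maxElemAbelianOrder Q ≤ Cfsg.maxElemAbelianOrder P) :
    Cfsg.thompsonSubgroupOf 2 P ≤ Cfsg.thompsonSubgroupOf 2 Q := by
  rw [jOf_eq, jOf_eq, thompson_le_iff]
  intro A hA
  refine IsMaxElemIn.le_thompson ⟨hA.1.trans h, hA.2.1, fun B hB hB' => ?_⟩
  obtain ⟨C, hC⟩ := exists_isMaxElemIn 2 Q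
  rw [maxElemAbelianOrder_eq hA, maxElemAbelianOrder_eq hC] at ha
  exact (hC.2.2 B hB hB').trans ha

theorem jOf_ne_bot {P : Subgroup G} (hP : IsPGroup 2 P) (h : P ≠ ⊥) :
    Cfsg.thompsonSubgroupOf 2 P ≠ ⊥ := by
  haveI : Fact (Nat.Prime 2) := ⟨Nat.prime_two⟩
  rw [jOf_eq]
  intro hbot
  obtain ⟨A, hA⟩ := exists_isMaxElemIn 2 P
  obtain ⟨n, hn⟩ := IsPGroup.iff_card.1 hP
  have hn0 : n ≠ 0 := by
    rintro rfl
    exact h (Subgroup.card_eq_one.1 (by simpa using hn))
  obtain ⟨x, hx⟩ := exists_prime_orderOf_dvd_card' (G := P) 2 (hn ▸ dvd_pow_self 2 hn0)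
  have hxo : orderOf (x : G) = 2 := by rw [Subgroup.orderOf_coe]; exact hx
  have hz : Cfsg.IsElementaryAbelian 2 (Subgroup.zpowers (x : G)) := by
    rw [Subgroup.zpowers_eq_closure]
    apply elemAb_closure
    · rintro a rfl b rfl; rfl
    · rintro a rfl; rw [← hxo]; exact pow_orderOf_eq_one _
  have h1 := hA.2.2 _ (Subgroup.zpowers_le.2 x.2) hz
  rw [Nat.card_zpowers, hxo] at h1
  rw [le_bot_iff.1 (hA.le_thompson.trans hbot.le), Subgroup.card_bot] at h1
  omega

/-! ### Sylow 2-subgroups of subgroups -/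

theorem exists_sylow_eq {T L : Subgroup G} (h : Cfsg.IsSylowTwoIn T L) :
    ∃ P : Sylow 2 L, (P : Subgroup L) = T.subgroupOf L := by
  haveI : Fact (Nat.Prime 2) := ⟨Nat.prime_two⟩
  have hp : IsPGroup 2 (T.subgroupOf L) :=
    h.2.1.comap_of_injective L.subtype L.subtype_injective
  have hi : ¬ 2 ∣ (T.subgroupOf L).index := fun hd =>
    Nat.not_even_iff_odd.2 h.2.2 (even_iff_two_dvd.2 hd)
  exact ⟨hp.toSylow hi, rfl⟩

theorem exists_conj_le {T L : Subgroup G} (h : Cfsg.IsSylowTwoIn T L) {P : Subgroup G}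
    (hPL : P ≤ L) (hP : IsPGroup 2 P) :
    ∃ g ∈ L, P.map (MulAut.conj g).toMonoidHom ≤ T := by
  haveI : Fact (Nat.Prime 2) := ⟨Nat.prime_two⟩
  obtain ⟨S, hS⟩ := exists_sylow_eq h
  obtain ⟨R, hR⟩ := (hP.comap_of_injective L.subtype L.subtype_injective).exists_le_sylow
  obtain ⟨g, hg⟩ := MulAction.exists_smul_eq L R S
  refine ⟨g, g.2, ?_⟩
  rintro _ ⟨x, hx, rfl⟩
  have h1 : g * ⟨x, hPL hx⟩ * g⁻¹ ∈ ((g • R : Sylow 2 L) : Subgroup L) :=
    ⟨⟨x, hPL hx⟩, hR (show (⟨x, hPL hx⟩ : L) ∈ P.subgroupOf L from hx), rfl⟩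
  rw [hg, hS] at h1
  exact h1

theorem eq_of_le_sylowIn {T L : Subgroup G} (h : Cfsg.IsSylowTwoIn T L) {P : Subgroup G}
    (hPL : P ≤ L) (hP : IsPGroup 2 P) (hTP : T ≤ P) : P = T := by
  obtain ⟨g, -, hg'⟩ := exists_conj_le h hPL hP
  refine (Subgroup.eq_of_le_of_card_ge hTP ?_).symm
  calc Nat.card P = Nat.card ↥(P.map (MulAut.conj g).toMonoidHom) :=
        (Subgroup.card_map_of_injective (MulAut.conj g).injective).symm
    _ ≤ Nat.card T := Subgroup.card_le_of_le hg'

theorem mem_of_mem_normalizer {T L : Subgroup G} (h : Cfsg.IsSylowTwoIn T L) {x : G} (hx : x ∈ L)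
    (hn : x ∈ Subgroup.normalizer (T : Set G)) (hp : IsPGroup 2 (Subgroup.zpowers x)) : x ∈ T := by
  haveI : Fact (Nat.Prime 2) := ⟨Nat.prime_two⟩
  have h1 := eq_of_le_sylowIn h (sup_le (Subgroup.zpowers_le.2 hx) h.1)
    (hp.to_sup_of_normal_right' h.2.1 (Subgroup.zpowers_le.2 hn)) le_sup_right
  exact h1.le (le_sup_left (b := T) (Subgroup.mem_zpowers x))

/-- 2-subgroups of `L` containing `J(T)` have the same Thompson subgroup. -/
theorem jOf_eq_of_le {T L : Subgroup G} (h : Cfsg.IsSylowTwoIn T L) {P : Subgroup G}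
    (hPL : P ≤ L) (hP : IsPGroup 2 P) (hJ : Cfsg.thompsonSubgroupOf 2 T ≤ P) :
    Cfsg.thompsonSubgroupOf 2 P = Cfsg.thompsonSubgroupOf 2 T := by
  obtain ⟨g, -, hg⟩ := exists_conj_le h hPL hP
  have h1 : Cfsg.maxElemAbelianOrder T ≤ Cfsg.maxElemAbelianOrder P := by
    rw [← maxElemAbelianOrder_jOf T]; exact maxElemAbelianOrder_mono hJ
  have h2 : Cfsg.maxElemAbelianOrder P ≤ Cfsg.maxElemAbelianOrder T := by
    refine le_trans (le_of_eq ?_) (maxElemAbelianOrder_mono hg)
    obtain ⟨A, hA⟩ := exists_isMaxElemIn 2 P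
    rw [maxElemAbelianOrder_eq hA, maxElemAbelianOrder_eq
      ((isMaxElemIn_map_iff (f := (MulAut.conj g).toMonoidHom) (MulAut.conj g).injective).2 hA),
      Subgroup.card_map_of_injective (MulAut.conj g).injective]
  have hle : Cfsg.thompsonSubgroupOf 2 T ≤ Cfsg.thompsonSubgroupOf 2 P := by
    rw [jOf_eq T, thompson_le_iff]
    intro A hA
    rw [jOf_eq]
    obtain ⟨C, hC⟩ := exists_isMaxElemIn 2 P
    refine IsMaxElemIn.le_thompson (hC.of_card_le
      (hA.le_thompson.trans (jOf_eq T ▸ hJ)) hA.2.1 ?_)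
    rw [← maxElemAbelianOrder_eq hC, ← maxElemAbelianOrder_eq hA]
    exact h2
  refine (Subgroup.eq_of_le_of_card_ge hle ?_).symm
  have h3 : (Cfsg.thompsonSubgroupOf 2 P).map (MulAut.conj g).toMonoidHom ≤
      Cfsg.thompsonSubgroupOf 2 T := by
    rw [← jOf_conj]
    refine jOf_mono hg ?_
    refine le_trans h1 (le_of_eq ?_)
    obtain ⟨A, hA⟩ := exists_isMaxElemIn 2 P
    rw [maxElemAbelianOrder_eq hA, maxElemAbelianOrder_eq
      ((isMaxElemIn_map_iff (f := (MulAut.conj g).toMonoidHom) (MulAut.conj g).injective).2 hA),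
      Subgroup.card_map_of_injective (MulAut.conj g).injective]
  calc Nat.card ↥(Cfsg.thompsonSubgroupOf 2 P)
      = Nat.card ↥((Cfsg.thompsonSubgroupOf 2 P).map (MulAut.conj g).toMonoidHom) :=
        (Subgroup.card_map_of_injective (MulAut.conj g).injective).symm
    _ ≤ _ := Subgroup.card_le_of_le h3

/-! ### Subgroups generated by elements of odd order -/

/-- The subgroup generated by the elements of odd order of `D`. -/
def oddClosure (D : Subgroup G) : Subgroup G :=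
  Subgroup.closure {g : G | g ∈ D ∧ Odd (orderOf g)}

omit [Finite G] in
theorem oddClosure_le (D : Subgroup G) : oddClosure D ≤ D :=
  (Subgroup.closure_le _).2 fun _ hg => hg.1

omit [Finite G] in
theorem mem_oddClosure {D : Subgroup G} {g : G} (hg : g ∈ D) (ho : Odd (orderOf g)) :
    g ∈ oddClosure D :=
  Subgroup.subset_closure ⟨hg, ho⟩

omit [Finite G] in
theorem oddClosure_eq_of_closure {K : Subgroup G}
    (hK : Subgroup.closure {g : G | g ∈ K ∧ Odd (orderOf g)} = K) : oddClosure K = K := hK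

omit [Finite G] in
theorem oddClosure_idem (D : Subgroup G) : oddClosure (oddClosure D) = oddClosure D :=
  le_antisymm (oddClosure_le _)
    ((Subgroup.closure_le _).2 fun _ hg => mem_oddClosure (Subgroup.subset_closure hg) hg.2)

omit [Finite G] in
theorem normalizer_le_normalizer_oddClosure (D : Subgroup G) :
    Subgroup.normalizer (D : Set G) ≤ Subgroup.normalizer (oddClosure D : Set G) := by
  refine Subgroup.le_normalizer_iff.2 fun g hg x hx => ?_
  suffices h : oddClosure D ≤ (oddClosure D).comap (MulAut.conj g).toMonoidHom from h hx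
  rw [oddClosure, Subgroup.closure_le]
  rintro y ⟨hy, hyo⟩
  refine mem_oddClosure ((Subgroup.mem_normalizer_iff.1 hg y).1 hy) ?_
  rwa [show orderOf ((MulAut.conj g).toMonoidHom y) = orderOf y from MulEquiv.orderOf_eq _ y]

/-- An element of odd order in a product `K q` with `q` a 2-element normalizing `K` lies in `K`. -/
theorem odd_mem_of_mul {K : Subgroup G} {k q : G} (hk : k ∈ K)
    (hq : q ∈ Subgroup.normalizer (K : Set G)) {m : ℕ} (hqm : q ^ 2 ^ m = 1)
    (ho : Odd (orderOf (k * q))) : k * q ∈ K := by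
  have hn : ∀ n : ℕ, (k * q) ^ n * (q ^ n)⁻¹ ∈ K := by
    intro n
    induction n with
    | zero => simp
    | succ n ih =>
      have e : (k * q) ^ (n + 1) * (q ^ (n + 1))⁻¹ =
          k * (q * ((k * q) ^ n * (q ^ n)⁻¹) * q⁻¹) := by
        rw [pow_succ', pow_succ']; group
      rw [e]
      exact K.mul_mem hk ((Subgroup.mem_normalizer_iff.1 hq _).1 ih)
  have h := hn (2 ^ m)
  rw [hqm, inv_one, mul_one] at h
  obtain ⟨j, hj⟩ := exists_pow_eq_self_of_coprime (x := k * q) (n := 2 ^ m)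
    ((Nat.coprime_two_left.2 ho).pow_left m)
  rw [← hj]
  exact pow_mem h j

theorem exists_odd_two (g : G) :
    ∃ u v : G, g = u * v ∧ Odd (orderOf u) ∧ (∃ m : ℕ, v ^ 2 ^ m = 1) ∧
      u ∈ Subgroup.zpowers g ∧ v ∈ Subgroup.zpowers g := by
  obtain ⟨k, m, hm, hkm⟩ :=
    Nat.exists_eq_pow_mul_and_not_dvd (n := orderOf g) (orderOf_pos _).ne' 2 (by norm_num)
  have hco : Nat.Coprime (2 ^ k) m :=
    Nat.Coprime.pow_left k ((Nat.prime_two.coprime_iff_not_dvd).2 hm)
  obtain ⟨a, b, hab⟩ : ∃ a b : ℤ, a * (2 ^ k : ℕ) + b * (m : ℕ) = 1 :=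
    (Nat.isCoprime_iff_coprime.2 hco)
  have hg : g ^ ((2 ^ k : ℕ) * m) = 1 := by rw [← hkm]; exact pow_orderOf_eq_one g
  refine ⟨g ^ (a * (2 ^ k : ℕ)), g ^ (b * (m : ℕ)), ?_, ?_, ⟨k, ?_⟩,
    zpow_mem (Subgroup.mem_zpowers g) _, zpow_mem (Subgroup.mem_zpowers g) _⟩
  · rw [← zpow_add, hab, zpow_one]
  · have h1 : (g ^ (a * (2 ^ k : ℕ))) ^ m = 1 := by
      rw [← zpow_natCast, ← zpow_mul, mul_assoc, ← Nat.cast_mul, mul_comm a, zpow_mul, zpow_natCast,
        hg, one_zpow]
    have hmo : Odd m := Nat.not_even_iff_odd.1 fun h => hm (even_iff_two_dvd.1 h)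
    exact hmo.of_dvd_nat (orderOf_dvd_of_pow_eq_one h1)
  · rw [← zpow_natCast, ← zpow_mul, mul_assoc, ← Nat.cast_mul, mul_comm b, zpow_mul, zpow_natCast,
      mul_comm m, hg, one_zpow]

theorem le_oddClosure_sup {D Q : Subgroup G}
    (h : ∀ g ∈ D, ∀ m : ℕ, g ^ 2 ^ m = 1 → g ∈ Q) : D ≤ oddClosure D ⊔ Q := by
  intro g hg
  obtain ⟨u, v, huv, hu, ⟨m, hm⟩, hu', hv'⟩ := exists_odd_two g
  rw [huv]
  exact Subgroup.mul_mem_sup (mem_oddClosure (Subgroup.zpowers_le.2 hg hu') hu)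
    (h v (Subgroup.zpowers_le.2 hg hv') m hm)

/-- `Q` normalizes `K = [K, J]` if it is normalized by `⟨K, J⟩` and normalizes the 2-group `J`. -/
theorem le_normalizer_of_common {J K Q : Subgroup G} (hJp : IsPGroup 2 J)
    (hgen : Subgroup.closure {g : G | g ∈ K ∧ Odd (orderOf g)} = K) (hKJ : ⁅K, J⁆ = K)
    (hQ1 : K ⊔ J ≤ Subgroup.normalizer (Q : Set G))
    (hQ2 : Q ≤ Subgroup.normalizer (J : Set G)) : Q ≤ Subgroup.normalizer (K : Set G) := by
  haveI : Fact (Nat.Prime 2) := ⟨Nat.prime_two⟩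
  set X := K ⊔ J with hX
  have hJK : J ≤ Subgroup.normalizer (K : Set G) := by
    conv_rhs => rw [← hKJ]
    exact CfsgLib.Coprime.le_normalizer_commutator_right K J
  have hconj : ∀ q ∈ Q, X ≤ X.comap (MulAut.conj q).toMonoidHom := by
    intro q hq
    refine sup_le ?_ fun j hj =>
      (le_sup_right (a := K)) ((Subgroup.mem_normalizer_iff.1 (hQ2 hq) j).1 hj)
    calc K = ⁅K, J⁆ := hKJ.symm
      _ ≤ X.comap (MulAut.conj q).toMonoidHom := by
        rw [Subgroup.commutator_le]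
        intro k hk j hj
        have hkX : k ∈ X := le_sup_left (b := J) hk
        set q' := k⁻¹ * q * k with hq'
        have hq'Q : q' ∈ Q := (Subgroup.mem_normalizer_iff''.1 (hQ1 hkX) q).1 hq
        have h1 : k * (q' * j * q'⁻¹) * k⁻¹ ∈ X :=
          X.mul_mem (X.mul_mem hkX
            (le_sup_right (a := K) ((Subgroup.mem_normalizer_iff.1 (hQ2 hq'Q) j).1 hj)))
            (X.inv_mem hkX)
        have h2 : q * j⁻¹ * q⁻¹ ∈ X := le_sup_right (a := K)
          ((Subgroup.mem_normalizer_iff.1 (hQ2 hq) j⁻¹).1 (J.inv_mem hj))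
        have h3 := X.mul_mem h1 h2
        change q * ⁅k, j⁆ * q⁻¹ ∈ X
        convert h3 using 1
        rw [hq', commutatorElement_def]; group
  have hodd : ∀ x ∈ X, Odd (orderOf x) → x ∈ K := by
    intro x hx hox
    have hx' : x ∈ ((K ⊔ J : Subgroup G) : Set G) := hx
    rw [Subgroup.coe_mul_of_right_le_normalizer_left K J hJK] at hx'
    obtain ⟨k, hk, j, hj, rfl⟩ := hx'
    obtain ⟨m, hm⟩ := hJp ⟨j, hj⟩
    exact odd_mem_of_mul hk (hJK hj) (m := m) (by simpa using congrArg Subtype.val hm) hox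
  have hmem : ∀ q ∈ Q, K ≤ K.comap (MulAut.conj q).toMonoidHom := by
    intro q hq
    conv_lhs => rw [← hgen]
    rw [Subgroup.closure_le]
    rintro x ⟨hxK, hxo⟩
    change q * x * q⁻¹ ∈ K
    refine hodd _ (hconj q hq (le_sup_left (b := J) hxK)) ?_
    rwa [show q * x * q⁻¹ = MulAut.conj q x from rfl, MulEquiv.orderOf_eq]
  intro q hq
  rw [Subgroup.mem_normalizer_iff]
  refine fun x => ⟨fun h => hmem q hq h, fun h => ?_⟩
  simpa [mul_assoc] using hmem q⁻¹ (Q.inv_mem hq) h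

/-- A normal 2-subgroup normalizes every subnormal subgroup generated by elements of odd order. -/
theorem le_normalizer_of_isSubnormal {K X Q : Subgroup G} (hKX : K ≤ X)
    (hK : (K.subgroupOf X).IsSubnormal) (hgen : oddClosure K = K) (hQX : Q ≤ X)
    (hXQ : X ≤ Subgroup.normalizer (Q : Set G)) (hQ : IsPGroup 2 Q) :
    Q ≤ Subgroup.normalizer (K : Set G) := by
  have key : ∀ H : Subgroup X, H.IsSubnormal → ∀ q : X, (q : G) ∈ Q → ∀ x ∈ H,
      Odd (orderOf x) → q * x * q⁻¹ ∈ H := by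
    intro H hH
    induction hH with
    | top => intros; trivial
    | step H M hle _ hN ih =>
      intro q hq x hx ho
      have hHM : M ≤ Subgroup.normalizer (H : Set X) :=
        (Subgroup.normal_subgroupOf_iff_le_normalizer hle).1 hN
      set u := x⁻¹ * (q * x * q⁻¹) with hu
      have huQ : (u : G) ∈ Q := by
        have e : (u : G) = (x : G)⁻¹ * (q : G) * (x : G)⁻¹⁻¹ * (q : G)⁻¹ := by
          simp [hu, mul_assoc]
        rw [e]
        exact Q.mul_mem ((Subgroup.mem_normalizer_iff.1 (hXQ (X.inv_mem x.2)) _).1 hq)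
          (Q.inv_mem hq)
      have huM : u ∈ M := M.mul_mem (M.inv_mem (hle hx)) (ih q hq x (hle hx) ho)
      obtain ⟨m, hm⟩ := hQ ⟨u, huQ⟩
      have hm' : u ^ 2 ^ m = 1 := Subtype.ext (by simpa using congrArg Subtype.val hm)
      have h := odd_mem_of_mul hx (hHM huM) hm' (by
        rw [hu, mul_inv_cancel_left]
        rwa [show q * x * q⁻¹ = MulAut.conj q x from rfl, MulEquiv.orderOf_eq])
      rwa [hu, mul_inv_cancel_left] at h
  refine Subgroup.le_normalizer_iff.2 fun q hq => ?_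
  suffices h : K ≤ K.comap (MulAut.conj q).toMonoidHom from fun x hx => h hx
  calc K = oddClosure K := hgen.symm
    _ ≤ K.comap (MulAut.conj q).toMonoidHom := by
      rw [oddClosure, Subgroup.closure_le]
      rintro x ⟨hxK, hxo⟩
      have := key _ hK ⟨q, hQX hq⟩ hq ⟨x, hKX hxK⟩ hxK (by rwa [Subgroup.orderOf_mk])
      exact this

end CfsgLib.JComp
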