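import Cfsg.Agent.Lib.LocalEven.JComp.Outside

/-!
Two components with different maximal 2-local subgroups bound `Ω₁(Z(J(T)))` by 4 and are normalized
by `T`.
-/

set_option autoImplicit false

open Cfsg CfsgLib.PLocal
open scoped commutatorElement

namespace CfsgLib.JComp

variable {G : Type*} [Group G] [Finite G] {T : Subgroup G}

/-- In an elementary group of order at most four, there is only one subgroup of order two besides
two given ones. -/
theorem two_unique {Z A B C C' : Subgroup G} (hZ : Cfsg.IsElementaryAbelian 2 Z)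
    (hZ4 : Nat.card Z ≤ 4) (hA : A ≤ Z) (hB : B ≤ Z) (hC : C ≤ Z) (hC' : C' ≤ Z)
    (hA2 : Nat.card A = 2) (hB2 : Nat.card B = 2) (hC2 : Nat.card C = 2) (hC2' : Nat.card C' = 2)
    (hAB : A ≠ B) (hCA : C ≠ A) (hCB : C ≠ B) (hCA' : C' ≠ A) (hCB' : C' ≠ B) : C = C' := by
  have key : ∀ D : Subgroup G, Nat.card D = 2 → ∃ d ∈ D, d ≠ 1 ∧ D = Subgroup.zpowers d := by
    intro D hD
    obtain ⟨⟨d, hd⟩, hd1, -⟩ := (Nat.card_eq_two_iff' (1 : D)).1 hD
    refine ⟨d, hd, fun e => hd1 (Subtype.ext e),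
      (Subgroup.eq_of_le_of_card_ge (Subgroup.zpowers_le.2 hd) ?_).symm⟩
    rw [Nat.card_zpowers, hD]
    rcases Nat.lt_or_ge (orderOf d) 2 with h | h
    · exact absurd ((orderOf_eq_one_iff (x := d)).1 (by have := orderOf_pos d; omega))
        (fun e => hd1 (Subtype.ext e))
    · exact h
  obtain ⟨a, ha, ha1, rfl⟩ := key A hA2
  obtain ⟨b, hb, hb1, rfl⟩ := key B hB2
  obtain ⟨c, hc, hc1, rfl⟩ := key C hC2
  obtain ⟨c', hc', hc1', rfl⟩ := key C' hC2'
  have hab : a ≠ b := fun e => hAB (by rw [e])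
  have haa : a * a = 1 := elemAb_sq hZ (hA ha)
  have hab1 : a * b ≠ 1 := fun e => hab (by
    calc a = a * (b * b) := by rw [elemAb_sq hZ (hB hb), mul_one]
      _ = b := by rw [← mul_assoc, e, one_mul])
  have hsub : ({1, a, b, a * b} : Set G) ⊆ Z := by
    rintro y (rfl | rfl | rfl | rfl)
    exacts [Z.one_mem, hA ha, hB hb, Z.mul_mem (hA ha) (hB hb)]
  have h4 : ({1, a, b, a * b} : Set G).ncard = 4 := by
    rw [Set.ncard_insert_of_notMem (by simp [ha1.symm, hb1.symm, hab1.symm]),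
      Set.ncard_insert_of_notMem (by simp [hab, hb1]),
      Set.ncard_pair (fun e => ha1 (right_eq_mul.1 e))]
  have heq := Set.eq_of_subset_of_ncard_le hsub (by rw [h4, ← Nat.card_coe_set_eq]; exact hZ4)
  have pick : ∀ d ∈ Z, d ≠ 1 → Subgroup.zpowers d ≠ Subgroup.zpowers a →
      Subgroup.zpowers d ≠ Subgroup.zpowers b → d = a * b := by
    intro d hd hd1 h1 h2
    have hd' : d ∈ ({1, a, b, a * b} : Set G) := heq ▸ hd
    rcases hd' with rfl | rfl | rfl | rfl
    exacts [absurd rfl hd1, absurd rfl h1, absurd rfl h2, rfl]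
  rw [pick c (hC hc) hc1 hCA hCB, pick c' (hC' hc') hc1' hCA' hCB']

theorem sup_mem_fixed {Z A B : Subgroup G} (h : A ⊔ B = Z) {g : G}
    (hA : ∀ a ∈ A, g * a = a * g) (hB : ∀ b ∈ B, g * b = b * g) : ∀ z ∈ Z, g * z = z * g := by
  intro z hz
  have hle : A ⊔ B ≤ Subgroup.centralizer ({g} : Set G) :=
    sup_le (fun a ha => Subgroup.mem_centralizer_singleton_iff.2 (hA a ha).symm)
      fun b hb => Subgroup.mem_centralizer_singleton_iff.2 (hB b hb).symm
  exact (Subgroup.mem_centralizer_singleton_iff.1 (hle (h.ge hz))).symm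

/-- An element normalizing a group of order at most two centralizes it. -/
theorem comm_of_card_le_two {D : Subgroup G} (hD : Nat.card D ≤ 2) {g : G}
    (hg : g ∈ Subgroup.normalizer (D : Set G)) : ∀ d ∈ D, g * d = d * g := by
  intro d hd
  by_cases hd1 : d = 1
  · rw [hd1, mul_one, one_mul]
  rw [← mul_inv_eq_iff_eq_mul]
  by_contra hne
  have hsub : ({1, d, g * d * g⁻¹} : Set G) ⊆ D := by
    rintro y (rfl | rfl | rfl)
    exacts [D.one_mem, hd, (Subgroup.mem_normalizer_iff.1 hg d).1 hd]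
  have h := Set.ncard_le_ncard hsub
  rw [Set.ncard_insert_of_notMem (by
      simp only [Set.mem_insert_iff, Set.mem_singleton_iff, not_or]
      exact ⟨fun e => hd1 e.symm, fun e => hd1 (conj_eq_one_iff.1 e.symm)⟩),
    Set.ncard_pair (Ne.symm hne), ← Nat.card_coe_set_eq] at h
  exact absurd (h.trans hD) (by norm_num)

theorem Frame.split {M : Subgroup G} (F : Frame T M) {K : Subgroup G}
    (hK : Cfsg.IsJComponent T K) :
    Nat.card ↥(Cfsg.omegaCenterOf (Cfsg.thompsonSubgroupOf 2 T) ⊓ Cfsg.wOf K) = 2 ∧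
    cz T K ⊔ (Cfsg.omegaCenterOf (Cfsg.thompsonSubgroupOf 2 T) ⊓ Cfsg.wOf K) =
      Cfsg.omegaCenterOf (Cfsg.thompsonSubgroupOf 2 T) ∧
    cz T K ⊓ Cfsg.wOf K = ⊥ ∧
    Nat.card ↥(Cfsg.omegaCenterOf (Cfsg.thompsonSubgroupOf 2 T)) = 2 * Nat.card ↥(cz T K) := by
  obtain ⟨h1, h2⟩ := Cfsg.Agent.S2946.result F.zn.char F.zn.solv F.zn.zc T F.pgroup F.ne_bot K hK _ rfl
  set Z₀ := Cfsg.omegaCenterOf (Cfsg.thompsonSubgroupOf 2 T) with hZ₀
  obtain ⟨k, hd⟩ := exists_fourData hK.1 hK.2.2.1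
  have hsup : cz T K ⊔ (Z₀ ⊓ Cfsg.wOf K) = Z₀ := by
    refine le_antisymm (sup_le inf_le_left inf_le_left) ?_
    refine h2.ge.trans (sup_le_sup_right ?_ _)
    intro z hz
    exact ⟨hz.1, Subgroup.mem_centralizer_iff.2 fun g hg =>
      Subgroup.mem_centralizer_iff.1 hz.2.2 g (Or.inl hg)⟩
  have hbot : cz T K ⊓ Cfsg.wOf K = ⊥ := by
    refine (Subgroup.eq_bot_iff_forall _).2 fun u hu => hd.fpf u hu.2 ?_
    rw [Subgroup.mem_centralizer_iff.1 hu.1.2 k hd.mem, mul_inv_cancel_right]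
  refine ⟨h1, hsup, hbot, ?_⟩
  have h3 := CfsgLib.Coprime.card_sup_mul_card_inf (H := cz T K) (N := Z₀ ⊓ Cfsg.wOf K)
    (fun a ha => Subgroup.centralizer_le_normalizer _ (Subgroup.mem_centralizer_iff.2 fun b hb =>
      elemAb_commute (omegaCenterOf_elemAb _) hb.1 ha.1))
  have h4 : (Z₀ ⊓ Cfsg.wOf K) ⊓ cz T K = ⊥ :=
    le_bot_iff.1 ((le_inf inf_le_right (inf_le_left.trans inf_le_right)).trans hbot.le)
  rw [hsup, h4, Subgroup.card_bot, mul_one, h1, mul_comm] at h3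
  exact h3

namespace Above

variable {K K' L L' : Subgroup G}

theorem exists_frame (h : Above T K L) : ∃ M, Frame T M ∧ ¬ K ≤ M ∧ ¬ L ≤ M := by
  obtain ⟨M, F, hKM⟩ := h.frame
  exact ⟨M, F, hKM, fun e => hKM ((le_sup_left.trans h.le).trans e)⟩

theorem le_of_local (h : Above T K L) {R : Subgroup G} (hR : Cfsg.IsTwoLocal R)
    (hle : K ⊔ Cfsg.thompsonSubgroupOf 2 T ≤ R) : R ≤ L := by
  obtain ⟨L'', hL'', hRL⟩ := exists_maximal_ge hR
  exact (h.uniq L'' hL'' (hle.trans hRL)) ▸ hRL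

theorem eq_of_local (h : Above T K L) (h' : Above T K' L') {R : Subgroup G}
    (hR : Cfsg.IsTwoLocal R) (hle : K ⊔ Cfsg.thompsonSubgroupOf 2 T ≤ R)
    (hle' : K' ⊔ Cfsg.thompsonSubgroupOf 2 T ≤ R) : L = L' := by
  obtain ⟨L'', hL'', hRL⟩ := exists_maximal_ge hR
  rw [← h.uniq L'' hL'' (hle.trans hRL), h'.uniq L'' hL'' (hle'.trans hRL)]

theorem cz_disjoint (h : Above T K L) (h' : Above T K' L') (hne : L ≠ L') :
    cz T K ⊓ cz T K' = ⊥ := by
  refine (Subgroup.eq_bot_iff_forall _).2 fun d hd => by_contra fun hd1 => hne ?_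
  have hd2 : orderOf d = 2 := orderOf_eq_prime (hp := ⟨Nat.prime_two⟩)
    (by rw [pow_two]; exact elemAb_sq (omegaCenterOf_elemAb _) hd.1.1) hd1
  have key : ∀ K'' : Subgroup G, d ∈ cz T K'' → K'' ⊔ Cfsg.thompsonSubgroupOf 2 T ≤
      Subgroup.normalizer (Subgroup.zpowers d : Set G) := by
    intro K'' hd'
    refine le_trans (sup_le (fun g hg => ?_) fun g hg => ?_)
      (Subgroup.centralizer_le_normalizer (Subgroup.zpowers d : Set G))
    · rw [Subgroup.zpowers_eq_closure, Subgroup.centralizer_closure]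
      refine Subgroup.mem_centralizer_singleton_iff.2 ?_
      exact Subgroup.mem_centralizer_iff.1 hd'.2 g hg
    · rw [Subgroup.zpowers_eq_closure, Subgroup.centralizer_closure]
      exact Subgroup.mem_centralizer_singleton_iff.2 (omegaCenterOf_comm _ hd'.1 hg)
  exact h.eq_of_local h' ⟨Subgroup.zpowers d, IsPGroup.of_card (n := 1) (by
      rw [Nat.card_zpowers, hd2, pow_one]), fun e => hd1 (Subgroup.zpowers_eq_bot.1 e), rfl⟩
    (key K hd.1) (key K' hd.2)

theorem card_le_four (h : Above T K L) (h' : Above T K' L') (hne : L ≠ L') :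
    Nat.card ↥(Cfsg.omegaCenterOf (Cfsg.thompsonSubgroupOf 2 T)) ≤ 4 := by
  obtain ⟨M, F, -, -⟩ := h.exists_frame
  obtain ⟨-, -, -, e⟩ := F.split h.comp
  obtain ⟨-, -, -, e'⟩ := F.split h'.comp
  set Z₀ := Cfsg.omegaCenterOf (Cfsg.thompsonSubgroupOf 2 T) with hZ₀
  have h3 := CfsgLib.Coprime.card_sup_mul_card_inf (H := cz T K) (N := cz T K')
    (fun a ha => Subgroup.centralizer_le_normalizer _ (Subgroup.mem_centralizer_iff.2 fun b hb =>
      elemAb_commute (omegaCenterOf_elemAb _) hb.1 ha.1))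
  rw [inf_comm, h.cz_disjoint h' hne, Subgroup.card_bot, mul_one] at h3
  have h4 : Nat.card ↥(cz T K ⊔ cz T K') ≤ Nat.card ↥Z₀ :=
    Subgroup.card_le_of_le (sup_le inf_le_left inf_le_left)
  rw [h3, e] at h4
  rw [e]
  have hpos : 0 < Nat.card ↥(cz T K) := Nat.card_pos
  have h5 : Nat.card ↥(cz T K') ≤ 2 :=
    Nat.le_of_mul_le_mul_left (by rwa [mul_comm 2] at h4) hpos
  omega

theorem conj (h : Above T K L) {g : G}
    (hg : g ∈ Subgroup.normalizer (Cfsg.thompsonSubgroupOf 2 T : Set G)) :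
    Above T (K.map (MulAut.conj g).toMonoidHom) (L.map (MulAut.conj g).toMonoidHom) := by
  obtain ⟨M, F, hKM, -⟩ := h.exists_frame
  have hgM : g ∈ M := F.normalizer_J hg
  have hJ : (Cfsg.thompsonSubgroupOf 2 T).map (MulAut.conj g).toMonoidHom =
      Cfsg.thompsonSubgroupOf 2 T := CfsgLib.LocalEven.map_conj_eq_self hg
  refine ⟨jComponent_conj_self h.comp hg, isMaximalTwoLocal_conj h.max g, ?_, fun L' hL' hle => ?_,
    M, F, fun hle => hKM ?_⟩
  · calc _ = (K ⊔ Cfsg.thompsonSubgroupOf 2 T).map (MulAut.conj g).toMonoidHom := by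
          rw [Subgroup.map_sup, hJ]
      _ ≤ _ := Subgroup.map_mono h.le
  · have hle' : (K ⊔ Cfsg.thompsonSubgroupOf 2 T).map (MulAut.conj g).toMonoidHom ≤ L' := by
      rw [Subgroup.map_sup, hJ]; exact hle
    rw [← h.uniq _ (isMaximalTwoLocal_conj hL' g⁻¹) (map_conj_le_iff.1 hle'), map_conj_inv]
  · exact (map_conj_le_iff.1 hle).trans
      (CfsgLib.LocalEven.map_conj_eq_self (Subgroup.le_normalizer (M.inv_mem hgM))).le

/-- An element of `L` normalizing `J(T)` normalizes `K`, given a second maximal 2-local subgroup. -/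
theorem mem_normalizer (h : Above T K L) (h' : Above T K' L') (hne : L' ≠ L) {s : G}
    (hs : s ∈ Subgroup.normalizer (Cfsg.thompsonSubgroupOf 2 T : Set G)) (hsL : s ∈ L) :
    s ∈ Subgroup.normalizer (K : Set G) := by
  by_contra hcon
  set Z₀ := Cfsg.omegaCenterOf (Cfsg.thompsonSubgroupOf 2 T) with hZ₀
  set f := (MulAut.conj s).toMonoidHom with hf
  have hLs : L.map f = L := CfsgLib.LocalEven.map_conj_eq_self (Subgroup.le_normalizer hsL)
  set K₁ := K.map f with hK₁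
  have hne₁ : K ≠ K₁ := fun e => hcon (CfsgLib.LocalEven.mem_normalizer_of_map_conj_eq e.symm)
  have h₁ : Above T K₁ L := by
    have := h.conj hs
    rwa [hLs] at this
  have hZ4 : Nat.card ↥Z₀ ≤ 4 := h.card_le_four h' hne.symm
  -- two distinct components below one maximal 2-local subgroup
  have two : ∀ A B R : Subgroup G, Above T A R → Above T B R → A ≠ B →
      cz T A = Z₀ ⊓ Cfsg.wOf B ∧ Nat.card ↥(cz T A) = 2 := by
    intro A B R hA hB hAB
    obtain ⟨M, F, -, hRM⟩ := hA.exists_frame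
    obtain ⟨-, hp⟩ := F.pair hA.max.1 hRM (le_sup_right.trans hA.le)
      (show A ∈ compSet T R from ⟨hA.comp, le_sup_left.trans hA.le⟩)
      (show B ∈ compSet T R from ⟨hB.comp, le_sup_left.trans hB.le⟩)
    obtain ⟨-, hcen⟩ := hp.resolve_left hAB
    obtain ⟨-, -, -, e⟩ := F.split hA.comp
    obtain ⟨eB, -, -, -⟩ := F.split hB.comp
    rw [← hZ₀] at e eB
    have hle : Z₀ ⊓ Cfsg.wOf B ≤ cz T A := fun z hz => ⟨hz.1, hcen hz.2⟩
    have h2 : Nat.card ↥(cz T A) ≤ 2 := by omega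
    have heq := (Subgroup.eq_of_le_of_card_ge hle (eB ▸ h2)).symm
    exact ⟨heq, heq ▸ eB⟩
  obtain ⟨hcK, hc2⟩ := two K K₁ L h h₁ hne₁
  obtain ⟨hcK₁, hc₁2⟩ := two K₁ K L h₁ h hne₁.symm
  obtain ⟨M, F, -, -⟩ := h.exists_frame
  obtain ⟨eK, -, hKbot, -⟩ := F.split h.comp
  have hneC : ∀ A B : Subgroup G, Nat.card ↥(cz T A) = 2 → cz T A ⊓ cz T B = ⊥ →
      cz T B ≠ cz T A := by
    intro A B hA hAB e
    rw [e, inf_idem] at hAB
    rw [hAB, Subgroup.card_bot] at hA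
    norm_num at hA
  have hCK : cz T K₁ ≠ cz T K := by
    intro e
    rw [← e, hcK₁, inf_assoc, inf_idem] at hKbot
    rw [← hZ₀, hKbot, Subgroup.card_bot] at eK
    norm_num at eK
  -- conjugates of `K'`
  set K'' := K'.map f with hK''
  set L'' := L'.map f with hL''
  have h'' : Above T K'' L'' := h'.conj hs
  have hL''ne : L'' ≠ L := fun e => hne (Subgroup.map_injective (MulAut.conj s).injective
    (e.trans hLs.symm))
  obtain ⟨eK', -, hK'bot, hZK'⟩ := F.split h'.comp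
  obtain ⟨-, -, -, hZK''⟩ := F.split h''.comp
  obtain ⟨-, -, -, hZK⟩ := F.split h.comp
  rw [← hZ₀] at eK' hZK' hZK'' hZK
  have hD2 : Nat.card ↥(cz T K') = 2 := by omega
  have hD2' : Nat.card ↥(cz T K'') = 2 := by omega
  have hZe : Cfsg.IsElementaryAbelian 2 Z₀ := omegaCenterOf_elemAb _
  have huniq := fun C (hC : C ≤ Z₀) (hC2 : Nat.card ↥C = 2) (hA : C ≠ cz T K) (hB : C ≠ cz T K₁) =>
    two_unique hZe hZ4 (inf_le_left : cz T K ≤ Z₀) (inf_le_left : cz T K₁ ≤ Z₀)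
      (inf_le_left : cz T K' ≤ Z₀) hC hc2 hc₁2 hD2 hC2 hCK.symm
      (hneC K K' hc2 (h.cz_disjoint h' hne.symm)) (hneC K₁ K' hc₁2 (h₁.cz_disjoint h' hne.symm))
      hA hB
  have hD : cz T K' = cz T K'' := huniq _ inf_le_left hD2'
    (hneC K K'' hc2 (h.cz_disjoint h'' hL''ne.symm))
    (hneC K₁ K'' hc₁2 (h₁.cz_disjoint h'' hL''ne.symm))
  have hLeq : L' = L'' := by
    by_contra hne'
    exact hneC K' K'' hD2 (h'.cz_disjoint h'' hne') hD.symm
  have hWne : Z₀ ⊓ Cfsg.wOf K' ≠ cz T K' := by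
    intro e
    rw [← e, inf_assoc, inf_idem] at hK'bot
    rw [hK'bot, Subgroup.card_bot] at eK'
    norm_num at eK'
  by_cases hKK : K' = K''
  · -- `s` fixes `Z₀ ⊓ W'`, which is one of `cz K`, `cz K₁`
    have hfix : (Z₀ ⊓ Cfsg.wOf K').map f = Z₀ ⊓ Cfsg.wOf K' := by
      rw [Subgroup.map_inf _ _ _ (MulAut.conj s).injective, hf, omega_conj_self hs, ← wOf_conj,
        ← hf, ← hK'', ← hKK]
    have hmap : cz T K₁ = (cz T K).map f := cz_conj K hs
    by_cases hA : Z₀ ⊓ Cfsg.wOf K' = cz T K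
    · exact hCK (by rw [hmap, ← hA, hfix])
    by_cases hB : Z₀ ⊓ Cfsg.wOf K' = cz T K₁
    · refine hCK (Subgroup.map_injective (f := f) (MulAut.conj s).injective ?_)
      rw [← hmap, ← hB, hfix]
    exact hWne (huniq _ inf_le_left eK' hA hB).symm
  · have h''' : Above T K'' L' := hLeq.symm ▸ h''
    obtain ⟨e1, -⟩ := two K'' K' L' h''' h' (Ne.symm hKK)
    exact hWne (hD.trans e1).symm

theorem centralizes (h : Above T K L) (h' : Above T K' L') (hne : L' ≠ L) {s : G}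
    (hs : s ∈ Subgroup.normalizer (Cfsg.thompsonSubgroupOf 2 T : Set G))
    (hsK : s ∈ Subgroup.normalizer (K : Set G)) :
    ∀ z ∈ Cfsg.omegaCenterOf (Cfsg.thompsonSubgroupOf 2 T), s * z = z * s := by
  obtain ⟨M, F, -, -⟩ := h.exists_frame
  obtain ⟨e, hsup, -, hcard⟩ := F.split h.comp
  have h4 := h.card_le_four h' hne.symm
  refine sup_mem_fixed hsup (comm_of_card_le_two (by omega) ?_) (comm_of_card_le_two e.le ?_)
  · refine CfsgLib.LocalEven.mem_normalizer_of_map_conj_eq ?_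
    rw [← cz_conj K hs, CfsgLib.LocalEven.map_conj_eq_self hsK]
  · refine CfsgLib.LocalEven.mem_normalizer_of_map_conj_eq ?_
    rw [Subgroup.map_inf _ _ _ (MulAut.conj s).injective, omega_conj_self hs,
      CfsgLib.LocalEven.map_conj_eq_self (normalizer_le_normalizer_wOf K hsK)]

end Above

end CfsgLib.JComp
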