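import Cfsg.Agent.Lib.LocalEven.JComp.Moved
import Cfsg.Agent.Lib.LocalEven.JComp.Basic
import Cfsg.Agent.Lib.OddOrder.PuigSeries

/-!
The four-group bound: if a maximal elementary abelian subgroup contains an element inverting a
fixed point free element of odd order on `U ≤ T`, while a subgroup of index two commutes with it,
then `|U| ≤ 4`.
-/

set_option autoImplicit false

open Cfsg CfsgLib.PLocal

namespace CfsgLib.JComp

section Abstract

variable {V : Type*} [CommGroup V] [Finite V]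

theorem exists_split (hV : Exp2 V) {N : Subgroup V} {e : V} (he : e ∈ N) (he1 : e ≠ 1) :
    ∃ N₁ ≤ N, e ∉ N₁ ∧ (∀ v ∈ N, v ∈ N₁ ∨ v * e ∈ N₁) ∧ 2 * Nat.card N₁ ≤ Nat.card N := by
  obtain ⟨N₁, -, ⟨hN₁, hN₁e⟩, hmax⟩ := (Set.toFinite {X : Subgroup V | X ≤ N ∧ e ∉ X}).exists_le_maximal
    (a := (⊥ : Subgroup V)) ⟨bot_le, by rwa [Subgroup.mem_bot]⟩
  refine ⟨N₁, hN₁, hN₁e, fun v hv => ?_, ?_⟩
  · by_contra hcon
    push Not at hcon
    have h : e ∈ N₁ ⊔ Subgroup.zpowers v := by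
      by_contra h
      exact hcon.1 (hmax ⟨sup_le hN₁ (Subgroup.zpowers_le.2 hv), h⟩ le_sup_left
        (Subgroup.mem_sup_right (Subgroup.mem_zpowers v)))
    obtain ⟨n, hn, w, hw, hnw⟩ := exists_mul_of_sup h
    obtain ⟨i, rfl⟩ := Subgroup.mem_zpowers_iff.1 hw
    rcases Int.even_or_odd' i with ⟨j, rfl | rfl⟩
    · rw [zpow_mul, zpow_two, hV, one_zpow, mul_one] at hnw
      exact hN₁e (hnw ▸ hn)
    · rw [zpow_add, zpow_mul, zpow_two, hV, one_zpow, one_mul, zpow_one] at hnw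
      apply hcon.2
      have e1 : v * e = n := by
        rw [← hnw, mul_comm n v, ← mul_assoc, hV, one_mul]
      rw [e1]; exact hn
  · have hz : Nat.card (Subgroup.zpowers e) = 2 := by
      rw [Nat.card_zpowers]
      exact orderOf_eq_prime (hp := ⟨Nat.prime_two⟩) (by rw [pow_two, hV]) he1
    have hd : N₁ ⊓ Subgroup.zpowers e = ⊥ := by
      rw [Subgroup.eq_bot_iff_forall]
      rintro w ⟨h1, h2⟩
      obtain ⟨i, rfl⟩ := Subgroup.mem_zpowers_iff.1 h2
      rcases Int.even_or_odd' i with ⟨j, rfl | rfl⟩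
      · rw [zpow_mul, zpow_two, hV, one_zpow]
      · exfalso
        apply hN₁e
        rw [zpow_add, zpow_mul, zpow_two, hV e, one_zpow, one_mul, zpow_one] at h1
        exact h1
    have h := Subgroup.card_le_of_le (sup_le hN₁ (Subgroup.zpowers_le.2 he))
    rw [card_sup_of_disjoint hd, hz] at h
    omega

theorem card_hom_le (hV : Exp2 V) : ∀ (n : ℕ) (N : Subgroup V), Nat.card N ≤ n →
    Nat.card (N →* Multiplicative (ZMod 2)) ≤ Nat.card N := by
  intro n
  induction n with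
  | zero => intro N h; have := Nat.card_pos (α := N); omega
  | succ n ih =>
    intro N hn
    rcases eq_or_ne N ⊥ with rfl | hN
    · haveI : Subsingleton ((⊥ : Subgroup V) →* Multiplicative (ZMod 2)) :=
        ⟨fun f g => MonoidHom.ext fun x => by rw [Subsingleton.elim x 1, map_one, map_one]⟩
      rw [Subgroup.card_bot]
      exact Finite.card_le_one_iff_subsingleton.2 inferInstance
    obtain ⟨⟨e, he⟩, he1'⟩ := Subgroup.ne_bot_iff_exists_ne_one.1 hN
    obtain ⟨N₁, hle, -, hsplit, hcard⟩ := exists_split hV he fun h => he1' (Subtype.ext h)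
    have h1 := ih N₁ (by have := Nat.card_pos (α := N₁); omega)
    let F : (N →* Multiplicative (ZMod 2)) →
        (N₁ →* Multiplicative (ZMod 2)) × Multiplicative (ZMod 2) :=
      fun f => (f.comp (Subgroup.inclusion hle), f ⟨e, he⟩)
    have hF : Function.Injective F := by
      intro f g h
      have h2 : ∀ x : N₁, f (Subgroup.inclusion hle x) = g (Subgroup.inclusion hle x) := fun x =>
        DFunLike.congr_fun (congrArg Prod.fst h) x
      have h3 : f ⟨e, he⟩ = g ⟨e, he⟩ := congrArg Prod.snd h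
      refine MonoidHom.ext fun x => ?_
      rcases hsplit x x.2 with hx | hx
      · exact h2 ⟨x, hx⟩
      · have h4 := h2 ⟨_, hx⟩
        have e1 : (Subgroup.inclusion hle ⟨_, hx⟩ : N) = x * ⟨e, he⟩ := rfl
        rw [e1, map_mul, map_mul, h3] at h4
        exact mul_right_cancel h4
    haveI : Finite (N₁ →* Multiplicative (ZMod 2)) :=
      Finite.of_injective _ DFunLike.coe_injective
    refine (Nat.card_le_card_of_injective F hF).trans ?_
    rw [Nat.card_prod, show Nat.card (Multiplicative (ZMod 2)) = 2 by simp]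
    omega

/-- A commutative group `I` of exponent two, faithful on `M` with a single nontrivial fixed point,
has order at most `|M| / 2`. -/
theorem card_le_of_fix (hV : Exp2 V) {I : Subgroup (MulAut V)}
    (hIc : ∀ i ∈ I, ∀ j ∈ I, i * j = j * i) (hI2 : ∀ i ∈ I, i * i = 1) {M : Subgroup V}
    (hinv : ∀ i ∈ I, ∀ v ∈ M, i v ∈ M)
    (hfix : Nat.card ↥(M ⊓ fixAll (I : Set (MulAut V))) = 2)
    (hf : ∀ i ∈ I, (∀ v ∈ M, i v = v) → i = 1) : 2 * Nat.card I ≤ Nat.card M := by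
  classical
  obtain ⟨⟨e, he⟩, he1', heu⟩ := (Nat.card_eq_two_iff' (1 : ↥(M ⊓ fixAll (I : Set (MulAut V))))).1 hfix
  have he1 : e ≠ 1 := fun h => he1' (Subtype.ext h)
  obtain ⟨N, hle, heN, hsplit, hcard⟩ := exists_split hV he.1 he1
  -- the functional
  have hNN : ∀ v ∈ M, ∀ w ∈ M, v ∉ N → w ∉ N → v * w ∈ N := by
    intro v hv w hw h1 h2
    have := N.mul_mem ((hsplit v hv).resolve_left h1) ((hsplit w hw).resolve_left h2)
    rwa [mul_mul_mul_comm, hV, mul_one] at this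
  let f : V → Multiplicative (ZMod 2) := fun v => if v ∈ N then 1 else Multiplicative.ofAdd 1
  have hfmul : ∀ v ∈ M, ∀ w ∈ M, f (v * w) = f v * f w := by
    intro v hv w hw
    by_cases h1 : v ∈ N <;> by_cases h2 : w ∈ N
    · simp [f, h1, h2, N.mul_mem h1 h2]
    · have : v * w ∉ N := fun h => h2 (by simpa using N.mul_mem (N.inv_mem h1) h)
      simp [f, h1, h2, this]
    · have : v * w ∉ N := fun h => h1 (by simpa using N.mul_mem h (N.inv_mem h2))
      simp [f, h1, h2, this]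
    · simp only [f, h1, h2, if_false, hNN v hv w hw h1 h2, if_true]
      decide
  have hiN : ∀ i ∈ I, ∀ v ∈ N, i v * v ∈ M := fun i hi v hv =>
    M.mul_mem (hinv i hi v (hle hv)) (hle hv)
  let Φ : I → (N →* Multiplicative (ZMod 2)) := fun i =>
    MonoidHom.mk' (fun v => f ((i : MulAut V) v * v)) fun v w => by
      rw [Subgroup.coe_mul, map_mul, mul_mul_mul_comm, hfmul _ (hiN i i.2 v v.2) _ (hiN i i.2 w w.2)]
  have hΦ : Function.Injective Φ := by
    rintro ⟨i, hi⟩ ⟨j, hj⟩ h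
    have hN : ∀ v ∈ N, f (i v) = f (j v) := by
      intro v hv
      have h1 : f (i v * v) = f (j v * v) := DFunLike.congr_fun h ⟨v, hv⟩
      rw [hfmul _ (hinv i hi v (hle hv)) _ (hle hv), hfmul _ (hinv j hj v (hle hv)) _ (hle hv)] at h1
      exact mul_right_cancel h1
    have hfe : ∀ i ∈ I, i e = e := fun i hi => mem_fixAll.1 he.2 i hi
    have hM : ∀ v ∈ M, f (i v) = f (j v) := by
      intro v hv
      rcases hsplit v hv with hv' | hv'
      · exact hN v hv'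
      · have h1 := hN _ hv'
        rw [map_mul, map_mul, hfe i hi, hfe j hj, hfmul _ (hinv i hi v hv) _ he.1,
          hfmul _ (hinv j hj v hv) _ he.1] at h1
        exact mul_right_cancel h1
    set k := i * j with hk
    have hkI : k ∈ I := I.mul_mem hi hj
    have hW : ∀ w ∈ M.map (dv k), f w = 1 := by
      rintro _ ⟨v, hv, rfl⟩
      have h1 := hM _ (hinv j hj v hv)
      have h2 : j (j v) = v := by rw [← MulAut.mul_apply, hI2 j hj, MulAut.one_apply]
      rw [h2] at h1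
      rw [dv_apply, hfmul _ (hinv k hkI v hv) _ hv, hk, MulAut.mul_apply, h1]
      revert hv
      generalize f v = c
      intro _
      revert c
      decide
    suffices hk1 : k = 1 by
      apply Subtype.ext
      calc i = i * (j * j) := by rw [hI2 j hj, mul_one]
        _ = j := by rw [← mul_assoc, ← hk, hk1, one_mul]
    refine hf k hkI fun v hv => ?_
    by_contra hne
    have hWinv : ∀ i ∈ I, ∀ w ∈ M.map (dv k), i w ∈ M.map (dv k) := fun i hi w hw =>
      apply_mem_map_dv (hIc i hi k hkI) (hinv i hi) hw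
    obtain ⟨W, -, ⟨hW1, hWM, hWi⟩, hmin⟩ :=
      (Set.toFinite {X : Subgroup V | X ≠ ⊥ ∧ X ≤ M.map (dv k) ∧ ∀ i ∈ I, ∀ w ∈ X, i w ∈ X}).exists_le_minimal
        (a := M.map (dv k)) ⟨fun h => hne ((dv_eq_one_iff hV).1
          ((Subgroup.eq_bot_iff_forall _).1 h _ ⟨v, hv, rfl⟩)), le_rfl, hWinv⟩
    have hfixed : ∀ i ∈ I, W ≤ fx i := by
      intro i hi
      have hne' : W ⊓ fx i ≠ ⊥ := by
        intro h
        obtain ⟨⟨w, hw⟩, hw1⟩ := Subgroup.ne_bot_iff_exists_ne_one.1 hW1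
        have h1 : dv i w ∈ W ⊓ fx i := ⟨W.mul_mem (hWi i hi w hw) hw, dv_mem_fx (hI2 i hi) w⟩
        rw [h, Subgroup.mem_bot, dv_eq_one_iff hV] at h1
        have h2 : w ∈ W ⊓ fx i := ⟨hw, h1⟩
        rw [h, Subgroup.mem_bot] at h2
        exact hw1 (Subtype.ext h2)
      exact (hmin ⟨hne', inf_le_left.trans hWM, fun j hj w hw =>
        ⟨hWi j hj w hw.1, apply_mem_fx (hIc j hj i hi) hw.2⟩⟩ inf_le_left).trans inf_le_right
    obtain ⟨⟨w, hw⟩, hw1⟩ := Subgroup.ne_bot_iff_exists_ne_one.1 hW1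
    have hwM : w ∈ M := by
      obtain ⟨u, hu, rfl⟩ := hWM hw
      exact M.mul_mem (hinv k hkI u hu) hu
    have := heu ⟨w, hwM, mem_fixAll.2 fun i hi => hfixed i hi hw⟩
      fun h => hw1 (Subtype.ext (show w = 1 from congrArg Subtype.val h))
    have hwe : w = e := congrArg Subtype.val this
    have h3 := hW w (hWM hw)
    rw [hwe] at h3
    simp [f, heN] at h3
  haveI : Finite (N →* Multiplicative (ZMod 2)) := Finite.of_injective _ DFunLike.coe_injective
  have h1 := (Nat.card_le_card_of_injective Φ hΦ).trans (card_hom_le hV _ N le_rfl)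
  omega

end Abstract

variable {G : Type*} [Group G] [Finite G]

omit [Finite G] in
theorem elemAb_sq {A : Subgroup G} (hA : Cfsg.IsElementaryAbelian 2 A) {a : G} (ha : a ∈ A) :
    a * a = 1 := by rw [← pow_two]; exact hA.2 a ha

open scoped IsMulCommutative in
/-- The four-group bound. -/
theorem card_le_four {T A U A₁ : Subgroup G} (hA : IsMaxElemIn 2 T A) (hUT : U ≤ T)
    (hT : IsPGroup 2 T) (hU : Cfsg.IsElementaryAbelian 2 U)
    (hAU : A ≤ Subgroup.normalizer (U : Set G)) {k : G} (hk : Odd (orderOf k))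
    (hkU : k ∈ Subgroup.normalizer (U : Set G)) (hfix : ∀ u ∈ U, k * u * k⁻¹ = u → u = 1)
    {a : G} (ha : a ∈ A) (hinv : ∀ u ∈ U, a * k * a⁻¹ * u * (a * k * a⁻¹)⁻¹ = k⁻¹ * u * k)
    (hA₁ : A₁ ≤ A) (hcase : ∀ b ∈ A, b ∈ A₁ ∨ a * b ∈ A₁)
    (hcomm : ∀ b ∈ A₁, ∀ u ∈ U, b * k * b⁻¹ * u * (b * k * b⁻¹)⁻¹ = k * u * k⁻¹) :
    Nat.card U ≤ 4 := by
  classical
  haveI : Fact (Nat.Prime 2) := ⟨Nat.prime_two⟩
  haveI := hU.1
  rcases eq_or_ne U ⊥ with rfl | hU1
  · rw [Subgroup.card_bot]; norm_num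
  set N := Subgroup.normalizer (U : Set G) with hN
  set ψ := U.normalizerMonoidHom with hψ
  have hψa : ∀ (g : G) (hg : g ∈ N) (u : U), (((ψ ⟨g, hg⟩) u : U) : G) = g * u * g⁻¹ :=
    fun _ _ _ => rfl
  have hV : Exp2 U := fun u => Subtype.ext (elemAb_sq hU u.2)
  set x := ψ ⟨k, hkU⟩ with hx
  set α := ψ ⟨a, hAU ha⟩ with hα
  have hxo : Odd (orderOf x) :=
    hk.of_dvd_nat ((orderOf_map_dvd ψ _).trans (by rw [Subgroup.orderOf_mk]))
  have hα2 : α * α = 1 := by
    rw [hα, ← map_mul, show (⟨a, hAU ha⟩ : N) * ⟨a, hAU ha⟩ = 1 from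
      Subtype.ext (elemAb_sq hA.2.1 ha), map_one]
  have hαx : α * x * α⁻¹ = x⁻¹ := by
    refine MulEquiv.ext fun u => Subtype.ext ?_
    have h1 : (((α * x * α⁻¹) u : U) : G) = a * k * a⁻¹ * (u : G) * (a * k * a⁻¹)⁻¹ := by
      rw [hα, hx, ← map_inv, ← map_mul, ← map_mul]
      exact hψa _ _ _
    have h2 : (((x⁻¹) u : U) : G) = k⁻¹ * (u : G) * k := by
      rw [hx, ← map_inv]
      exact (hψa _ _ _).trans (by simp [mul_assoc])
    rw [h1, h2, hinv u u.2]
  have hcx : ∀ (b : G) (hb : b ∈ A₁), ψ ⟨b, hAU (hA₁ hb)⟩ * x = x * ψ ⟨b, hAU (hA₁ hb)⟩ := by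
    intro b hb
    rw [← mul_inv_eq_iff_eq_mul]
    refine MulEquiv.ext fun u => Subtype.ext ?_
    rw [hx, ← map_inv, ← map_mul, ← map_mul]
    exact (hψa _ _ _).trans ((hcomm b hb u u.2).trans (hψa _ _ _).symm)
  have hcab : ∀ (b c : G) (hb : b ∈ A) (hc : c ∈ A),
      ψ ⟨b, hAU hb⟩ * ψ ⟨c, hAU hc⟩ = ψ ⟨c, hAU hc⟩ * ψ ⟨b, hAU hb⟩ := by
    intro b c hb hc
    rw [← map_mul, ← map_mul]
    exact congrArg ψ (Subtype.ext (elemAb_commute hA.2.1 hb hc))
  have hfpf : (⊤ : Subgroup U) ⊓ fx x = ⊥ := by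
    rw [Subgroup.eq_bot_iff_forall]
    rintro u ⟨-, hu⟩
    exact Subtype.ext (hfix u u.2 ((hψa k hkU u).symm.trans (congrArg Subtype.val hu)))
  obtain ⟨hUC, hUgen⟩ := card_half hV hα2 hαx hxo (U := ⊤) (fun _ _ => trivial) (fun _ _ => trivial) hfpf
  rw [top_inf_eq] at hUC hUgen
  rw [Subgroup.card_top] at hUC
  -- the image of `A₁`
  set I : Subgroup (MulAut U) := (A₁.subgroupOf N).map ψ with hI
  have hImem : ∀ i ∈ I, ∃ (b : G) (hb : b ∈ A₁), ψ ⟨b, hAU (hA₁ hb)⟩ = i := by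
    rintro _ ⟨⟨b, hb⟩, hb', rfl⟩
    exact ⟨b, hb', rfl⟩
  have hIx : ∀ i ∈ I, i * x = x * i := by
    intro i hi; obtain ⟨b, hb, rfl⟩ := hImem i hi; exact hcx b hb
  have hIα : ∀ i ∈ I, i * α = α * i := by
    intro i hi; obtain ⟨b, hb, rfl⟩ := hImem i hi; exact hcab b a (hA₁ hb) ha
  set C₀ := fx α ⊓ fixAll (I : Set (MulAut U)) with hC₀
  set C₁ := fixAll (I : Set (MulAut U)) with hC₁
  have hC₁inv : ∀ g : MulAut U, (∀ i ∈ I, i * g = g * i) → ∀ u ∈ C₁, g u ∈ C₁ := fun g hg u hu =>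
    mem_fixAll.2 fun i hi => by
      rw [← MulAut.mul_apply, hg i hi, MulAut.mul_apply, mem_fixAll.1 hu i hi]
  obtain ⟨hC₁C, -⟩ := card_half hV hα2 hαx hxo (hC₁inv α hIα) (hC₁inv x hIx)
    (le_bot_iff.1 ((inf_le_inf_right _ le_top).trans hfpf.le))
  rw [inf_comm, ← hC₀] at hC₁C
  have hC₀A : ∀ u ∈ C₀, ∀ b ∈ A, b * (u : G) = (u : G) * b := by
    intro u hu b hb
    have hfix' : ψ ⟨b, hAU hb⟩ u = u := by
      rcases hcase b hb with h | h
      · exact mem_fixAll.1 hu.2 _ ⟨⟨b, hAU hb⟩, h, rfl⟩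
      · have e : ψ ⟨b, hAU hb⟩ = α * ψ ⟨a * b, hAU (hA₁ h)⟩ := by
          rw [hα, ← map_mul]
          exact congrArg ψ (Subtype.ext (by
            simp [← mul_assoc, elemAb_sq hA.2.1 ha]))
        rw [e, MulAut.mul_apply, mem_fixAll.1 hu.2 _ ⟨⟨a * b, hAU (hA₁ h)⟩, h, rfl⟩, hu.1]
    exact mul_inv_eq_iff_eq_mul.1 ((hψa b (hAU hb) u).symm.trans (congrArg Subtype.val hfix'))
  have hmemC₀ : ∀ (u : G) (hu : u ∈ U), u ∈ A → (⟨u, hu⟩ : U) ∈ C₀ := by
    intro u hu huA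
    have h : ∀ (b : G) (hb : b ∈ A), ψ ⟨b, hAU hb⟩ ⟨u, hu⟩ = ⟨u, hu⟩ := fun b hb =>
      Subtype.ext ((hψa b (hAU hb) ⟨u, hu⟩).trans
        (mul_inv_eq_iff_eq_mul.2 (elemAb_commute hA.2.1 hb huA)))
    exact ⟨h a ha, mem_fixAll.2 fun i hi => by
      obtain ⟨b, hb, rfl⟩ := hImem i hi; exact h b (hA₁ hb)⟩
  have hA2 : Nat.card A ≤ 2 * Nat.card A₁ := by
    let F : A → A₁ × Bool := fun b => if h : (b : G) ∈ A₁ then (⟨b, h⟩, true)
      else (⟨a * b, (hcase b b.2).resolve_left h⟩, false)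
    have hF : Function.Injective F := by
      intro b c h
      by_cases hb : (b : G) ∈ A₁ <;> by_cases hc : (c : G) ∈ A₁ <;>
        simp [F, hb, hc] at h
      · exact h
      · exact h
    have := Nat.card_le_card_of_injective F hF
    rwa [Nat.card_prod, show Nat.card Bool = 2 by simp, mul_comm] at this
  -- `A₁ C₁` is elementary abelian
  set C₁' := C₁.map U.subtype with hC₁'
  have hC₁U : C₁' ≤ U := Subgroup.map_subtype_le _
  have hAC : A₁ ≤ Subgroup.centralizer (C₁' : Set G) := by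
    intro b hb
    rw [Subgroup.mem_centralizer_iff]
    rintro _ ⟨u, hu, rfl⟩
    exact (mul_inv_eq_iff_eq_mul.1 ((hψa b (hAU (hA₁ hb)) u).symm.trans
      (congrArg Subtype.val (mem_fixAll.1 hu _ ⟨⟨b, hAU (hA₁ hb)⟩, hb, rfl⟩)))).symm
  have hc1 : Nat.card C₁' = Nat.card C₁ := Subgroup.card_map_of_injective U.subtype_injective
  have h1 := hA.2.2 (A₁ ⊔ C₁') (sup_le (hA₁.trans hA.1) (hC₁U.trans hUT))
    (elemAb_sup (elemAb_of_le hA.2.1 hA₁) (elemAb_of_le hU hC₁U) hAC)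
  have h2 : Nat.card ↥(C₁' ⊓ A₁) ≤ Nat.card C₀ := by
    rw [← Subgroup.card_map_of_injective (K := C₀) U.subtype_injective]
    refine Subgroup.card_le_of_le ?_
    rintro _ ⟨⟨u, -, rfl⟩, hA1⟩
    exact ⟨u, hmemC₀ u u.2 (hA₁ hA1), rfl⟩
  have h3 := CfsgLib.Coprime.card_sup_mul_card_inf (H := A₁) (N := C₁')
    (hAC.trans (Subgroup.centralizer_le_normalizer _))
  have hpos₀ : 0 < Nat.card C₀ := Nat.card_pos
  have hpos₁ : 0 < Nat.card A₁ := Nat.card_pos
  have hle2 : Nat.card C₀ ≤ 2 := by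
    rw [hc1, hC₁C] at h3
    have h4 : Nat.card A₁ * (Nat.card C₀ * Nat.card C₀) ≤ 2 * Nat.card A₁ * Nat.card C₀ :=
      h3.symm.trans_le (Nat.mul_le_mul (h1.trans hA2) h2)
    exact Nat.le_of_mul_le_mul_right (Nat.le_of_mul_le_mul_left
      (by linarith : Nat.card A₁ * (Nat.card C₀ * Nat.card C₀) ≤ Nat.card A₁ * (2 * Nat.card C₀))
      hpos₁) hpos₀
  have hC₀1 : C₀ ≠ ⊥ := by
    set P := A ⊔ U with hP
    have hPp : IsPGroup 2 P := hT.to_le (sup_le hA.1 hUT)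
    haveI : Group.IsNilpotent P := hPp.isNilpotent
    haveI hn : (U.subgroupOf P).Normal := (Subgroup.normal_subgroupOf_iff_le_normalizer le_sup_right).2
      (sup_le hAU Subgroup.le_normalizer)
    have hne : U.subgroupOf P ≠ ⊥ := by
      rw [Ne, Subgroup.subgroupOf_eq_bot]
      exact fun h => hU1 (disjoint_self.1 (h.mono_right le_sup_right))
    obtain ⟨z, hz⟩ := Subgroup.ne_bot_iff_exists_ne_one.1
      (CfsgLib.OddOrder.PuigSeries.inf_center_ne_bot _ hne)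
    have hzA : ((z : P) : G) ∈ A := hA.mem_of_centralizes (hUT z.2.2) (hU.2 _ z.2.2) fun b hb =>
      congrArg Subtype.val (Subgroup.mem_center_iff.1 z.2.1 ⟨b, Subgroup.mem_sup_left hb⟩)
    intro hbot
    have := (Subgroup.eq_bot_iff_forall _).1 hbot _ (hmemC₀ _ z.2.2 hzA)
    exact hz (Subtype.ext (Subtype.ext (show ((z : P) : G) = 1 from congrArg Subtype.val this)))
  have hC₀2 : Nat.card C₀ = 2 := by
    rcases Nat.lt_or_ge (Nat.card C₀) 2 with h | h
    · exact absurd (Subgroup.card_eq_one.1 (by omega)) hC₀1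
    · omega
  -- the kernel of `A₁`
  set Z := A₁ ⊓ Subgroup.centralizer (U : Set G) with hZ
  have h5 := CfsgLib.Coprime.card_sup_mul_card_inf (H := Z) (N := U)
    (inf_le_right.trans (Subgroup.centralizer_le_normalizer _))
  have h6 := hA.2.2 (Z ⊔ U) (sup_le ((inf_le_left.trans hA₁).trans hA.1) hUT)
    (elemAb_sup (elemAb_of_le hA.2.1 (inf_le_left.trans hA₁)) hU inf_le_right)
  have h7 : Nat.card ↥(U ⊓ Z) ≤ 2 := by
    rw [← hC₀2, ← Subgroup.card_map_of_injective (K := C₀) U.subtype_injective]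
    refine Subgroup.card_le_of_le fun u hu => ?_
    exact ⟨⟨u, hu.1⟩, hmemC₀ u hu.1 (hA₁ hu.2.1), rfl⟩
  have h8 : Nat.card Z * Nat.card U ≤ 2 * Nat.card A₁ * 2 :=
    h5.symm.trans_le (Nat.mul_le_mul (h6.trans hA2) h7)
  have h9 : Nat.card Z * Nat.card I = Nat.card A₁ := by
    have hA₁N : A₁ ≤ N := hA₁.trans hAU
    have h := ((ψ.comp (Subgroup.inclusion hA₁N)).ker).card_mul_index
    rw [Subgroup.index_ker] at h
    have e1 : (ψ.comp (Subgroup.inclusion hA₁N)).range = I := by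
      ext i
      constructor
      · rintro ⟨b, rfl⟩; exact ⟨Subgroup.inclusion hA₁N b, b.2, rfl⟩
      · intro hi; obtain ⟨b, hb, rfl⟩ := hImem i hi; exact ⟨⟨b, hb⟩, rfl⟩
    have e2 : (ψ.comp (Subgroup.inclusion hA₁N)).ker.map A₁.subtype = Z := by
      ext b
      constructor
      · rintro ⟨⟨b, hb⟩, hb', rfl⟩
        refine ⟨hb, Subgroup.mem_centralizer_iff.2 fun u hu => ?_⟩
        exact (mul_inv_eq_iff_eq_mul.1 ((hψa b (hA₁N hb) ⟨u, hu⟩).symm.trans
          (congrArg Subtype.val (DFunLike.congr_fun (show ψ ⟨b, hA₁N hb⟩ = 1 from hb') _)))).symm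
      · rintro ⟨hb, hc⟩
        refine ⟨⟨b, hb⟩, ?_, rfl⟩
        refine MulEquiv.ext fun u => Subtype.ext ?_
        exact (hψa b (hA₁N hb) u).trans
          (mul_inv_eq_iff_eq_mul.2 (Subgroup.mem_centralizer_iff.1 hc u u.2).symm)
    rw [e1, ← Subgroup.card_map_of_injective A₁.subtype_injective, e2] at h
    exact h
  have hU4I : Nat.card U ≤ 4 * Nat.card I := by
    refine Nat.le_of_mul_le_mul_left (?_ : Nat.card Z * _ ≤ Nat.card Z * _) Nat.card_pos
    rw [Nat.mul_left_comm, h9]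
    linarith
  have hI2 : 2 * Nat.card I ≤ Nat.card ↥(fx α) := by
    refine card_le_of_fix hV ?_ ?_ (fun i hi v hv => apply_mem_fx (hIα i hi) hv) hC₀2 ?_
    · intro i hi j hj
      obtain ⟨b, hb, rfl⟩ := hImem i hi
      obtain ⟨c, hc, rfl⟩ := hImem j hj
      exact hcab b c (hA₁ hb) (hA₁ hc)
    · intro i hi
      obtain ⟨b, hb, rfl⟩ := hImem i hi
      rw [← map_mul, show (⟨b, hAU (hA₁ hb)⟩ : N) * ⟨b, hAU (hA₁ hb)⟩ = 1 from
        Subtype.ext (elemAb_sq hA.2.1 (hA₁ hb)), map_one]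
    · intro i hi h
      refine MulEquiv.ext fun u => ?_
      obtain ⟨v, hv, _, ⟨w, hw, rfl⟩, rfl⟩ := exists_mul_of_sup (hUgen.ge (Subgroup.mem_top u))
      have e : i (x w) = x w := by
        rw [← MulAut.mul_apply, hIx i hi, MulAut.mul_apply, h w hw]
      rw [map_mul, h v hv, MulAut.one_apply]
      exact congrArg _ e
  have hle : Nat.card ↥(fx α) ≤ 2 := by
    refine Nat.le_of_mul_le_mul_left (?_ : Nat.card ↥(fx α) * _ ≤ Nat.card ↥(fx α) * _) Nat.card_pos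
    rw [← hUC]
    omega
  rw [hUC]
  exact Nat.mul_le_mul hle hle

end CfsgLib.JComp
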