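import Cfsg.Agent.Lib.LocalEven.JComp.Overgroup
import Cfsg.Agent.Lib.LocalEven.JComp.FourBound
import Cfsg.Agent.Lib.Coprime.Commutator

/-!
`J(T)`-components inside a member of `ℒ(T)`: one for each line attached to `J(T)`.
-/

set_option autoImplicit false

open Cfsg CfsgLib.PLocal
open scoped commutatorElement

namespace CfsgLib.JComp

variable {G : Type*} [Group G]

/-- The preimage in `L` of the subgroup generated by `x`. -/
def pre (L : Subgroup G) (x : MulAut ↥(vOf L)) : Subgroup G :=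
  ((Subgroup.zpowers x).comap (act L)).map L.subtype

/-- The component attached to the line `x`. -/
def kOf (T L : Subgroup G) (x : MulAut ↥(vOf L)) : Subgroup G :=
  oddClosure ⁅pre L x, Cfsg.thompsonSubgroupOf 2 T⁆

/-- A line inverted by a good transvection coming from `J(T)`. -/
def IsJLine (T L : Subgroup G) (x : MulAut ↥(vOf L)) : Prop :=
  x ∈ fit (Hbar L) ∧ IsLine x ∧ ∃ a, JGood T L a ∧ a * x * a⁻¹ = x⁻¹

theorem mem_pre {L : Subgroup G} {x : MulAut ↥(vOf L)} {g : G} :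
    g ∈ pre L x ↔ ∃ hg : g ∈ L, act L ⟨g, hg⟩ ∈ Subgroup.zpowers x := by
  constructor
  · rintro ⟨g', hg', rfl⟩
    exact ⟨g'.2, hg'⟩
  · rintro ⟨hg, h⟩
    exact ⟨⟨g, hg⟩, h, rfl⟩

theorem pre_le (L : Subgroup G) (x : MulAut ↥(vOf L)) : pre L x ≤ L := Subgroup.map_subtype_le _

theorem cOf_le_pre (L : Subgroup G) (x : MulAut ↥(vOf L)) : cOf L ≤ pre L x := fun c hc =>
  mem_pre.2 ⟨hc.1, by rw [(act_eq_one_iff L ⟨c, hc.1⟩).2 hc]; exact one_mem _⟩

theorem pre_congr {L : Subgroup G} {x y : MulAut ↥(vOf L)}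
    (h : Subgroup.zpowers x = Subgroup.zpowers y) : pre L x = pre L y := by
  rw [pre, pre, h]

theorem mem_img_of {L A : Subgroup G} {g : G} (hg : g ∈ L) (hA : g ∈ A) :
    act L ⟨g, hg⟩ ∈ img L A := ⟨⟨g, hg⟩, hA, rfl⟩

/-- Conjugation by an element of `L` moves `pre L x` to the preimage of the conjugate. -/
theorem map_pre {L : Subgroup G} (x : MulAut ↥(vOf L)) {g : G} (hg : g ∈ L) :
    (pre L x).map (MulAut.conj g).toMonoidHom =
      pre L (act L ⟨g, hg⟩ * x * (act L ⟨g, hg⟩)⁻¹) := by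
  set γ := act L ⟨g, hg⟩ with hγ
  have e : Subgroup.zpowers (γ * x * γ⁻¹) = (Subgroup.zpowers x).map (MulAut.conj γ).toMonoidHom := by
    rw [MonoidHom.map_zpowers]; rfl
  ext y
  constructor
  · rintro ⟨z, hz, rfl⟩
    obtain ⟨hzL, hz'⟩ := mem_pre.1 hz
    refine mem_pre.2 ⟨L.mul_mem (L.mul_mem hg hzL) (L.inv_mem hg), ?_⟩
    rw [e]
    refine ⟨act L ⟨z, hzL⟩, hz', ?_⟩
    show γ * act L ⟨z, hzL⟩ * γ⁻¹ = _
    rw [hγ, ← map_inv, ← map_mul, ← map_mul]
    rfl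
  · intro hy
    obtain ⟨hyL, hy'⟩ := mem_pre.1 hy
    rw [e] at hy'
    obtain ⟨w, hw, hwe⟩ := hy'
    refine ⟨g⁻¹ * y * g, mem_pre.2 ⟨L.mul_mem (L.mul_mem (L.inv_mem hg) hyL) hg, ?_⟩, ?_⟩
    · have hwe' : γ * w * γ⁻¹ = act L ⟨y, hyL⟩ := hwe
      have : act L (⟨g, hg⟩⁻¹ * ⟨y, hyL⟩ * ⟨g, hg⟩) = w := by
        rw [map_mul, map_mul, map_inv, ← hwe', ← hγ]; group
      have hgoal : act L (⟨g, hg⟩⁻¹ * ⟨y, hyL⟩ * ⟨g, hg⟩) ∈ Subgroup.zpowers x := this ▸ hw
      exact hgoal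
    · show g * (g⁻¹ * y * g) * g⁻¹ = y
      group

theorem mem_normalizer_pre {L : Subgroup G} {x : MulAut ↥(vOf L)} {g : G} (hg : g ∈ L)
    (h : act L ⟨g, hg⟩ * x * (act L ⟨g, hg⟩)⁻¹ = x ∨ act L ⟨g, hg⟩ * x * (act L ⟨g, hg⟩)⁻¹ = x⁻¹) :
    g ∈ Subgroup.normalizer (pre L x : Set G) := by
  refine Subgroup.mem_normalizer_iff_map_conj_eq.2 ?_
  have h1 := map_pre x hg
  rcases h with h | h <;> rw [h] at h1
  · exact h1
  · exact h1.trans (pre_congr Subgroup.zpowers_inv)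

theorem isJLine_mv_card {T L : Subgroup G} {x : MulAut ↥(vOf L)} (hx : IsJLine T L x) :
    Nat.card ↥((mv x).map (vOf L).subtype) = 4 := by
  rw [Subgroup.card_map_of_injective (vOf L).subtype_injective, hx.2.1.2]

theorem mv_pow_le {V : Type*} [CommGroup V] (hV : Exp2 V) (x : MulAut V) (i : ℕ) :
    mv (x ^ i) ≤ mv x := by
  induction i with
  | zero =>
    rintro _ ⟨v, rfl⟩
    rw [dv_apply, pow_zero, MulAut.one_apply, hV]
    exact one_mem _
  | succ i ih =>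
    rintro _ ⟨v, rfl⟩
    have e : dv (x ^ (i + 1)) v = dv x ((x ^ i) v) * dv (x ^ i) v := by
      rw [dv_apply, dv_apply, dv_apply, pow_succ', MulAut.mul_apply, mul_assoc,
        ← mul_assoc ((x ^ i) v) ((x ^ i) v), hV, one_mul]
    rw [e]
    exact mul_mem (dv_mem_mv x _) (ih (dv_mem_mv _ v))

variable [Finite G]

namespace Over

variable {T L : Subgroup G} (h : Over T L)

include h

theorem two_mem_pre {x : MulAut ↥(vOf L)} (hx : IsLine x) {g : G} (hg : g ∈ pre L x) {m : ℕ}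
    (hm : g ^ 2 ^ m = 1) : g ∈ Cfsg.pCoreOf 2 L := by
  obtain ⟨hgL, hg'⟩ := mem_pre.1 hg
  refine h.two_mem_core ((act_eq_one_iff L ⟨g, hgL⟩).1 ?_) hm
  have h1 : orderOf (act L ⟨g, hgL⟩) ∣ 3 := hx.1 ▸ orderOf_dvd_of_mem_zpowers hg'
  have h2 : orderOf (act L ⟨g, hgL⟩) ∣ 2 ^ m := orderOf_dvd_of_pow_eq_one (by
    rw [← map_pow, show (⟨g, hgL⟩ : L) ^ 2 ^ m = 1 from Subtype.ext (by simpa using hm), map_one])
  exact orderOf_eq_one_iff.1
    (Nat.eq_one_of_dvd_coprimes ((show Nat.Coprime 3 2 by norm_num).pow_right m) h1 h2)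

theorem J_normalizer_pre {x : MulAut ↥(vOf L)} (hx : IsJLine T L x) :
    Cfsg.thompsonSubgroupOf 2 T ≤ Subgroup.normalizer (pre L x : Set G) := fun j hj =>
  mem_normalizer_pre (h.J_le hj)
    ((h.jgood_lineStab (mem_img_of (h.J_le hj) hj)).2 x hx.1 hx.2.1)

theorem pre_normalizer_cOf (x : MulAut ↥(vOf L)) :
    pre L x ≤ Subgroup.normalizer (cOf L : Set G) :=
  (pre_le L x).trans le_normalizer_cOf

/-- The coprime action of a 2-subgroup of `T` on `pre L x` modulo `O₂(L)`. -/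
theorem comm_inf {x : MulAut ↥(vOf L)} (hx : IsLine x) {R : Subgroup G} (hR : R ≤ T)
    (hRP : R ≤ Subgroup.normalizer (pre L x : Set G)) :
    ⁅pre L x, R⁆ ⊓ cOf L ≤ Cfsg.pCoreOf 2 L := by
  haveI : Fact (Nat.Prime 2) := ⟨Nat.prime_two⟩
  set Qn := (Cfsg.pCoreOf 2 L).subgroupOf L with hQn
  haveI : Qn.Normal := (Subgroup.normal_subgroupOf_iff_le_normalizer
    (CfsgLib.LocalEvenCharP.pCoreOf_le 2 L)).2 (core_normal (L := L))
  set π := QuotientGroup.mk' Qn with hπ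
  have hRL : R ≤ L := hR.trans h.syl.1
  set Pb := ((pre L x).subgroupOf L).map π with hPb
  set Cb := ((cOf L).subgroupOf L).map π with hCb
  set Rb := (R.subgroupOf L).map π with hRb
  have hnorm : ∀ X Y : Subgroup G, X ≤ L → X ≤ Subgroup.normalizer (Y : Set G) →
      (X.subgroupOf L).map π ≤ Subgroup.normalizer ((Y.subgroupOf L).map π : Set (↥L ⧸ Qn)) := by
    intro X Y hXL hXY
    refine (Subgroup.map_mono ?_).trans (Subgroup.le_normalizer_map _)
    intro g hg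
    rw [Subgroup.mem_normalizer_iff]
    intro y
    exact Subgroup.mem_normalizer_iff.1 (hXY hg) (y : G)
  have hRnP : Rb ≤ Subgroup.normalizer (Pb : Set (↥L ⧸ Qn)) := hnorm _ _ hRL hRP
  have hRp : IsPGroup 2 Rb :=
    ((h.syl.2.1.to_le hR).comap_of_injective L.subtype L.subtype_injective).map _
  have hPodd : Odd (Nat.card Pb) := by
    rw [← Nat.not_even_iff_odd, even_iff_two_dvd]
    intro hd
    obtain ⟨⟨p, g, hg, rfl⟩, ho⟩ := exists_prime_orderOf_dvd_card' 2 hd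
    rw [← Subgroup.orderOf_coe] at ho
    have h2 : (π g) ^ 2 = 1 := by rw [← ho]; exact pow_orderOf_eq_one _
    rw [← map_pow] at h2
    have h3 : (g : G) ^ 2 ∈ Cfsg.pCoreOf 2 L := by
      have h3' := (QuotientGroup.eq_one_iff (g ^ 2)).1 h2
      simpa [hQn, Subgroup.mem_subgroupOf] using h3'
    obtain ⟨m, hm⟩ := h.isPGroup_core ⟨_, h3⟩
    have hg' : g ∈ Qn := h.two_mem_pre hx hg (m := m + 1)
      (by rw [pow_succ', pow_mul]; simpa using congrArg Subtype.val hm)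
    have h4 : π g = 1 := (QuotientGroup.eq_one_iff g).2 hg'
    rw [show orderOf (π g) = 1 by rw [h4, orderOf_one]] at ho
    norm_num at ho
  obtain ⟨r, hr⟩ := IsPGroup.iff_card.1 hRp
  have hcop : (Nat.card Rb).Coprime (Nat.card Pb) := by
    rw [hr]; exact Nat.Coprime.pow_left r (Nat.coprime_two_left.2 hPodd)
  have hsol : Group.IsSolvable Rb := by
    haveI := hRp.isNilpotent
    infer_instance
  have hCR : ⁅Cb, Rb⁆ = ⊥ := by
    rw [hCb, hRb, ← Subgroup.map_commutator, Subgroup.map_eq_bot_iff, hπ, QuotientGroup.ker_mk',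
      Subgroup.commutator_le]
    intro c hc t ht
    exact h.comm_cOf_T hc (hR ht)
  set D := ⁅Pb, Rb⁆ with hD
  have hDP : D ≤ Pb := CfsgLib.Coprime.commutator_le_of_normalizes hRnP
  have hDC : ⁅D, Cb⁆ = ⊥ := by
    refine Subgroup.commutator_commutator_eq_bot_of_rotate ?_ ?_
    · rw [Subgroup.commutator_comm Rb Cb, hCR, Subgroup.commutator_bot_left]
    · have h1 : ⁅Cb, Pb⁆ ≤ Cb := CfsgLib.Coprime.commutator_le_of_normalizes
        (hnorm _ _ (pre_le L x) (h.pre_normalizer_cOf x))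
      exact le_bot_iff.1 ((Subgroup.commutator_mono h1 le_rfl).trans hCR.le)
  have hQker : Qn ≤ (act L).ker := fun g hg => (act_eq_one_iff L g).2 (core_le_cOf hg)
  set φ := QuotientGroup.lift Qn (act L) hQker with hφ
  have hDx : ∀ d : D, φ d ∈ Subgroup.zpowers x := by
    rintro ⟨d, hd⟩
    obtain ⟨g, hg, rfl⟩ := hDP hd
    obtain ⟨_, hg'⟩ := mem_pre.1 (show (g : G) ∈ pre L x from hg)
    exact hg'
  haveI hDcomm : IsMulCommutative D := by
    set f : D →* Subgroup.zpowers x := (φ.comp D.subtype).codRestrict _ hDx with hf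
    refine ⟨⟨fun a b => commutative_of_cyclic_center_quotient f ?_ a b⟩⟩
    intro d hd
    rw [Subgroup.mem_center_iff]
    intro e
    have h1 : φ d = 1 := congrArg Subtype.val hd
    obtain ⟨g, hg, hge⟩ := hDP d.2
    have h2 : act L g = 1 := by rw [← hge] at h1; exact h1
    have h3 : (d : ↥L ⧸ Qn) ∈ Cb := ⟨g, (act_eq_one_iff L g).1 h2, hge⟩
    exact Subtype.ext ((Subgroup.mem_centralizer_iff.1
      ((Subgroup.commutator_eq_bot_iff_le_centralizer.1 hDC) e.2) _ h3).symm)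
  have hDR : ⁅D, Rb⁆ = D :=
    CfsgLib.Coprime.commutator_commutator_eq Rb Pb hRnP hcop (Or.inl hsol)
  have hinf := CfsgLib.Coprime.commutator_inf_centralizer_eq_bot Rb D
    (CfsgLib.Coprime.le_normalizer_commutator_right Pb Rb)
    (hcop.coprime_dvd_right (Subgroup.card_dvd_of_le hDP))
  rw [hDR] at hinf
  rintro g ⟨hg, hgC⟩
  have hgD : π ⟨g, hgC.1⟩ ∈ D := by
    have e : ⁅(pre L x).subgroupOf L, R.subgroupOf L⁆.map L.subtype = ⁅pre L x, R⁆ := by
      rw [Subgroup.map_commutator, Subgroup.map_subgroupOf_eq_of_le (pre_le L x),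
        Subgroup.map_subgroupOf_eq_of_le hRL]
    rw [← e] at hg
    obtain ⟨g', hg', hgg⟩ := hg
    rw [show (⟨g, hgC.1⟩ : L) = g' from Subtype.ext hgg.symm, hD, hPb, hRb,
      ← Subgroup.map_commutator]
    exact Subgroup.mem_map_of_mem _ hg'
  have h1 : π ⟨g, hgC.1⟩ ∈ D ⊓ Subgroup.centralizer (Rb : Set (↥L ⧸ Qn)) :=
    ⟨hgD, (Subgroup.commutator_eq_bot_iff_le_centralizer.1 hCR) ⟨⟨g, hgC.1⟩, hgC, rfl⟩⟩
  rw [hinf, Subgroup.mem_bot] at h1
  exact (QuotientGroup.eq_one_iff (⟨g, hgC.1⟩ : L)).1 h1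

theorem commutator_le_kOf_sup {x : MulAut ↥(vOf L)} (hx : IsJLine T L x) :
    ⁅pre L x, Cfsg.thompsonSubgroupOf 2 T⁆ ≤ kOf T L x ⊔ Cfsg.pCoreOf 2 L :=
  le_oddClosure_sup fun _ hg _ hm => h.two_mem_pre hx.2.1
    (CfsgLib.Coprime.commutator_le_of_normalizes (h.J_normalizer_pre hx) hg) hm

/-- The basic properties of `kOf T L x`. -/
structure KProps (T L : Subgroup G) (x : MulAut ↥(vOf L)) : Prop where
  le_pre : kOf T L x ≤ pre L x
  pre_norm : pre L x ≤ Subgroup.normalizer (kOf T L x : Set G)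
  J_norm : Cfsg.thompsonSubgroupOf 2 T ≤ Subgroup.normalizer (kOf T L x : Set G)
  inf_cOf : kOf T L x ⊓ cOf L = kOf T L x ⊓ Cfsg.pCoreOf 2 L
  img_eq : img L (kOf T L x) = Subgroup.zpowers x
  core_eq : Cfsg.pCoreOf 2 (kOf T L x) = kOf T L x ⊓ Cfsg.pCoreOf 2 L
  index : (Cfsg.pCoreOf 2 (kOf T L x)).relIndex (kOf T L x) = 3
  odd_gen : oddClosure (kOf T L x) = kOf T L x
  comm : ⁅kOf T L x, Cfsg.thompsonSubgroupOf 2 T⁆ = kOf T L x

theorem kprops {x : MulAut ↥(vOf L)} (hx : IsJLine T L x) : KProps T L x := by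
  haveI : Fact (Nat.Prime 2) := ⟨Nat.prime_two⟩
  set J := Cfsg.thompsonSubgroupOf 2 T with hJ
  set K := kOf T L x with hK
  have hJP := h.J_normalizer_pre hx
  have hKD : K ≤ ⁅pre L x, J⁆ := oddClosure_le _
  have hKP : K ≤ pre L x := hKD.trans (CfsgLib.Coprime.commutator_le_of_normalizes hJP)
  have hKL : K ≤ L := hKP.trans (pre_le L x)
  have hPn : pre L x ≤ Subgroup.normalizer (K : Set G) :=
    (CfsgLib.Coprime.le_normalizer_commutator_left _ J).trans (normalizer_le_normalizer_oddClosure _)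
  have hJn : J ≤ Subgroup.normalizer (K : Set G) :=
    (CfsgLib.Coprime.le_normalizer_commutator_right (pre L x) J).trans
      (normalizer_le_normalizer_oddClosure _)
  have hQP : Cfsg.pCoreOf 2 L ≤ pre L x := core_le_cOf.trans (cOf_le_pre L x)
  have hinf : K ⊓ cOf L = K ⊓ Cfsg.pCoreOf 2 L :=
    le_antisymm (le_inf inf_le_left
      ((inf_le_inf_right _ hKD).trans (h.comm_inf hx.2.1 (jOf_le T) hJP)))
      (inf_le_inf_left _ core_le_cOf)
  have himgle : img L K ≤ Subgroup.zpowers x := by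
    rintro _ ⟨g, hg, rfl⟩
    exact (mem_pre.1 (hKP hg)).2
  obtain ⟨a, ⟨hgood, A, hA, j, hjA, hja⟩, hax⟩ := hx.2.2
  have hjJ : (j : G) ∈ J := hJ ▸ (jOf_eq T ▸ hA.le_thompson hjA)
  obtain ⟨p, hp⟩ := fit_le (Hbar L) hx.1
  have hxx : x⁻¹ ∈ img L K := by
    have hpP : (p : G) ∈ pre L x := ⟨p, show act L p ∈ Subgroup.zpowers x from
      hp ▸ Subgroup.mem_zpowers x, rfl⟩
    have h1 : ((⁅p, j⁆ : L) : G) ∈ K ⊔ Cfsg.pCoreOf 2 L :=
      h.commutator_le_kOf_sup hx (Subgroup.commutator_mem_commutator hpP hjJ)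
    have h1' : ((⁅p, j⁆ : L) : G) ∈ ((K ⊔ Cfsg.pCoreOf 2 L : Subgroup G) : Set G) := h1
    rw [Subgroup.coe_mul_of_right_le_normalizer_left K (Cfsg.pCoreOf 2 L) (hQP.trans hPn)] at h1'
    obtain ⟨k, hk, q, hq, hkq⟩ := h1'
    refine ⟨⟨k, hKL hk⟩, hk, ?_⟩
    have hq1 : act L ⟨q, CfsgLib.LocalEvenCharP.pCoreOf_le 2 L hq⟩ = 1 :=
      (act_eq_one_iff L _).2 (core_le_cOf hq)
    have e : (⁅p, j⁆ : L) = ⟨k, hKL hk⟩ * ⟨q, CfsgLib.LocalEvenCharP.pCoreOf_le 2 L hq⟩ :=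
      Subtype.ext hkq.symm
    have h2 := congrArg (act L) e
    rw [map_commutatorElement, hp, hja, map_mul, hq1, mul_one] at h2
    rw [← h2, commutatorElement_def]
    have e2 : a * x⁻¹ * a⁻¹ = x := by
      calc a * x⁻¹ * a⁻¹ = (a * x * a⁻¹)⁻¹ := by group
        _ = x := by rw [hax, inv_inv]
    calc x * a * x⁻¹ * a⁻¹ = x * (a * x⁻¹ * a⁻¹) := by group
      _ = x⁻¹ := by rw [e2]; exact eq_inv_of_mul_eq_one_left hx.2.1.cube
  have himg : img L K = Subgroup.zpowers x := le_antisymm himgle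
    (Subgroup.zpowers_le.2 (inv_inv x ▸ (img L K).inv_mem hxx))
  have hcardimg : Nat.card ↥(img L K) = 3 := by rw [himg, Nat.card_zpowers, hx.2.1.1]
  have hcore : Cfsg.pCoreOf 2 K = K ⊓ Cfsg.pCoreOf 2 L := by
    refine le_antisymm (le_inf (CfsgLib.LocalEvenCharP.pCoreOf_le 2 K) fun g hg => ?_)
      (CfsgLib.LocalEvenCharP.le_pCoreOf inf_le_left
        (Subgroup.le_normalizer_iff.2 fun g hg y hy => ⟨K.mul_mem (K.mul_mem hg hy.1) (K.inv_mem hg),
          (Subgroup.mem_normalizer_iff.1 (core_normal (L := L) (hKL hg)) y).1 hy.2⟩)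
        (h.isPGroup_core.to_le inf_le_right))
    obtain ⟨m, hm⟩ := CfsgLib.LocalEvenCharP.isPGroup_pCoreOf 2 K ⟨g, hg⟩
    exact h.two_mem_pre hx.2.1 (hKP (CfsgLib.LocalEvenCharP.pCoreOf_le 2 K hg)) (m := m)
      (by simpa using congrArg Subtype.val hm)
  have hgen : oddClosure K = K := oddClosure_idem _
  refine ⟨hKP, hPn, hJn, hinf, himg, hcore, ?_, hgen, ?_⟩
  · rw [hcore, ← hinf]
    have h1 := h.card_img_mul K hKL
    rw [hcardimg] at h1
    have h2 := Subgroup.relIndex_mul_relIndex ⊥ (K ⊓ cOf L) K bot_le inf_le_left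
    rw [Subgroup.relIndex_bot_left, Subgroup.relIndex_bot_left] at h2
    exact Nat.eq_of_mul_eq_mul_left Nat.card_pos (h2.trans h1.symm)
  · have hle : ⁅K, J⁆ ≤ K := CfsgLib.Coprime.commutator_le_of_normalizes hJn
    refine le_antisymm hle ?_
    obtain ⟨kx, hkx, hkxe⟩ := himg.ge (Subgroup.mem_zpowers x)
    have hc : ⁅(kx : G), (j : G)⁆ ∈ ⁅K, J⁆ := Subgroup.commutator_mem_commutator hkx hjJ
    have hce : act L ⁅kx, j⁆ = x⁻¹ := by
      rw [map_commutatorElement, hkxe, hja, commutatorElement_def]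
      have e2 : a * x⁻¹ * a⁻¹ = x := by
        calc a * x⁻¹ * a⁻¹ = (a * x * a⁻¹)⁻¹ := by group
          _ = x := by rw [hax, inv_inv]
      calc x * a * x⁻¹ * a⁻¹ = x * (a * x⁻¹ * a⁻¹) := by group
        _ = x⁻¹ := by rw [e2]; exact eq_inv_of_mul_eq_one_left hx.2.1.cube
    have hodd : ∀ g ∈ K, Odd (orderOf g) → g ∈ ⁅K, J⁆ := by
      intro g hg ho
      obtain ⟨i, hi⟩ := Subgroup.mem_zpowers_iff.1 (himgle (mem_img_of (hKL hg) hg))
      set c : L := ⁅kx, j⁆ ^ (-i) with hc'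
      have hcK : (c : G) ∈ ⁅K, J⁆ := by
        rw [hc']; push_cast; exact Subgroup.zpow_mem _ hc _
      have hq : act L (c⁻¹ * ⟨g, hKL hg⟩) = 1 := by
        rw [map_mul, map_inv, hc', map_zpow, hce, inv_zpow', neg_neg, hi, inv_mul_cancel]
      have hqQ : (c : G)⁻¹ * g ∈ Cfsg.pCoreOf 2 L :=
        (hinf.le ⟨K.mul_mem (K.inv_mem (hle hcK)) hg, (act_eq_one_iff L _).1 hq⟩).2
      obtain ⟨m, hm⟩ := h.isPGroup_core ⟨_, hqQ⟩
      have hres := odd_mem_of_mul hcK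
        (CfsgLib.Coprime.le_normalizer_commutator_left K J (K.mul_mem (K.inv_mem (hle hcK)) hg))
        (m := m) (by simpa using congrArg Subtype.val hm) (by rwa [mul_inv_cancel_left])
      rwa [mul_inv_cancel_left] at hres
    refine hgen.ge.trans ?_
    exact (Subgroup.closure_le _).2 fun g hg => hodd g hg.1 hg.2

/-- `W_K` of the component is the four-group moved by the line. -/
theorem wOf_kOf {x : MulAut ↥(vOf L)} (hx : IsJLine T L x) :
    Cfsg.wOf (kOf T L x) = (mv x).map (vOf L).subtype := by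
  haveI : Fact (Nat.Prime 2) := ⟨Nat.prime_two⟩
  have hp := h.kprops hx
  set K := kOf T L x with hK
  have hKL : K ≤ L := hp.le_pre.trans (pre_le L x)
  set W := Cfsg.omegaCenterOf (Cfsg.pCoreOf 2 K) with hW
  have hWe : Cfsg.IsElementaryAbelian 2 W := omegaCenterOf_elemAb _
  have hWcore : W ≤ Cfsg.pCoreOf 2 K := omegaCenterOf_le _
  have hWL : W ≤ Cfsg.pCoreOf 2 L := hWcore.trans (hp.core_eq.le.trans inf_le_right)
  have hKW : K ≤ Subgroup.normalizer (W : Set G) :=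
    (CfsgLib.LocalEvenCharP.le_normalizer_pCoreOf 2 K).trans
      (normalizer_le_normalizer_omegaCenterOf _)
  have hqW : ∀ q ∈ K, q ∈ Cfsg.pCoreOf 2 L → ∀ w ∈ W, q * w * q⁻¹ = w := fun q hq hq' w hw =>
    mul_inv_eq_iff_eq_mul.2 (omegaCenterOf_comm _ hw (hp.core_eq.ge ⟨hq, hq'⟩))
  -- a lift of `x` of odd order
  obtain ⟨k, hk, hkx, hko⟩ : ∃ k : L, (k : G) ∈ K ∧ act L k = x ∧ Odd (orderOf (k : G)) := by
    obtain ⟨g, hg, hgx⟩ := hp.img_eq.ge (Subgroup.mem_zpowers x)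
    obtain ⟨u, v, huv, hu, ⟨m, hm⟩, hu', hv'⟩ := exists_odd_two (g : G)
    have hgK : (g : G) ∈ K := hg
    have huK : u ∈ K := Subgroup.zpowers_le.2 hgK hu'
    have hvK : v ∈ K := Subgroup.zpowers_le.2 hgK hv'
    refine ⟨⟨u, hKL huK⟩, huK, ?_, hu⟩
    rw [← hgx, show g = ⟨u, hKL huK⟩ * ⟨v, hKL hvK⟩ from Subtype.ext huv, map_mul,
      (act_eq_one_iff L ⟨v, hKL hvK⟩).2 (core_le_cOf (h.two_mem_pre hx.2.1 (hp.le_pre hvK) hm)),
      mul_one]
  have hdiff : ∀ g ∈ K, ∀ g' ∈ K, ∀ hg : g ∈ L, ∀ hg' : g' ∈ L,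
      act L ⟨g, hg⟩ = act L ⟨g', hg'⟩ → ∀ w ∈ W, g * w * g⁻¹ = g' * w * g'⁻¹ := by
    intro g hgK g' hg'K hg hg' he w hw
    have hq : g'⁻¹ * g ∈ K ⊓ Cfsg.pCoreOf 2 L := by
      refine hp.inf_cOf.le ⟨K.mul_mem (K.inv_mem hg'K) hgK, ?_⟩
      refine (act_eq_one_iff L (⟨g', hg'⟩⁻¹ * ⟨g, hg⟩)).1 ?_
      rw [map_mul, map_inv, he, inv_mul_cancel]
    have h1 := hqW _ hq.1 hq.2 w hw
    calc g * w * g⁻¹ = g' * ((g'⁻¹ * g) * w * (g'⁻¹ * g)⁻¹) * g'⁻¹ := by group
      _ = g' * w * g'⁻¹ := by rw [h1]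
  letI : CommGroup W := { (inferInstance : Group W) with
    mul_comm := fun a b => hWe.1.is_comm.comm a b }
  have hW2 : Exp2 W := fun w => Subtype.ext (elemAb_sq hWe w.2)
  set κ : MulAut W := W.normalizerMonoidHom ⟨k, hKW hk⟩ with hκ
  have hκa : ∀ w : W, ((κ w : W) : G) = (k : G) * w * (k : G)⁻¹ := fun _ => rfl
  have hκo : Odd (orderOf κ) :=
    hko.of_dvd_nat ((orderOf_map_dvd _ _).trans (by rw [Subgroup.orderOf_mk]))
  -- `W_K = [W, k]`
  have hcomm : ∀ g ∈ K, ∀ w ∈ W, ⁅w, g⁆ ∈ (mv κ).map W.subtype := by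
    intro g hg w hw
    obtain ⟨hgL, hgx⟩ := mem_pre.1 (hp.le_pre hg)
    obtain ⟨i, hi⟩ : ∃ i : ℕ, x ^ i = act L ⟨g, hgL⟩ := by
      rcases mem_zpowers_three hx.2.1 hgx with h' | h' | h'
      · exact ⟨0, by rw [h', pow_zero]⟩
      · exact ⟨1, by rw [h', pow_one]⟩
      · exact ⟨2, by rw [h', pow_two]; exact eq_inv_of_mul_eq_one_left hx.2.1.cube⟩
    have hki : act L ⟨g, hgL⟩ = act L ⟨(k : G) ^ i, L.pow_mem k.2 i⟩ := by
      rw [← hi, ← hkx, ← map_pow]; rfl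
    have h1 := hdiff g hg _ (K.pow_mem hk i) hgL (L.pow_mem k.2 i) hki w hw
    refine ⟨dv (κ ^ i) ⟨w, hw⟩, mv_pow_le hW2 κ i (dv_mem_mv _ _), ?_⟩
    have e1 : (((κ ^ i) ⟨w, hw⟩ : W) : G) = (k : G) ^ i * w * ((k : G) ^ i)⁻¹ := by
      rw [hκ, ← map_pow]; rfl
    show (((κ ^ i) ⟨w, hw⟩ * ⟨w, hw⟩ : W) : G) = ⁅w, g⁆
    rw [Subgroup.coe_mul, e1, ← h1, commutatorElement_def]
    have hwinv : w⁻¹ = w := inv_eq_of_mul_eq_one_right (elemAb_sq hWe hw)
    have hgw : g * w * g⁻¹ ∈ W := (Subgroup.mem_normalizer_iff.1 (hKW hg) w).1 hw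
    rw [hwinv, elemAb_commute hWe hgw hw]
    group
  have hwle : Cfsg.wOf K ≤ (mv κ).map W.subtype :=
    Subgroup.commutator_le.2 fun w hw g hg => hcomm g hg w hw
  -- the four-group lies in `W_K`
  have hge : (mv x).map (vOf L).subtype ≤ Cfsg.wOf K := by
    have hVK : ∀ v : ↥(vOf L), ((dv x v : ↥(vOf L)) : G) ∈ K := by
      intro v
      have hvn : (v : G) ∈ Subgroup.normalizer (K : Set G) :=
        hp.pre_norm (cOf_le_pre L x (core_le_cOf (h.vOf_le_core v.2)))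
      have e : ((dv x v : ↥(vOf L)) : G) = (k : G) * ((v : G) * (k : G)⁻¹ * (v : G)⁻¹) := by
        rw [dv_apply, Subgroup.coe_mul, ← hkx, act_apply]
        have hvinv : (v : G)⁻¹ = v := inv_eq_of_mul_eq_one_right
          (elemAb_sq (omegaCenterOf_elemAb _) v.2)
        rw [hvinv]; group
      rw [e]
      exact K.mul_mem hk ((Subgroup.mem_normalizer_iff.1 hvn _).1 (K.inv_mem hk))
    have hUW : ∀ v : ↥(vOf L), ((dv x v : ↥(vOf L)) : G) ∈ W := by
      intro v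
      refine mem_omegaCenterOf (hp.core_eq.ge ⟨hVK v, h.vOf_le_core (dv x v).2⟩)
        (elemAb_sq (omegaCenterOf_elemAb _) (dv x v).2) fun y hy => ?_
      exact omegaCenterOf_comm _ (dv x v).2 (hp.core_eq.le hy).2
    rintro _ ⟨u, hu, rfl⟩
    obtain ⟨v, rfl⟩ := hu
    -- `u` is the commutator of an element of `[V, x]` with `k`
    obtain ⟨w, hw⟩ : ∃ w : ↥(vOf L), dv x (dv x w) = dv x v := by
      obtain ⟨u, hu, f, hf, huf⟩ := exists_mul_of_sup
        ((mv_sup_fx (exp2_vOf L) hx.2.1.odd).ge (Subgroup.mem_top v))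
      obtain ⟨w, rfl⟩ := hu
      refine ⟨w, ?_⟩
      rw [← huf, map_mul, (dv_eq_one_iff (exp2_vOf L) (x := x) (v := f)).2 hf, mul_one]
    set u := dv x w with hu
    have hwinv : (u : G)⁻¹ = u := inv_eq_of_mul_eq_one_right
      (elemAb_sq (omegaCenterOf_elemAb _) u.2)
    have e : ((dv x v : ↥(vOf L)) : G) = ⁅(u : G), (k : G)⁆ := by
      rw [← hw, dv_apply, Subgroup.coe_mul, ← hkx, act_apply, commutatorElement_def, hwinv]
      rw [elemAb_commute (omegaCenterOf_elemAb _)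
        ((Subgroup.mem_normalizer_iff.1 (le_normalizer_vOf L k.2) _).1 u.2) u.2]
      group
    show ((dv x v : ↥(vOf L)) : G) ∈ Cfsg.wOf K
    rw [e]
    exact Subgroup.commutator_mem_commutator (hUW w) hk
  -- the four-group bound
  set U := (mv κ).map W.subtype with hU
  have hUW : U ≤ W := Subgroup.map_subtype_le _
  have hUeq : U = Cfsg.wOf K := by
    refine le_antisymm ?_ hwle
    rintro _ ⟨_, ⟨w, rfl⟩, rfl⟩
    have e : ((dv κ w : W) : G) = ⁅(w : G), (k : G)⁆ := by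
      rw [dv_apply, Subgroup.coe_mul, hκa, commutatorElement_def,
        show (w : G)⁻¹ = w from inv_eq_of_mul_eq_one_right (elemAb_sq hWe w.2)]
      rw [elemAb_commute hWe ((Subgroup.mem_normalizer_iff.1 (hKW hk) _).1 w.2) w.2]
      group
    show ((dv κ w : W) : G) ∈ Cfsg.wOf K
    rw [e]
    exact Subgroup.commutator_mem_commutator w.2 hk
  obtain ⟨a, ⟨hgood, A, hA, j, hjA, hja⟩, hax⟩ := hx.2.2
  have hAJ : A ≤ Cfsg.thompsonSubgroupOf 2 T := jOf_eq T ▸ hA.le_thompson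
  have hAU : A ≤ Subgroup.normalizer (U : Set G) := by
    intro b hb
    have hbK : b ∈ Subgroup.normalizer (K : Set G) := hp.J_norm (hAJ hb)
    have hbW : b ∈ Subgroup.normalizer (Cfsg.pCoreOf 2 K : Set G) := by
      rw [hp.core_eq, Subgroup.mem_normalizer_iff]
      intro y
      exact and_congr (Subgroup.mem_normalizer_iff.1 hbK y)
        (Subgroup.mem_normalizer_iff.1 (core_normal (L := L) (h.syl.1 (hA.1 hb))) y)
    rw [hUeq, Cfsg.wOf, Subgroup.mem_normalizer_iff_map_conj_eq, Subgroup.map_commutator,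
      ← Cfsg.wOf]
    rw [Subgroup.mem_normalizer_iff_map_conj_eq.1 hbK,
      Subgroup.mem_normalizer_iff_map_conj_eq.1 (normalizer_le_normalizer_omegaCenterOf _ hbW)]
    rfl
  have hkU : (k : G) ∈ Subgroup.normalizer (U : Set G) := by
    rw [hUeq]; exact CfsgLib.Coprime.le_normalizer_commutator_right W K hk
  have hUe : Cfsg.IsElementaryAbelian 2 U := elemAb_of_le hWe hUW
  have hfix : ∀ u ∈ U, (k : G) * u * (k : G)⁻¹ = u → u = 1 := by
    rintro _ ⟨w, hw, rfl⟩ he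
    rw [show w = 1 from eq_one_of_mem_mv_fx hW2 hκo hw (Subtype.ext ((hκa w).trans he))]
    rfl
  set A₁ : Subgroup G :=
    A ⊓ ((Subgroup.centralizer ({x} : Set (MulAut ↥(vOf L)))).comap (act L)).map L.subtype with hA₁
  have hstab : ∀ b ∈ A, ∀ hb : b ∈ L, act L ⟨b, hb⟩ * x * (act L ⟨b, hb⟩)⁻¹ = x ∨
      act L ⟨b, hb⟩ * x * (act L ⟨b, hb⟩)⁻¹ = x⁻¹ := fun b hb hbL =>
    (h.jgood_lineStab (mem_img_of hbL (hAJ hb))).2 x hx.1 hx.2.1
  have hU4 : Nat.card U ≤ 4 := by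
    refine card_le_four (A₁ := A₁) hA ((hUW.trans hWL).trans h.core_le) h.syl.2.1 hUe hAU hko hkU
      hfix hjA ?_ inf_le_left ?_ ?_
    · intro u hu
      have := hdiff ((j : G) * k * (j : G)⁻¹) ((Subgroup.mem_normalizer_iff.1 (hp.J_norm (hAJ hjA)) _).1 hk)
        (k : G)⁻¹ (K.inv_mem hk) ((j * k * j⁻¹ : L)).2 ((k⁻¹ : L)).2 (by
          show act L (j * k * j⁻¹) = act L k⁻¹
          rw [map_mul, map_mul, map_inv, map_inv, hja, hkx, hax]) u (hUW hu)
      exact this.trans (by rw [inv_inv])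
    · intro b hb
      have hbL := h.syl.1 (hA.1 hb)
      rcases hstab b hb hbL with h' | h'
      · exact Or.inl ⟨hb, ⟨b, hbL⟩,
          Subgroup.mem_centralizer_singleton_iff.2 (mul_inv_eq_iff_eq_mul.1 h'), rfl⟩
      · refine Or.inr ⟨A.mul_mem hjA hb, j * ⟨b, hbL⟩,
          Subgroup.mem_centralizer_singleton_iff.2 ?_, rfl⟩
        rw [← mul_inv_eq_iff_eq_mul, map_mul, hja]
        calc a * act L ⟨b, hbL⟩ * x * (a * act L ⟨b, hbL⟩)⁻¹
            = a * (act L ⟨b, hbL⟩ * x * (act L ⟨b, hbL⟩)⁻¹) * a⁻¹ := by group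
          _ = (a * x * a⁻¹)⁻¹ := by rw [h']; group
          _ = x := by rw [hax, inv_inv]
    · rintro b ⟨hb, ⟨b', hb', rfl⟩⟩ u hu
      refine hdiff ((b' : G) * k * (b' : G)⁻¹) ((Subgroup.mem_normalizer_iff.1 (hp.J_norm (hAJ hb)) _).1 hk)
        (k : G) hk ((b' * k * b'⁻¹ : L)).2 k.2 ?_ u (hUW hu)
      show act L (b' * k * b'⁻¹) = act L k
      rw [map_mul, map_mul, map_inv, hkx]
      exact mul_inv_eq_iff_eq_mul.2 (Subgroup.mem_centralizer_singleton_iff.1 hb')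
  rw [← hUeq] at hge ⊢
  exact (Subgroup.eq_of_le_of_card_ge hge (by rw [isJLine_mv_card hx]; exact hU4)).symm

theorem isJComponent_kOf {x : MulAut ↥(vOf L)} (hx : IsJLine T L x) :
    Cfsg.IsJComponent T (kOf T L x) := by
  have hp := h.kprops hx
  refine ⟨hp.odd_gen, hp.comm, hp.index, fun S hS hJS => ?_, ?_, ?_⟩
  · exact jOf_eq_of_le h.syl
      (hS.1.trans (sup_le (hp.le_pre.trans (pre_le L x)) h.J_le)) hS.2.1 hJS
  · rw [h.wOf_kOf hx]; exact isJLine_mv_card hx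
  · rw [h.wOf_kOf hx]
    rintro _ ⟨w, -, rfl⟩
    exact elemAb_sq (omegaCenterOf_elemAb _) w.2

/-- Every `J(T)`-component in `L` is attached to a line. -/
theorem exists_line_of_component {K : Subgroup G}
    (hK : Cfsg.IsJComponent T K) (hKL : K ≤ L) :
    ∃ x, IsJLine T L x ∧ K = kOf T L x := by
  haveI : Fact (Nat.Prime 2) := ⟨Nat.prime_two⟩
  haveI := finite_mulAut (V := ↥(vOf L))
  obtain ⟨hgen, hKJ, hidx, -, -, -⟩ := hK
  set J := Cfsg.thompsonSubgroupOf 2 T with hJ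
  have hV := exp2_vOf L
  have hJK : J ≤ Subgroup.normalizer (K : Set G) := by
    conv_rhs => rw [← hKJ]
    exact CfsgLib.Coprime.le_normalizer_commutator_right K J
  have hstab : ∀ g ∈ K, ∀ hg : g ∈ L, act L ⟨g, hg⟩ ∈ lineStab (Hbar L) := by
    have hle : K ≤ ((lineStab (Hbar L)).comap (act L)).map L.subtype := by
      conv_lhs => rw [← hKJ]
      rw [Subgroup.commutator_le]
      intro k hk j hj
      refine ⟨⁅(⟨k, hKL hk⟩ : L), (⟨j, h.J_le hj⟩ : L)⁆, ?_, rfl⟩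
      show act L _ ∈ lineStab (Hbar L)
      rw [map_commutatorElement, commutatorElement_def]
      have hj' := h.jgood_lineStab (mem_img_of (h.J_le hj) hj)
      exact Subgroup.mul_mem _ (conj_mem_lineStab ⟨_, rfl⟩ hj') (Subgroup.inv_mem _ hj')
    intro g hg hgL
    obtain ⟨g', hg', e⟩ := hle hg
    rwa [show g' = ⟨g, hgL⟩ from Subtype.ext e] at hg'
  have hcent : ∀ g ∈ K, ∀ hg : g ∈ L, ∀ y ∈ fit (Hbar L), IsLine y →
      act L ⟨g, hg⟩ * y = y * act L ⟨g, hg⟩ := by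
    intro g hg hgL y hy hly
    have hle : K ≤ ((Subgroup.centralizer ({y} : Set (MulAut ↥(vOf L)))).comap (act L)).map L.subtype := by
      conv_lhs => rw [← hgen]
      rw [Subgroup.closure_le]
      rintro k ⟨hk, hko⟩
      refine ⟨⟨k, hKL hk⟩, Subgroup.mem_centralizer_singleton_iff.2 ?_, rfl⟩
      refine comm_of_odd_lineStab (hstab k hk _) ?_ hy hly
      exact hko.of_dvd_nat ((orderOf_map_dvd _ _).trans (by rw [Subgroup.orderOf_mk]))
    obtain ⟨g', hg', e⟩ := hle hg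
    rw [show g' = ⟨g, hgL⟩ from Subtype.ext e] at hg'
    exact Subgroup.mem_centralizer_singleton_iff.1 hg'
  -- the group generated by the lines of `J(T)`
  set R := Subgroup.closure {y | IsJLine T L y} with hR
  have hRn : ∀ b ∈ lineStab (Hbar L), b ∈ Subgroup.normalizer (R : Set (MulAut ↥(vOf L))) := by
    have key : ∀ b ∈ lineStab (Hbar L), ∀ r ∈ R, b * r * b⁻¹ ∈ R := by
      intro b hb r hr
      suffices hle : R ≤ R.comap (MulAut.conj b).toMonoidHom from hle hr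
      rw [hR, Subgroup.closure_le]
      intro y hy
      show b * y * b⁻¹ ∈ Subgroup.closure {y | IsJLine T L y}
      rcases hb.2 y hy.1 hy.2.1 with e | e <;> rw [e]
      · exact Subgroup.subset_closure hy
      · exact inv_mem (Subgroup.subset_closure hy)
    exact fun b hb => CfsgLib.Coprime.mem_normalizer_of_forall_conj (key b hb)
  have himg : ∀ g ∈ K, ∀ hg : g ∈ L, act L ⟨g, hg⟩ ∈ R := by
    have hle : K ≤ (R.comap (act L)).map L.subtype := by
      conv_lhs => rw [← hKJ]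
      rw [Subgroup.commutator_le]
      intro k hk j hj
      refine ⟨⁅(⟨k, hKL hk⟩ : L), (⟨j, h.J_le hj⟩ : L)⁆, ?_, rfl⟩
      show act L _ ∈ R
      rw [map_commutatorElement]
      set γ := act L ⟨k, hKL hk⟩ with hγ
      have hmem : ∀ b ∈ Subgroup.closure {a | JGood T L a}, ⁅γ, b⁆ ∈ R ∧ b ∈ lineStab (Hbar L) := by
        intro b hb
        induction hb using Subgroup.closure_induction with
        | mem a ha =>
          obtain ⟨hgood, A, hA, hAimg⟩ := ha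
          have hgood' := hgood
          obtain ⟨-, htr, y, hy, hly, hay⟩ := hgood'
          refine ⟨?_, good_mem_lineStab hV hgood⟩
          rw [commutatorElement_def]
          exact (Subgroup.zpowers_le.2 (Subgroup.subset_closure (k := {y | IsJLine T L y})
            (show IsJLine T L y from ⟨hy, hly, a, ⟨hgood, A, hA, hAimg⟩, hay⟩)))
            (conj_good_mem hV htr hly hay (hcent k hk _ y hy hly))
        | one => exact ⟨by simp [commutatorElement_def], one_mem _⟩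
        | mul a b _ _ ha hb =>
          refine ⟨?_, mul_mem ha.2 hb.2⟩
          have e : ⁅γ, a * b⁆ = ⁅γ, a⁆ * (a * ⁅γ, b⁆ * a⁻¹) := by
            simp only [commutatorElement_def]; group
          rw [e]
          exact R.mul_mem ha.1 ((Subgroup.mem_normalizer_iff.1 (hRn a ha.2) _).1 hb.1)
        | inv a _ ha =>
          refine ⟨?_, inv_mem ha.2⟩
          have e : ⁅γ, a⁻¹⁆ = a⁻¹ * ⁅γ, a⁆⁻¹ * a⁻¹⁻¹ := by
            simp only [commutatorElement_def]; group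
          rw [e]
          exact (Subgroup.mem_normalizer_iff.1 (hRn a⁻¹ (inv_mem ha.2)) _).1 (R.inv_mem ha.1)
      have hb := h.img_J ▸ mem_img_of (h.J_le hj) hj
      exact (hmem _ hb).1
    intro g hg hgL
    obtain ⟨g', hg', e⟩ := hle hg
    rwa [show g' = ⟨g, hgL⟩ from Subtype.ext e] at hg'
  have hR3 : ∀ r ∈ R, r ^ 3 = 1 := by
    intro r hr
    haveI : IsMulCommutative R := Subgroup.isMulCommutative_closure fun a ha b hb =>
      lines_comm hV ha.1 hb.1 ha.2.1 hb.2.1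
    induction hr using Subgroup.closure_induction with
    | mem a ha => rw [← ha.2.1.1]; exact pow_orderOf_eq_one a
    | one => exact one_pow _
    | mul a b ha hb iha ihb =>
      rw [(show Commute a b from congrArg Subtype.val
        (‹IsMulCommutative R›.is_comm.comm ⟨a, ha⟩ ⟨b, hb⟩)).mul_pow, iha, ihb, one_mul]
    | inv a _ ih => rw [inv_pow, ih, inv_one]
  have hKcore : Cfsg.pCoreOf 2 K ≤ K ⊓ cOf L := by
    refine le_inf (CfsgLib.LocalEvenCharP.pCoreOf_le 2 K) fun g hg => ?_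
    have hgK := CfsgLib.LocalEvenCharP.pCoreOf_le 2 K hg
    obtain ⟨m, hm⟩ := CfsgLib.LocalEvenCharP.isPGroup_pCoreOf 2 K ⟨g, hg⟩
    refine (act_eq_one_iff L ⟨g, hKL hgK⟩).1 (orderOf_eq_one_iff.1 ?_)
    refine Nat.eq_one_of_dvd_coprimes ((show Nat.Coprime 3 2 by norm_num).pow_right m)
      (orderOf_dvd_of_pow_eq_one (hR3 _ (himg g hgK _))) (orderOf_dvd_of_pow_eq_one ?_)
    rw [← map_pow, show (⟨g, hKL hgK⟩ : L) ^ 2 ^ m = 1 from
      Subtype.ext (by simpa using congrArg Subtype.val hm), map_one]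
  have hKC : ¬ K ≤ cOf L := by
    intro hle
    have h1 : K ≤ Cfsg.pCoreOf 2 L := by
      conv_lhs => rw [← hKJ]
      rw [Subgroup.commutator_le]
      exact fun k hk j hj => h.comm_cOf_T (hle hk) (jOf_le T hj)
    have h2 : oddClosure K ≤ ⊥ := (Subgroup.closure_le _).2 fun g hg =>
      CfsgLib.LocalEvenCharP.eq_one_of_coprime_of_mem h.isPGroup_core (h1 hg.1) hg.2.coprime_two_right
    rw [oddClosure_eq_of_closure hgen, le_bot_iff] at h2
    rw [h2, Subgroup.relIndex_bot_right] at hidx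
    norm_num at hidx
  have hcard : Nat.card ↥(img L K) = 3 := by
    have h1 := h.card_img_mul K hKL
    have h2 := Subgroup.relIndex_mul_relIndex ⊥ (Cfsg.pCoreOf 2 K) K bot_le
      (CfsgLib.LocalEvenCharP.pCoreOf_le 2 K)
    rw [Subgroup.relIndex_bot_left, Subgroup.relIndex_bot_left, hidx, ← h1] at h2
    have h3 := Subgroup.card_le_of_le hKcore
    have h4 : Nat.card ↥(img L K) ≤ 3 :=
      Nat.le_of_mul_le_mul_left (h2.symm.le.trans (Nat.mul_le_mul_right 3 h3)) Nat.card_pos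
    obtain ⟨g, hg, hgC⟩ := SetLike.not_le_iff_exists.1 hKC
    have hne : act L ⟨g, hKL hg⟩ ≠ 1 := fun e => hgC ((act_eq_one_iff L _).1 e)
    have h5 : orderOf (act L ⟨g, hKL hg⟩) = 3 := by
      haveI : Fact (Nat.Prime 3) := ⟨Nat.prime_three⟩
      exact orderOf_eq_prime (hR3 _ (himg g hg _)) hne
    have h6 := Subgroup.orderOf_dvd_natCard _ (mem_img_of (hKL hg) hg)
    rw [h5] at h6
    exact le_antisymm h4 (Nat.le_of_dvd Nat.card_pos h6)
  -- the line
  obtain ⟨a, ha, k, hk, hne⟩ : ∃ a, JGood T L a ∧ ∃ k : L, (k : G) ∈ K ∧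
      act L k * a * (act L k)⁻¹ * a⁻¹ ≠ 1 := by
    by_contra hcon
    push Not at hcon
    refine hKC ?_
    conv_lhs => rw [← hKJ]
    rw [Subgroup.commutator_le]
    intro k hk j hj
    refine (act_eq_one_iff L ⁅(⟨k, hKL hk⟩ : L), (⟨j, h.J_le hj⟩ : L)⁆).1 ?_
    rw [map_commutatorElement, commutatorElement_eq_one_iff_mul_comm]
    have hb := h.img_J ▸ mem_img_of (h.J_le hj) hj
    have hle : Subgroup.closure {a | JGood T L a} ≤
        Subgroup.centralizer ({act L ⟨k, hKL hk⟩} : Set (MulAut ↥(vOf L))) := by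
      rw [Subgroup.closure_le]
      intro a ha
      have h1 := hcon a ha ⟨k, hKL hk⟩ hk
      rw [mul_inv_eq_one, mul_inv_eq_iff_eq_mul] at h1
      exact Subgroup.mem_centralizer_singleton_iff.2 h1.symm
    exact (Subgroup.mem_centralizer_singleton_iff.1 (hle hb)).symm
  obtain ⟨hgood, A, hA, j, hjA, hja⟩ := ha
  obtain ⟨-, htr, y, hy, hly, hay⟩ := hgood
  have hyJ : IsJLine T L y := ⟨hy, hly, a, ⟨⟨⟨j, hja⟩, htr, y, hy, hly, hay⟩, A, hA, j, hjA, hja⟩, hay⟩
  have hc1 := conj_good_mem hV htr hly hay (hcent k hk k.2 y hy hly)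
  have hc2 : act L k * a * (act L k)⁻¹ * a⁻¹ ∈ img L K := by
    refine ⟨⁅k, j⁆, ?_, by rw [map_commutatorElement, hja, commutatorElement_def]⟩
    exact hKJ.le (Subgroup.commutator_mem_commutator hk
      (show (j : G) ∈ Cfsg.thompsonSubgroupOf 2 T from jOf_eq T ▸ hA.le_thompson hjA))
  have himgeq : img L K = Subgroup.zpowers y := by
    have hy3 : Nat.card (Subgroup.zpowers y) = 3 := by rw [Nat.card_zpowers, hly.1]
    have hle : Subgroup.zpowers y ≤ img L K := by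
      rw [Subgroup.zpowers_le]
      rcases mem_zpowers_three hly hc1 with e | e | e
      · exact absurd e hne
      · rwa [e] at hc2
      · rw [e] at hc2; simpa using inv_mem hc2
    exact (Subgroup.eq_of_le_of_card_ge hle (by rw [hcard, hy3])).symm
  have hKP : K ≤ pre L y := fun g hg => mem_pre.2 ⟨hKL hg, himgeq.le (mem_img_of (hKL hg) hg)⟩
  have hp := h.kprops hyJ
  have hQK : Cfsg.pCoreOf 2 L ≤ Subgroup.normalizer (K : Set G) :=
    le_normalizer_of_common h.J_pgroup hgen hKJ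
      ((sup_le hKL h.J_le).trans (core_normal (L := L)))
      (core_le_cOf.trans h.cOf_normalizer_J)
  refine ⟨y, hyJ, le_antisymm ?_ ?_⟩
  · conv_lhs => rw [← oddClosure_eq_of_closure hgen]
    refine Subgroup.closure_mono fun g hg => ⟨?_, hg.2⟩
    exact (Subgroup.commutator_mono hKP le_rfl) (hKJ.ge hg.1)
  · have hsup : ⁅pre L y, J⁆ ≤ K ⊔ Cfsg.pCoreOf 2 L := by
      rw [Subgroup.commutator_le]
      intro p hp' t ht
      obtain ⟨hpL, hp''⟩ := mem_pre.1 hp'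
      obtain ⟨k', hk', hke⟩ := himgeq.ge hp''
      set c := (k' : G)⁻¹ * p with hc
      have hcC : c ∈ cOf L := by
        refine (act_eq_one_iff L (k'⁻¹ * ⟨p, hpL⟩)).1 ?_
        rw [map_mul, map_inv, hke, inv_mul_cancel]
      have e : ⁅p, t⁆ = ((k' : G) * ⁅c, t⁆ * (k' : G)⁻¹) * ⁅(k' : G), t⁆ := by
        rw [hc]; simp only [commutatorElement_def]; group
      rw [e]
      exact mul_mem (Subgroup.mem_sup_right ((Subgroup.mem_normalizer_iff.1
          (core_normal (L := L) k'.2) _).1 (h.comm_cOf_T hcC (jOf_le T ht))))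
        (Subgroup.mem_sup_left (hKJ.le (Subgroup.commutator_mem_commutator hk' ht)))
    refine (Subgroup.closure_le _).2 fun g hg => ?_
    have hg' : g ∈ ((K ⊔ Cfsg.pCoreOf 2 L : Subgroup G) : Set G) := hsup hg.1
    rw [Subgroup.coe_mul_of_right_le_normalizer_left K _ hQK] at hg'
    obtain ⟨k', hk', q, hq, rfl⟩ := hg'
    obtain ⟨m, hm⟩ := h.isPGroup_core ⟨q, hq⟩
    exact odd_mem_of_mul hk' (hQK hq) (m := m) (by simpa using congrArg Subtype.val hm) hg.2

end Over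

end CfsgLib.JComp
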