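import Cfsg.Agent.Lib.LocalEven.JComp.Setting

/-!
Transport of components, maximal 2-local subgroups and their attached groups by inner automorphisms.
-/

set_option autoImplicit false

open Cfsg CfsgLib.PLocal
open scoped commutatorElement

namespace CfsgLib.JComp

variable {G : Type*} [Group G]

theorem map_conj_inv (H : Subgroup G) (g : G) :
    (H.map (MulAut.conj g⁻¹).toMonoidHom).map (MulAut.conj g).toMonoidHom = H := by
  have h := CfsgLib.LocalEven.map_conj_inv_map_conj H g⁻¹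
  rwa [inv_inv] at h

theorem map_conj_le_iff {H K : Subgroup G} {g : G} :
    H.map (MulAut.conj g).toMonoidHom ≤ K ↔ H ≤ K.map (MulAut.conj g⁻¹).toMonoidHom :=
  ⟨fun h => (CfsgLib.LocalEven.map_conj_inv_map_conj H g).ge.trans (Subgroup.map_mono h),
    fun h => (Subgroup.map_mono h).trans (map_conj_inv K g).le⟩

theorem omegaCenterOf_conj (X : Subgroup G) (g : G) :
    Cfsg.omegaCenterOf (X.map (MulAut.conj g).toMonoidHom) =
      (Cfsg.omegaCenterOf X).map (MulAut.conj g).toMonoidHom := by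
  have hinj : Function.Injective (MulAut.conj g).toMonoidHom := (MulAut.conj g).injective
  rw [Cfsg.omegaCenterOf, Cfsg.omegaCenterOf, ← omegaOne_map hinj, Subgroup.map_inf _ _ _ hinj,
    CfsgLib.LocalEven.map_centralizer_conj]

theorem pCoreOf_conj [Finite G] (X : Subgroup G) (g : G) :
    Cfsg.pCoreOf 2 (X.map (MulAut.conj g).toMonoidHom) =
      (Cfsg.pCoreOf 2 X).map (MulAut.conj g).toMonoidHom :=
  haveI : Fact (Nat.Prime 2) := ⟨Nat.prime_two⟩
  CfsgLib.LocalEven.pCoreOf_map_equiv X (MulAut.conj g)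

theorem wOf_conj [Finite G] (K : Subgroup G) (g : G) :
    Cfsg.wOf (K.map (MulAut.conj g).toMonoidHom) =
      (Cfsg.wOf K).map (MulAut.conj g).toMonoidHom := by
  rw [Cfsg.wOf, Cfsg.wOf, pCoreOf_conj, omegaCenterOf_conj, Subgroup.map_commutator]

theorem normalizer_conj (H : Subgroup G) (g : G) :
    Subgroup.normalizer (H.map (MulAut.conj g).toMonoidHom : Set G) =
      (Subgroup.normalizer (H : Set G)).map (MulAut.conj g).toMonoidHom := by
  refine le_antisymm ?_ (Subgroup.le_normalizer_map _)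
  have h := Subgroup.le_normalizer_map (H := H.map (MulAut.conj g).toMonoidHom)
    (MulAut.conj g⁻¹).toMonoidHom
  rw [CfsgLib.LocalEven.map_conj_inv_map_conj] at h
  exact (map_conj_inv _ g).ge.trans (Subgroup.map_mono h)

theorem isSylowTwoIn_conj {T L : Subgroup G} (h : Cfsg.IsSylowTwoIn T L) (g : G) :
    Cfsg.IsSylowTwoIn (T.map (MulAut.conj g).toMonoidHom) (L.map (MulAut.conj g).toMonoidHom) := by
  refine ⟨Subgroup.map_mono h.1, h.2.1.map _, ?_⟩
  rw [Subgroup.relIndex_map_map_of_injective _ _ (MulAut.conj g).injective]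
  exact h.2.2

theorem isSylowTwoIn_conj_iff {T L : Subgroup G} (g : G) :
    Cfsg.IsSylowTwoIn (T.map (MulAut.conj g).toMonoidHom) L ↔
      Cfsg.IsSylowTwoIn T (L.map (MulAut.conj g⁻¹).toMonoidHom) := by
  constructor
  · intro h
    have := isSylowTwoIn_conj h g⁻¹
    rwa [CfsgLib.LocalEven.map_conj_inv_map_conj] at this
  · intro h
    have := isSylowTwoIn_conj h g
    rwa [map_conj_inv] at this

theorem isTwoLocal_conj {N : Subgroup G} (h : Cfsg.IsTwoLocal N) (g : G) :
    Cfsg.IsTwoLocal (N.map (MulAut.conj g).toMonoidHom) := by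
  obtain ⟨Q, hQ, hQ1, rfl⟩ := h
  exact ⟨_, hQ.map _, fun e => hQ1 ((Subgroup.map_eq_bot_iff_of_injective Q
    (MulAut.conj g).injective).1 e), (normalizer_conj Q g).symm⟩

theorem isMaximalTwoLocal_conj {N : Subgroup G} (h : Cfsg.IsMaximalTwoLocal N) (g : G) :
    Cfsg.IsMaximalTwoLocal (N.map (MulAut.conj g).toMonoidHom) :=
  ⟨isTwoLocal_conj h.1 g, fun N' hN' hle => by
    rw [← map_conj_inv N' g, h.2 _ (isTwoLocal_conj hN' g⁻¹) (map_conj_le_iff.1 hle)]⟩

theorem isJComponent_conj [Finite G] {T K : Subgroup G} (hK : Cfsg.IsJComponent T K) (g : G) :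
    Cfsg.IsJComponent (T.map (MulAut.conj g).toMonoidHom) (K.map (MulAut.conj g).toMonoidHom) := by
  obtain ⟨h1, h2, h3, h4, h5, h6⟩ := hK
  have hinj : Function.Injective (MulAut.conj g).toMonoidHom := (MulAut.conj g).injective
  refine ⟨le_antisymm ((Subgroup.closure_le _).2 fun x hx => hx.1) ?_, ?_, ?_, fun S hS hJS => ?_, ?_, ?_⟩
  · conv_lhs => rw [← h1, MonoidHom.map_closure]
    refine Subgroup.closure_mono ?_
    rintro _ ⟨x, ⟨hx, hxo⟩, rfl⟩
    exact ⟨⟨x, hx, rfl⟩, by rwa [orderOf_injective _ hinj]⟩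
  · rw [jOf_conj, ← Subgroup.map_commutator, h2]
  · rw [pCoreOf_conj, Subgroup.relIndex_map_map_of_injective _ _ hinj, h3]
  · rw [jOf_conj, ← Subgroup.map_sup] at hS
    rw [jOf_conj] at hJS
    have hS' := isSylowTwoIn_conj hS g⁻¹
    rw [CfsgLib.LocalEven.map_conj_inv_map_conj] at hS'
    have hJS' := (CfsgLib.LocalEven.map_conj_inv_map_conj _ g).ge.trans
      (Subgroup.map_mono (f := (MulAut.conj g⁻¹).toMonoidHom) hJS)
    rw [jOf_conj T, ← h4 _ hS' hJS', jOf_conj S, map_conj_inv]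
  · rw [wOf_conj, Subgroup.card_map_of_injective hinj, h5]
  · rw [wOf_conj]
    rintro _ ⟨w, hw, rfl⟩
    rw [← map_mul, h6 w hw, map_one]

theorem exists_maximal_ge [Finite G] {N : Subgroup G} (h : Cfsg.IsTwoLocal N) :
    ∃ L, Cfsg.IsMaximalTwoLocal L ∧ N ≤ L := by
  classical
  obtain ⟨L, hL, hmax⟩ := Set.exists_max_image {L : Subgroup G | Cfsg.IsTwoLocal L ∧ N ≤ L}
    (fun L => Nat.card L) (Set.toFinite _) ⟨N, h, le_rfl⟩
  exact ⟨L, ⟨hL.1, fun L' hL' hle =>
    (Subgroup.eq_of_le_of_card_ge hle (hmax L' ⟨hL', hL.2.trans hle⟩)).symm⟩, hL.2⟩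

/-- The order of a largest elementary abelian subgroup is invariant under conjugation. -/
theorem maxElemAbelianOrder_conj [Finite G] (P : Subgroup G) (g : G) :
    Cfsg.maxElemAbelianOrder (P.map (MulAut.conj g).toMonoidHom) =
      Cfsg.maxElemAbelianOrder P := by
  obtain ⟨A, hA⟩ := exists_isMaxElemIn 2 P
  rw [maxElemAbelianOrder_eq hA, maxElemAbelianOrder_eq
    ((isMaxElemIn_map_iff (f := (MulAut.conj g).toMonoidHom) (MulAut.conj g).injective).2 hA),
    Subgroup.card_map_of_injective (MulAut.conj g).injective]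

end CfsgLib.JComp
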