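import Cfsg.Agent.Lib.LocalEven.JComp.Moved

/-!
Elements of order three moving a four-group, involutions moving a subgroup of order two, and the
way they interlock.
-/

set_option autoImplicit false

namespace CfsgLib.JComp

variable {V : Type*} [CommGroup V]

/-- `x` has order three and `[V, x]` is a four-group. -/
def IsLine (x : MulAut V) : Prop := orderOf x = 3 ∧ Nat.card ↥(mv x) = 4

/-- `a` is an involution with `[V, a]` of order two. -/
def IsTransv (a : MulAut V) : Prop := a * a = 1 ∧ Nat.card ↥(mv a) = 2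

theorem IsLine.odd {x : MulAut V} (hx : IsLine x) : Odd (orderOf x) := by
  rw [hx.1]; decide

theorem IsLine.cube {x : MulAut V} (hx : IsLine x) : x * x * x = 1 := by
  have := pow_orderOf_eq_one x
  rwa [hx.1, pow_succ, pow_two] at this

theorem IsLine.ne_one {x : MulAut V} (hx : IsLine x) : x ≠ 1 := by
  intro h; have := hx.1; rw [h, orderOf_one] at this; norm_num at this

theorem IsLine.conj {x : MulAut V} (hx : IsLine x) (g : MulAut V) : IsLine (g * x * g⁻¹) := by
  refine ⟨?_, ?_⟩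
  · rw [← hx.1]
    exact orderOf_injective (MulAut.conj g).toMonoidHom (MulAut.conj g).injective x
  · rw [mv_conj, Subgroup.card_map_of_injective g.injective, hx.2]

theorem IsTransv.conj {a : MulAut V} (ha : IsTransv a) (g : MulAut V) :
    IsTransv (g * a * g⁻¹) := by
  refine ⟨?_, ?_⟩
  · calc g * a * g⁻¹ * (g * a * g⁻¹) = g * (a * a) * g⁻¹ := by group
      _ = 1 := by rw [ha.1, mul_one, mul_inv_cancel]
  · rw [mv_conj, Subgroup.card_map_of_injective g.injective, ha.2]

/-- The elements of a subgroup of order four, given two of them. -/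
theorem four_cases [Finite V] (hV : Exp2 V) {U : Subgroup V} (hU : Nat.card U = 4) {v w : V}
    (hv : v ∈ U) (hw : w ∈ U) (hv1 : v ≠ 1) (hw1 : w ≠ 1) (hvw : v ≠ w) {u : V} (hu : u ∈ U) :
    u = 1 ∨ u = v ∨ u = w ∨ u = v * w := by
  have h4 : ({1, v, w, v * w} : Set V).ncard = 4 := by
    have h1 : v ≠ v * w := fun h => hw1 (left_eq_mul.1 h)
    have h2 : w ≠ v * w := fun h => hv1 (right_eq_mul.1 h)
    have h3 : (1 : V) ≠ v * w := by
      intro h
      apply hvw
      calc v = v * (w * w) := by rw [hV, mul_one]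
        _ = w := by rw [← mul_assoc, ← h, one_mul]
    rw [Set.ncard_insert_of_notMem (by simp [Ne.symm hv1, Ne.symm hw1, h3]),
      Set.ncard_insert_of_notMem (by simp [hvw, h1]), Set.ncard_pair h2]
  have hsub : ({1, v, w, v * w} : Set V) ⊆ U := by
    rintro z (rfl | rfl | rfl | rfl)
    · exact U.one_mem
    · exact hv
    · exact hw
    · exact U.mul_mem hv hw
  have := Set.eq_of_subset_of_ncard_le hsub (by rw [h4, ← Nat.card_coe_set_eq]; exact hU.le)
  have h : u ∈ ({1, v, w, v * w} : Set V) := this ▸ hu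
  simpa using h

theorem IsLine.exists_cycle [Finite V] (hV : Exp2 V) {x : MulAut V} (hx : IsLine x) {v : V}
    (hv : v ∈ mv x) (hv1 : v ≠ 1) :
    x v ∈ mv x ∧ x v ≠ 1 ∧ v ≠ x v ∧ x (x v) = v * x v := by
  have h1 : x v ∈ mv x := apply_mem_mv rfl hv
  have h2 : x v ≠ 1 := fun h => hv1 (x.injective (h.trans (map_one x).symm))
  have h3 : v ≠ x v := fun h => hv1 (eq_one_of_mem_mv_fx hV hx.odd hv h.symm)
  refine ⟨h1, h2, h3, ?_⟩
  have hc : x (x (x v)) = v := by
    rw [← MulAut.mul_apply, ← MulAut.mul_apply, hx.cube, MulAut.one_apply]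
  rcases four_cases hV hx.2 hv h1 hv1 h2 h3 (apply_mem_mv rfl h1) with h | h | h | h
  · exact absurd (x.injective (h.trans (map_one x).symm)) h2
  · exact absurd ((congrArg x h).symm.trans hc).symm h3
  · exact absurd (x.injective h).symm h3
  · exact h

theorem exists_ne_one_of_card [Finite V] {U : Subgroup V} {n : ℕ} (h : Nat.card U = n) (hn : 2 ≤ n) :
    ∃ v ∈ U, v ≠ 1 := by
  have : U ≠ ⊥ := fun h' => by rw [h', Subgroup.card_bot] at h; omega
  obtain ⟨⟨v, hv⟩, hv1⟩ := Subgroup.ne_bot_iff_exists_ne_one.1 this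
  exact ⟨v, hv, fun h => hv1 (Subtype.ext h)⟩

/-- Elements centralizing a line and its fixed space lie in the line. -/
theorem mem_zpowers_of_comm [Finite V] (hV : Exp2 V) {x g : MulAut V} (hx : IsLine x)
    (hc : g * x = x * g) (hf : ∀ v, x v = v → g v = v) : g ∈ Subgroup.zpowers x := by
  obtain ⟨v, hv, hv1⟩ := exists_ne_one_of_card hx.2 (by norm_num)
  obtain ⟨hxv, hxv1, hne, hxx⟩ := hx.exists_cycle hV hv hv1
  obtain ⟨i, hi⟩ : ∃ i : ℕ, g v = (x ^ i) v := by
    rcases four_cases hV hx.2 hv hxv hv1 hxv1 hne (apply_mem_mv hc hv) with h | h | h | h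
    · exact absurd (g.injective (h.trans (map_one g).symm)) hv1
    · exact ⟨0, by simpa using h⟩
    · exact ⟨1, by simpa using h⟩
    · exact ⟨2, by rw [h, pow_two, MulAut.mul_apply, hxx]⟩
  suffices g = x ^ i by rw [this]; exact Subgroup.npow_mem_zpowers x i
  have hcx : Commute (x ^ i) x := Commute.pow_self x i
  have hgx : g (x v) = (x ^ i) (x v) := by
    rw [← MulAut.mul_apply, hc, MulAut.mul_apply, hi, ← MulAut.mul_apply, ← hcx.eq,
      MulAut.mul_apply]
  have hU : ∀ u ∈ mv x, g u = (x ^ i) u := by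
    intro u hu
    rcases four_cases hV hx.2 hv hxv hv1 hxv1 hne hu with rfl | rfl | rfl | rfl
    · simp
    · exact hi
    · exact hgx
    · rw [map_mul, map_mul, hi, hgx]
  have hF : ∀ w, x w = w → (x ^ i) w = w := by
    intro w hw
    clear hi hcx hgx hU
    induction i with
    | zero => simp
    | succ i ih => rw [pow_succ, MulAut.mul_apply, hw, ih]
  ext w
  obtain ⟨u, hu, f, hf', rfl⟩ := exists_mul_of_sup ((mv_sup_fx hV hx.odd).ge (Subgroup.mem_top w))
  rw [map_mul, map_mul, hU u hu, hf f hf', hF f hf']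

theorem mem_zpowers_three {x g : MulAut V} (hx : IsLine x) (hg : g ∈ Subgroup.zpowers x) :
    g = 1 ∨ g = x ∨ g = x⁻¹ := by
  classical
  haveI : Finite (Subgroup.zpowers x) :=
    Nat.finite_of_card_ne_zero (by rw [Nat.card_zpowers, hx.1]; norm_num)
  have hfin : IsOfFinOrder x := orderOf_pos_iff.1 (by rw [hx.1]; norm_num)
  obtain ⟨i, hi, rfl⟩ := Finset.mem_image.1
    (hfin.mem_zpowers_iff_mem_range_orderOf.1 hg)
  rw [Finset.mem_range, hx.1] at hi
  interval_cases i
  · exact Or.inl (pow_zero x)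
  · exact Or.inr (Or.inl (pow_one x))
  · refine Or.inr (Or.inr (eq_inv_of_mul_eq_one_left ?_))
    rw [pow_two]; exact hx.cube

theorem mv_inv (x : MulAut V) : mv x⁻¹ = mv x := by
  have key : ∀ x : MulAut V, mv x⁻¹ ≤ mv x := by
    rintro x _ ⟨v, rfl⟩
    exact ⟨x⁻¹ v, by rw [dv_apply, dv_apply, MulAut.apply_inv_self, mul_comm]⟩
  refine le_antisymm (key x) ?_
  have := key x⁻¹
  rwa [inv_inv] at this

/-- Commuting lines with the same four-group are equal up to inversion. -/
theorem mem_zpowers_of_mv_eq [Finite V] (hV : Exp2 V) {x y : MulAut V} (hx : IsLine x)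
    (hy : IsLine y) (hc : y * x = x * y) (h : mv x = mv y) : y ∈ Subgroup.zpowers x := by
  refine mem_zpowers_of_comm hV hx hc fun v hv => (dv_eq_one_iff hV).1 ?_
  refine eq_one_of_mem_mv_fx hV hx.odd (h ▸ dv_mem_mv y v) ?_
  rw [dv_comm hc.symm, hv]

theorem mv_inf_mv [Finite V] (hV : Exp2 V) {x y : MulAut V} (hx : IsLine x) (hy : IsLine y)
    (hc : y * x = x * y) (h : mv x ≠ mv y) : mv x ⊓ mv y = ⊥ := by
  rw [Subgroup.eq_bot_iff_forall]
  intro w hw
  by_contra hw1
  obtain ⟨h1, h2, h3, -⟩ := hx.exists_cycle hV hw.1 hw1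
  refine h (Subgroup.eq_of_le_of_card_ge (fun u hu => ?_) (by rw [hx.2, hy.2]))
  have h4 : x w ∈ mv y := apply_mem_mv hc.symm hw.2
  rcases four_cases hV hx.2 hw.1 h1 hw1 h2 h3 hu with rfl | rfl | rfl | rfl
  · exact one_mem _
  · exact hw.2
  · exact h4
  · exact mul_mem hw.2 h4

theorem sup_inf_mv [Finite V] (hV : Exp2 V) {x y z : MulAut V} (hx : IsLine x) (hy : IsLine y)
    (hz : IsLine z) (hzx : z * x = x * z) (hzy : z * y = y * z) (h1 : mv x ≠ mv z)
    (h2 : mv y ≠ mv z) : (mv x ⊔ mv y) ⊓ mv z = ⊥ := by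
  have key : ∀ {x : MulAut V}, IsLine x → z * x = x * z → mv x ≠ mv z →
      ∀ u ∈ mv x, z u = u := by
    intro x hx hc h u hu
    rw [← dv_eq_one_iff hV]
    exact (Subgroup.eq_bot_iff_forall _).1 (mv_inf_mv hV hx hz hc h) _
      ⟨(mv x).mul_mem (apply_mem_mv hc hu) hu, dv_mem_mv z u⟩
  rw [Subgroup.eq_bot_iff_forall]
  rintro w ⟨hw, hwz⟩
  obtain ⟨u, hu, u', hu', rfl⟩ := exists_mul_of_sup hw
  refine eq_one_of_mem_mv_fx hV hz.odd hwz ?_
  rw [map_mul, key hx hzx h1 u hu, key hy hzy h2 u' hu']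

theorem card_sup_mv_le [Finite V] (x y : MulAut V) :
    Nat.card ↥(mv x ⊔ mv y) ≤ Nat.card ↥(mv x) * Nat.card ↥(mv y) := by
  rw [← card_sup_eq]
  exact Nat.le_mul_of_pos_right _ Nat.card_pos

/-- In a 3-group, lines commute. -/
theorem lines_commute [Finite V] (hV : Exp2 V) :
    ∀ (n : ℕ) (P : Subgroup (MulAut V)), Nat.card P ≤ n → IsPGroup 3 P → ∀ x ∈ P, ∀ y ∈ P,
      IsLine x → IsLine y → x * y = y * x := by
  intro n
  induction n with
  | zero => intro P h; have := Nat.card_pos (α := P); omega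
  | succ n ih =>
    intro P hn hP x hx y hy hlx hly
    haveI : Fact (Nat.Prime 3) := ⟨Nat.prime_three⟩
    set P₀ := Subgroup.closure ({x, y} : Set (MulAut V)) with hP₀
    have hP₀P : P₀ ≤ P := (Subgroup.closure_le _).2 (by
      rintro z (rfl | rfl)
      · exact hx
      · exact hy)
    have hx0 : x ∈ P₀ := Subgroup.subset_closure (by simp)
    have hy0 : y ∈ P₀ := Subgroup.subset_closure (by simp)
    have hP₀p : IsPGroup 3 P₀ := hP.to_le hP₀P
    haveI : Group.IsNilpotent P₀ := hP₀p.isNilpotent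
    rcases eq_top_or_exists_le_coatom (Subgroup.zpowers (⟨y, hy0⟩ : P₀)) with htop | ⟨M, hM, hyM⟩
    · obtain ⟨i, hi⟩ := Subgroup.mem_zpowers_iff.1 (htop.ge (Subgroup.mem_top (⟨x, hx0⟩ : P₀)))
      have : y ^ i = x := by simpa using congrArg Subtype.val hi
      rw [← this]
      exact (Commute.zpow_self y i).eq
    haveI : M.Normal :=
      Subgroup.NormalizerCondition.normal_of_coatom M (Group.normalizerCondition_of_isNilpotent (G := P₀)) hM
    set M' := M.map P₀.subtype with hM'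
    have hM'le : Nat.card M' ≤ n := by
      have h1 : Nat.card M' = Nat.card M := Subgroup.card_map_of_injective P₀.subtype_injective
      have h2 : Nat.card M < Nat.card P₀ := by
        rw [← Subgroup.card_mul_index M]
        refine lt_mul_of_one_lt_right Nat.card_pos ?_
        rcases Nat.lt_or_ge 1 M.index with h | h
        · exact h
        · exact absurd (Subgroup.index_eq_one.1
            (le_antisymm h (Nat.one_le_iff_ne_zero.2 Subgroup.index_ne_zero_of_finite))) hM.1
      have h3 := Subgroup.card_le_of_le hP₀P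
      omega
    have hconj : ∀ z ∈ M', x * z * x⁻¹ ∈ M' := by
      rintro _ ⟨z, hz, rfl⟩
      exact ⟨_, (inferInstance : M.Normal).conj_mem z hz ⟨x, hx0⟩, rfl⟩
    have hyM' : y ∈ M' := ⟨⟨y, hy0⟩, hyM (Subgroup.mem_zpowers _), rfl⟩
    set y₁ := x * y * x⁻¹ with hy₁
    set y₂ := x * y₁ * x⁻¹ with hy₂
    have hl1 : IsLine y₁ := hly.conj x
    have hl2 : IsLine y₂ := hl1.conj x
    have hp : IsPGroup 3 M' := hP₀p.to_le (Subgroup.map_subtype_le _)
    have hy1M := hconj y hyM'
    have hy2M := hconj y₁ hy1M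
    have c10 := ih M' hM'le hp _ hy1M _ hyM' hl1 hly
    have c20 := ih M' hM'le hp _ hy2M _ hyM' hl2 hly
    have c21 := ih M' hM'le hp _ hy2M _ hy1M hl2 hl1
    have hxyy : x * y₂ * x⁻¹ = y := by
      have e : x⁻¹ * x⁻¹ * x⁻¹ = 1 := by
        rw [← inv_one (G := MulAut V), ← hlx.cube]; group
      calc x * y₂ * x⁻¹ = (x * x * x) * y * (x⁻¹ * x⁻¹ * x⁻¹) := by rw [hy₂, hy₁]; group
        _ = y := by rw [hlx.cube, e, one_mul, mul_one]
    by_cases h01 : mv y = mv y₁
    · rcases mem_zpowers_three hly (mem_zpowers_of_mv_eq hV hly hl1 c10 h01) with h | h | h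
      · exact absurd h hl1.ne_one
      · rw [hy₁, mul_inv_eq_iff_eq_mul] at h
        exact h
      · exfalso
        have h2 : y₂ = y := by rw [hy₂, h]; calc x * y⁻¹ * x⁻¹ = y₁⁻¹ := by rw [hy₁]; group
            _ = y := by rw [h, inv_inv]
        have h3 : y⁻¹ = y := by rw [← h, hy₁]; exact h2 ▸ hxyy
        have h4 : y * y = 1 := by
          calc y * y = y * y⁻¹ := by rw [h3]
            _ = 1 := mul_inv_cancel y
        have h5 := orderOf_dvd_of_pow_eq_one (x := y) (n := 2) (by rw [pow_two, h4])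
        rw [hly.1] at h5
        norm_num at h5
    · exfalso
      have h12 : mv y₁ ≠ mv y₂ := fun h => h01 (by
        have e1 : mv y₁ = (mv y).map x.toMonoidHom := mv_conj x y
        have e2 : mv y₂ = (mv y₁).map x.toMonoidHom := mv_conj x y₁
        rw [e2] at h
        nth_rewrite 1 [e1] at h
        exact Subgroup.map_injective x.injective h)
      have h02 : mv y ≠ mv y₂ := fun h => h01 (by
        have : mv (x * y * x⁻¹) = mv (x * y₂ * x⁻¹) := by rw [mv_conj, mv_conj, h]
        rw [hxyy, ← hy₁] at this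
        exact this.symm)
      set E := mv x ⊔ mv y with hE
      have hEx : ∀ w ∈ E, x w ∈ E := fun w hw => by
        have h := apply_mem_sup_mv hV x hw
        rwa [hE, ← sup_assoc, sup_idem] at h
      have h1E : mv y₁ ≤ E := by
        rw [hy₁, mv_conj]; rintro _ ⟨w, hw, rfl⟩; exact hEx w (Subgroup.mem_sup_right hw)
      have h2E : mv y₂ ≤ E := by
        rw [hy₂, mv_conj]; rintro _ ⟨w, hw, rfl⟩; exact hEx w (h1E hw)
      have hEq : mv y ⊔ mv y₁ = E := by
        refine Subgroup.eq_of_le_of_card_ge (sup_le le_sup_right h1E) ?_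
        rw [card_sup_of_disjoint (mv_inf_mv hV hly hl1 c10 h01), hly.2, hl1.2]
        have := card_sup_mv_le x y
        rwa [hlx.2, hly.2] at this
      have := sup_inf_mv hV hly hl1 hl2 c20 c21 h02 h12
      rw [hEq, inf_eq_right.2 h2E] at this
      have h4 := hl2.2
      rw [this, Subgroup.card_bot] at h4
      norm_num at h4

theorem inverts_mv [Finite V] (hV : Exp2 V) {a x : MulAut V} (ha : IsTransv a) (hx : IsLine x)
    (hinv : a * x * a⁻¹ = x⁻¹) :
    mv a ≤ mv x ∧ (∀ v, x v = v → a v = v) ∧ ∀ v ∈ mv x, a v ∈ mv x := by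
  have hax : a * x = x⁻¹ * a := mul_inv_eq_iff_eq_mul.1 hinv
  have hU : ∀ v ∈ mv x, a v ∈ mv x := by
    intro v hv
    have := mv_conj a x
    rw [hinv, mv_inv] at this
    rw [this]
    exact Subgroup.mem_map_of_mem _ hv
  obtain ⟨v, hv, hne⟩ : ∃ v ∈ mv x, a v ≠ v := by
    by_contra hcon
    push Not at hcon
    obtain ⟨v, hv, hv1⟩ := exists_ne_one_of_card hx.2 (by norm_num)
    obtain ⟨h1, -, h3, -⟩ := hx.exists_cycle hV hv hv1
    have e : x v = x⁻¹ v := by
      calc x v = a (x v) := (hcon _ h1).symm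
        _ = x⁻¹ (a v) := by rw [← MulAut.mul_apply, hax, MulAut.mul_apply]
        _ = x⁻¹ v := by rw [hcon v hv]
    have e2 : x (x v) = v := by rw [congrArg x e, MulAut.apply_inv_self]
    have e3 : x (x (x v)) = v := by
      rw [← MulAut.mul_apply, ← MulAut.mul_apply, hx.cube, MulAut.one_apply]
    exact h3 ((congrArg x e2).symm.trans e3).symm
  have hle : mv a ≤ mv x := by
    intro w hw
    obtain ⟨o, ho⟩ := (Nat.card_eq_two_iff' (1 : mv a)).1 ha.2
    by_cases hw1 : w = 1
    · rw [hw1]; exact one_mem _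
    have e1 := ho.2 ⟨w, hw⟩ (fun h => hw1 (congrArg Subtype.val h))
    have e2 := ho.2 ⟨dv a v, dv_mem_mv a v⟩
      (fun h => hne ((dv_eq_one_iff hV).1 (congrArg Subtype.val h)))
    rw [show w = dv a v from congrArg Subtype.val (e1.trans e2.symm)]
    exact mul_mem (hU v hv) hv
  refine ⟨hle, fun f hf => (dv_eq_one_iff hV).1 ?_, hU⟩
  refine eq_one_of_mem_mv_fx hV hx.odd (hle (dv_mem_mv a f)) ?_
  have h1 : x (a f) = a f := by
    have h2 : a f = x⁻¹ (a f) := by
      conv_lhs => rw [← hf, ← MulAut.mul_apply, hax, MulAut.mul_apply]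
    conv_lhs => rw [h2]
    exact MulAut.apply_inv_self ..
  rw [dv_apply, map_mul, h1, hf]

/-- An involution commuting with a line acts trivially on its four-group. -/
theorem fix_mv_of_comm [Finite V] (hV : Exp2 V) {a x : MulAut V} (ha : a * a = 1) (hx : IsLine x)
    (hc : a * x = x * a) : ∀ v ∈ mv x, a v = v := by
  intro v hv
  by_contra hne
  have h1 : dv a v ∈ mv x := mul_mem (apply_mem_mv hc hv) hv
  have h2 : dv a v ≠ 1 := fun h => hne ((dv_eq_one_iff hV).1 h)
  obtain ⟨e1, e2, e3, -⟩ := hx.exists_cycle hV h1 h2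
  have f1 : a (dv a v) = dv a v := dv_mem_fx ha v
  have f2 : a (x (dv a v)) = x (dv a v) := by
    rw [← MulAut.mul_apply, hc, MulAut.mul_apply, f1]
  rcases four_cases hV hx.2 h1 e1 h2 e2 e3 hv with h | h | h | h
  · exact hne (by rw [h, map_one])
  · exact hne ((congrArg a h).trans (f1.trans h.symm))
  · exact hne ((congrArg a h).trans (f2.trans h.symm))
  · exact hne (by conv_lhs => rw [h, map_mul, f1, f2, ← h])

/-- A transvection permuting commuting lines fixes each of them. -/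
theorem transv_conj_line [Finite V] (hV : Exp2 V) {a y : MulAut V} (ha : IsTransv a)
    (hy : IsLine y) (hc : a * y * a⁻¹ * y = y * (a * y * a⁻¹)) :
    a * y * a⁻¹ = y ∨ a * y * a⁻¹ = y⁻¹ := by
  have hl := hy.conj a
  by_cases h : mv y = mv (a * y * a⁻¹)
  · rcases mem_zpowers_three hy (mem_zpowers_of_mv_eq hV hy hl hc h) with h | h | h
    · exact absurd h hl.ne_one
    · exact Or.inl h
    · exact Or.inr h
  · exfalso
    have hle : mv y ⊔ mv (a * y * a⁻¹) ≤ mv a ⊔ mv y := by
      refine sup_le le_sup_right ?_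
      rw [mv_conj]; rintro _ ⟨w, hw, rfl⟩
      exact apply_mem_sup_mv hV a hw
    have h1 := Subgroup.card_le_of_le hle
    rw [card_sup_of_disjoint (mv_inf_mv hV hy hl hc h), hy.2, hl.2] at h1
    have h2 := card_sup_mv_le a y
    rw [ha.2, hy.2] at h2
    omega

/-- A transvection inverts at most one line. -/
theorem line_unique [Finite V] (hV : Exp2 V) {a x y : MulAut V} (ha : IsTransv a) (hx : IsLine x)
    (hy : IsLine y) (hxy : y * x = x * y) (h1 : a * x * a⁻¹ = x⁻¹) (h2 : a * y * a⁻¹ = y⁻¹) :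
    y ∈ Subgroup.zpowers x := by
  refine mem_zpowers_of_mv_eq hV hx hy hxy ?_
  by_contra hne
  have h := le_inf (inverts_mv hV ha hx h1).1 (inverts_mv hV ha hy h2).1
  rw [mv_inf_mv hV hx hy hxy hne, le_bot_iff] at h
  have := ha.2
  rw [h, Subgroup.card_bot] at this
  norm_num at this

/-- Two transvections inverting the same line differ by an element of that line. -/
theorem transv_mul_mem [Finite V] (hV : Exp2 V) {a b x : MulAut V} (ha : IsTransv a)
    (hb : IsTransv b) (hx : IsLine x) (h1 : a * x * a⁻¹ = x⁻¹) (h2 : b * x * b⁻¹ = x⁻¹) :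
    a * b ∈ Subgroup.zpowers x := by
  refine mem_zpowers_of_comm hV hx ?_ fun v hv => ?_
  · rw [← mul_inv_eq_iff_eq_mul]
    calc a * b * x * (a * b)⁻¹ = a * (b * x * b⁻¹) * a⁻¹ := by group
      _ = (a * x * a⁻¹)⁻¹ := by rw [h2]; group
      _ = x := by rw [h1, inv_inv]
  · rw [MulAut.mul_apply, (inverts_mv hV hb hx h2).2.1 v hv, (inverts_mv hV ha hx h1).2.1 v hv]

theorem transv_eq [Finite V] (hV : Exp2 V) {a b x : MulAut V} (ha : IsTransv a) (hb : IsTransv b)
    (hx : IsLine x) (h1 : a * x * a⁻¹ = x⁻¹) (h2 : b * x * b⁻¹ = x⁻¹) {Q : Subgroup (MulAut V)}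
    (hQ : IsPGroup 2 Q) (haQ : a ∈ Q) (hbQ : b ∈ Q) : a = b := by
  have hd : orderOf (a * b) ∣ 3 :=
    hx.1 ▸ orderOf_dvd_of_mem_zpowers (transv_mul_mem hV ha hb hx h1 h2)
  obtain ⟨k, hk⟩ := hQ ⟨a * b, mul_mem haQ hbQ⟩
  have hk' : (a * b) ^ 2 ^ k = 1 := by simpa using congrArg Subtype.val hk
  have h3 : orderOf (a * b) = 1 := Nat.eq_one_of_dvd_coprimes
    (Nat.Coprime.pow_right k (by norm_num : Nat.Coprime 3 2)) hd (orderOf_dvd_of_pow_eq_one hk')
  calc a = a * (b * b) := by rw [hb.1, mul_one]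
    _ = b := by rw [← mul_assoc, orderOf_eq_one_iff.1 h3, one_mul]

/-- Transvections attached to different lines commute. -/
theorem transv_comm [Finite V] (hV : Exp2 V) {a b x : MulAut V} (ha : IsTransv a)
    (hb : b * b = 1) (hx : IsLine x) (h1 : a * x * a⁻¹ = x⁻¹) (hbx : b * x = x * b) :
    a * b = b * a := by
  obtain ⟨-, hfix, hU⟩ := inverts_mv hV ha hx h1
  have hbU := fix_mv_of_comm hV hb hx hbx
  ext w
  obtain ⟨u, hu, f, hf, rfl⟩ := exists_mul_of_sup ((mv_sup_fx hV hx.odd).ge (Subgroup.mem_top w))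
  rw [MulAut.mul_apply, MulAut.mul_apply, map_mul, map_mul, map_mul, map_mul, hbU u hu,
    hfix f hf, hfix (b f) (apply_mem_fx hbx hf), hbU (a u) (hU u hu)]

end CfsgLib.JComp
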