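import Cfsg.Agent.S1349
import Cfsg.Agent.Lib.LocalEven.JComp.Lines
import Cfsg.Agent.Lib.LocalEven.CharP

/-!
The offender theorem for solvable groups: a group generated by offenders on a faithful module over
`GF(2)` of a solvable group `H` with `O₂(H) = 1` is generated by transvections, each inverting an
element of order three of `F(H)` which moves a four-group.
-/

set_option autoImplicit false

open scoped commutatorElement

namespace CfsgLib.JComp

variable {V : Type*} [CommGroup V]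

/-- `F(H)` for a subgroup `H` of automorphisms. -/
def fit (H : Subgroup (MulAut V)) : Subgroup (MulAut V) := (Cfsg.fittingSubgroup H).map H.subtype

/-- A transvection in `H` inverting a line in `F(H)`. -/
def Good (H : Subgroup (MulAut V)) (a : MulAut V) : Prop :=
  a ∈ H ∧ IsTransv a ∧ ∃ x ∈ fit H, IsLine x ∧ a * x * a⁻¹ = x⁻¹

/-- `H` has no nontrivial normal 2-subgroup. -/
def NoTwoCore (H : Subgroup (MulAut V)) : Prop :=
  ∀ N : Subgroup (MulAut V), N ≤ H → H ≤ Subgroup.normalizer (N : Set (MulAut V)) →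
    IsPGroup 2 N → N = ⊥

theorem finite_mulAut [Finite V] : Finite (MulAut V) :=
  Finite.of_injective (fun f => (f : V → V)) DFunLike.coe_injective

theorem le_normalizer_map_subtype {G : Type*} [Group G] (L : Subgroup G) (N : Subgroup L)
    [hN : N.Normal] : L ≤ Subgroup.normalizer (N.map L.subtype : Set G) := by
  refine Subgroup.le_normalizer_iff.2 ?_
  rintro h hh _ ⟨f, hf, rfl⟩
  exact ⟨⟨h, hh⟩ * f * ⟨h, hh⟩⁻¹, hN.conj_mem f hf _, rfl⟩

variable {H : Subgroup (MulAut V)}

theorem fit_le (H : Subgroup (MulAut V)) : fit H ≤ H := Subgroup.map_subtype_le _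

theorem le_normalizer_fit (H : Subgroup (MulAut V)) :
    H ≤ Subgroup.normalizer (fit H : Set (MulAut V)) := by
  haveI := CfsgLib.Fitting.fitting_normal (G := H)
  exact le_normalizer_map_subtype H (Cfsg.fittingSubgroup H)

theorem conj_mem_fit {h x : MulAut V} (hh : h ∈ H) (hx : x ∈ fit H) : h * x * h⁻¹ ∈ fit H :=
  (Subgroup.mem_normalizer_iff.1 (le_normalizer_fit H hh) x).1 hx

variable [Finite V]

theorem fit_nilpotent (H : Subgroup (MulAut V)) : Group.IsNilpotent (fit H) :=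
  haveI := finite_mulAut (V := V)
  CfsgLib.Fitting.isNilpotent_map CfsgLib.Fitting.fitting_isNilpotent H.subtype

theorem fit_odd (h2 : NoTwoCore H) : Odd (Nat.card (fit H)) := by
  haveI := finite_mulAut (V := V)
  haveI : Fact (Nat.Prime 2) := ⟨Nat.prime_two⟩
  rw [← Nat.not_even_iff_odd, even_iff_two_dvd]
  intro hd
  rw [fit, Subgroup.card_map_of_injective H.subtype_injective] at hd
  obtain ⟨P⟩ := (inferInstance : Nonempty (Sylow 2 (Cfsg.fittingSubgroup H)))
  have hP1 := P.ne_bot_of_dvd_card hd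
  have hO : (Cfsg.pCore 2 H).map H.subtype = ⊥ := by
    haveI := CfsgLib.Fitting.pCore_normal (G := H) 2
    exact h2 _ (Subgroup.map_subtype_le _) (le_normalizer_map_subtype H (Cfsg.pCore 2 H))
      ((CfsgLib.Fitting.pCore_isPGroup (G := H) 2).map _)
  rw [Subgroup.map_eq_bot_iff_of_injective _ H.subtype_injective,
    ← CfsgLib.Fitting.sylow_fitting_eq_pCore P,
    Subgroup.map_eq_bot_iff_of_injective _ (Subgroup.subtype_injective _)] at hO
  exact hP1 hO

theorem fit_self_centralizing (hs : Group.IsSolvable H) :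
    H ⊓ Subgroup.centralizer (fit H : Set (MulAut V)) ≤ fit H := by
  haveI := finite_mulAut (V := V)
  haveI := hs
  intro l hl
  refine ⟨⟨l, hl.1⟩, CfsgLib.Fitting.centralizer_fitting_le ?_, rfl⟩
  rw [Subgroup.mem_centralizer_iff]
  exact fun y hy => Subtype.ext
    (Subgroup.mem_centralizer_iff.mp hl.2 _ (Subgroup.mem_map_of_mem _ hy))

theorem lines_comm (hV : Exp2 V) {x y : MulAut V} (hx : x ∈ fit H) (hy : y ∈ fit H)
    (hlx : IsLine x) (hly : IsLine y) : x * y = y * x := by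
  haveI := finite_mulAut (V := V)
  haveI : Fact (Nat.Prime 3) := ⟨Nat.prime_three⟩
  haveI := fit_nilpotent H
  obtain ⟨P⟩ := (inferInstance : Nonempty (Sylow 3 (fit H)))
  haveI : (P : Subgroup (fit H)).Normal :=
    Sylow.normal_of_normalizerCondition (Group.normalizerCondition_of_isNilpotent (G := fit H)) P
  have key : ∀ z : fit H, orderOf (z : MulAut V) = 3 → z ∈ (P : Subgroup (fit H)) := by
    intro z hz
    have hp : IsPGroup 3 (Subgroup.zpowers z) :=
      IsPGroup.of_card (n := 1) (by rw [Nat.card_zpowers, ← Subgroup.orderOf_coe, hz, pow_one])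
    obtain ⟨Q, hQ⟩ := hp.exists_le_sylow
    haveI := Sylow.unique_of_normal P inferInstance
    rw [Subsingleton.elim P Q]
    exact hQ (Subgroup.mem_zpowers z)
  exact lines_commute hV _ ((P : Subgroup (fit H)).map (fit H).subtype) le_rfl (P.isPGroup'.map _)
    x ⟨⟨x, hx⟩, key _ hlx.1, rfl⟩ y ⟨⟨y, hy⟩, key _ hly.1, rfl⟩ hlx hly

/-- A transvection of `H` fixes every line of `F(H)`. -/
theorem fixes_line (hV : Exp2 V) {a y : MulAut V} (haH : a ∈ H) (ha : IsTransv a)
    (hy : y ∈ fit H) (hly : IsLine y) : a * y * a⁻¹ = y ∨ a * y * a⁻¹ = y⁻¹ :=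
  transv_conj_line hV ha hly (lines_comm hV (conj_mem_fit haH hy) hy (hly.conj a) hly)

/-- The stabilizer of all lines of `F(H)`. -/
def lineStab (H : Subgroup (MulAut V)) : Subgroup (MulAut V) where
  carrier := {h | h ∈ H ∧ ∀ y ∈ fit H, IsLine y → h * y * h⁻¹ = y ∨ h * y * h⁻¹ = y⁻¹}
  one_mem' := ⟨one_mem _, fun y _ _ => Or.inl (by simp)⟩
  mul_mem' := fun {g h} hg hh => ⟨mul_mem hg.1 hh.1, fun y hy hly => by
    have e : g * h * y * (g * h)⁻¹ = g * (h * y * h⁻¹) * g⁻¹ := by group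
    rw [e]
    rcases hh.2 y hy hly with h1 | h1 <;> rcases hg.2 y hy hly with h2 | h2
    · exact Or.inl (by rw [h1, h2])
    · exact Or.inr (by rw [h1, h2])
    · refine Or.inr ?_
      rw [h1]
      calc g * y⁻¹ * g⁻¹ = (g * y * g⁻¹)⁻¹ := by group
        _ = y⁻¹ := by rw [h2]
    · refine Or.inl ?_
      rw [h1]
      calc g * y⁻¹ * g⁻¹ = (g * y * g⁻¹)⁻¹ := by group
        _ = y := by rw [h2, inv_inv]⟩
  inv_mem' := fun {g} hg => ⟨inv_mem hg.1, fun y hy hly => by
    rcases hg.2 y hy hly with h2 | h2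
    · refine Or.inl ?_
      conv_lhs => rw [← h2]
      group
    · refine Or.inr ?_
      have h3 : g⁻¹ * y⁻¹ * g⁻¹⁻¹ = y := by rw [← h2]; group
      calc g⁻¹ * y * g⁻¹⁻¹ = (g⁻¹ * y⁻¹ * g⁻¹⁻¹)⁻¹ := by group
        _ = y⁻¹ := by rw [h3]⟩

omit [Finite V] in
theorem mem_lineStab {h : MulAut V} : h ∈ lineStab H ↔
    h ∈ H ∧ ∀ y ∈ fit H, IsLine y → h * y * h⁻¹ = y ∨ h * y * h⁻¹ = y⁻¹ := Iff.rfl

omit [Finite V] in
theorem conj_mem_lineStab {g h : MulAut V} (hg : g ∈ H) (hh : h ∈ lineStab H) :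
    g * h * g⁻¹ ∈ lineStab H := by
  refine mem_lineStab.2 ⟨H.mul_mem (H.mul_mem hg hh.1) (H.inv_mem hg), fun y hy hly => ?_⟩
  have hy' : g⁻¹ * y * g ∈ fit H := by
    have := conj_mem_fit (H.inv_mem hg) hy
    rwa [inv_inv] at this
  have hly' : IsLine (g⁻¹ * y * g) := by
    have := hly.conj g⁻¹
    rwa [inv_inv] at this
  have e : g * h * g⁻¹ * y * (g * h * g⁻¹)⁻¹ = g * (h * (g⁻¹ * y * g) * h⁻¹) * g⁻¹ := by group
  rw [e]
  rcases hh.2 _ hy' hly' with h1 | h1 <;> rw [h1]
  · exact Or.inl (by group)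
  · exact Or.inr (by group)

theorem good_mem_lineStab (hV : Exp2 V) {a : MulAut V} (ha : Good H a) : a ∈ lineStab H :=
  mem_lineStab.2 ⟨ha.1, fun _ hy hly => fixes_line hV ha.1 ha.2.1 hy hly⟩

omit [Finite V] in
theorem comm_of_odd_lineStab {k y : MulAut V} (hk : k ∈ lineStab H) (ho : Odd (orderOf k))
    (hy : y ∈ fit H) (hly : IsLine y) : k * y = y * k := by
  rw [← mul_inv_eq_iff_eq_mul]
  rcases hk.2 y hy hly with h | h
  · exact h
  exfalso
  have hn : ∀ n : ℕ, k ^ (2 * n + 1) * y * (k ^ (2 * n + 1))⁻¹ = y⁻¹ := by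
    intro n
    induction n with
    | zero => simpa using h
    | succ n ih =>
      calc k ^ (2 * (n + 1) + 1) * y * (k ^ (2 * (n + 1) + 1))⁻¹
          = k * (k * (k ^ (2 * n + 1) * y * (k ^ (2 * n + 1))⁻¹) * k⁻¹) * k⁻¹ := by
            rw [show 2 * (n + 1) + 1 = (2 * n + 1) + 1 + 1 by ring, pow_succ', pow_succ']; group
        _ = k * (k * y * k⁻¹)⁻¹ * k⁻¹ := by rw [ih]; group
        _ = y⁻¹ := by rw [h, inv_inv, h]
  obtain ⟨n, hn'⟩ := ho
  have := hn n
  rw [← hn', pow_orderOf_eq_one, one_mul, inv_one, mul_one] at this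
  have h2 := orderOf_dvd_of_pow_eq_one (x := y) (n := 2) (by
    rw [pow_two]; nth_rewrite 1 [this]; rw [inv_mul_cancel])
  rw [hly.1] at h2
  norm_num at h2

/-- An element centralizing the line of a good element moves it by an element of that line. -/
theorem conj_good_mem (hV : Exp2 V) {k a x : MulAut V} (ha : IsTransv a) (hx : IsLine x)
    (hinv : a * x * a⁻¹ = x⁻¹) (hk : k * x = x * k) : k * a * k⁻¹ * a⁻¹ ∈ Subgroup.zpowers x := by
  have h := transv_mul_mem hV (ha.conj k) ha hx (by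
    have e : k⁻¹ * x * k = x := by rw [mul_assoc, ← hk, inv_mul_cancel_left]
    calc k * a * k⁻¹ * x * (k * a * k⁻¹)⁻¹ = k * (a * (k⁻¹ * x * k) * a⁻¹) * k⁻¹ := by group
      _ = k * x⁻¹ * k⁻¹ := by rw [e, hinv]
      _ = (k * x * k⁻¹)⁻¹ := by group
      _ = x⁻¹ := by rw [hk, mul_inv_cancel_right]) hinv
  rwa [show a⁻¹ = a from inv_eq_of_mul_eq_one_right ha.1]

theorem isLine_of_card (hV : Exp2 V) {y : MulAut V} (ho : Odd (orderOf y))
    (hc : Nat.card ↥(mv y) = 4) : IsLine y := by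
  refine ⟨orderOf_eq_prime (hp := ⟨Nat.prime_three⟩) ?_ ?_, hc⟩
  · have hU : ∀ v ∈ mv y, (y ^ 3) v = v := by
      intro v hv
      rcases eq_or_ne v 1 with rfl | hv1
      · simp
      have h1 : y v ∈ mv y := apply_mem_mv rfl hv
      have h2 : y v ≠ 1 := fun h => hv1 (y.injective (h.trans (map_one y).symm))
      have h3 : v ≠ y v := fun h => hv1 (eq_one_of_mem_mv_fx hV ho hv h.symm)
      rw [pow_succ, pow_two, MulAut.mul_apply, MulAut.mul_apply]
      rcases four_cases hV hc hv h1 hv1 h2 h3 (apply_mem_mv rfl h1) with h | h | h | h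
      · exact absurd (y.injective (h.trans (map_one y).symm)) h2
      · exfalso
        obtain ⟨j, hj⟩ := ho
        have h4 : ∀ m : ℕ, ((y ^ 2) ^ m) v = v := by
          intro m
          induction m with
          | zero => simp
          | succ m ih => rw [pow_succ', MulAut.mul_apply, ih, pow_two, MulAut.mul_apply, h]
        apply h3
        symm
        calc y v = y (((y ^ 2) ^ j) v) := by rw [h4]
          _ = v := by rw [← MulAut.mul_apply, ← pow_mul, ← pow_succ', ← hj, pow_orderOf_eq_one,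
            MulAut.one_apply]
      · exact absurd (y.injective h).symm h3
      · rw [h, map_mul, h, mul_comm v (y v), ← mul_assoc, hV, one_mul]
    ext w
    obtain ⟨u, hu, f, hf, rfl⟩ :=
      exists_mul_of_sup ((mv_sup_fx hV ho).ge (Subgroup.mem_top w))
    have hf' : (y ^ 3) f = f := by
      rw [pow_succ, pow_two, MulAut.mul_apply, MulAut.mul_apply, mem_fx.1 hf, mem_fx.1 hf,
        mem_fx.1 hf]
    rw [map_mul, hU u hu, hf', MulAut.one_apply]
  · intro h
    have h1 : mv y = ⊥ := by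
      rw [h, Subgroup.eq_bot_iff_forall]
      rintro _ ⟨v, rfl⟩
      rw [dv_apply, MulAut.one_apply]
      exact hV v
    rw [h1, Subgroup.card_bot] at hc
    norm_num at hc

/-- The offender theorem. -/
theorem ff_solvable (hV : Exp2 V) (hs : Group.IsSolvable H) (h2 : NoTwoCore H)
    {A : Subgroup (MulAut V)} (hAH : A ≤ H) (hA : Cfsg.IsElementaryAbelian 2 A)
    (hoff : Nat.card V ≤ Nat.card A * Nat.card ↥(fixAll (A : Set (MulAut V)))) :
    Nat.card V = Nat.card A * Nat.card ↥(fixAll (A : Set (MulAut V))) ∧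
      ∃ s : Set (MulAut V), s ⊆ A ∧ Subgroup.closure s = A ∧ ∀ a ∈ s, Good H a := by
  classical
  haveI := finite_mulAut (V := V)
  haveI : Fact (Nat.Prime 2) := ⟨Nat.prime_two⟩
  rcases eq_or_ne A ⊥ with rfl | hA1
  · refine ⟨?_, ∅, by simp, by simp, by simp⟩
    have : fixAll ((⊥ : Subgroup (MulAut V)) : Set (MulAut V)) = ⊤ := by
      ext v; simp [mem_fixAll]
    rw [this, Subgroup.card_top, Subgroup.card_bot, one_mul]
  haveI := hA.1
  have hA2 : IsPGroup 2 A := fun a => ⟨1, Subtype.ext (by simpa using hA.2 a a.2)⟩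
  obtain ⟨d, hd⟩ := IsPGroup.iff_card.1 hA2
  have hd1 : 1 ≤ d := by
    rcases Nat.eq_zero_or_pos d with h | h
    · rw [h, pow_zero] at hd; exact absurd (Subgroup.card_eq_one.1 hd) hA1
    · exact h
  have hodd := fit_odd h2
  have hfaith : A ⊓ Subgroup.centralizer (fit H : Set (MulAut V)) = ⊥ := by
    refine le_bot_iff.1 fun g hg => ?_
    refine CfsgLib.LocalEvenCharP.eq_one_of_coprime_of_mem hA2 hg.1 (Nat.coprime_two_right.2 ?_)
    exact hodd.of_dvd_nat (Subgroup.orderOf_dvd_natCard _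
      (fit_self_centralizing hs ⟨hAH hg.1, hg.2⟩))
  have hsF : Group.IsSolvable (fit H) := by haveI := fit_nilpotent H; infer_instance
  obtain ⟨Ai, Li, m, h1, h2', h3⟩ := Cfsg.Agent.S1349.result (fit H) A hsF hodd hA d hd1 hd
    (hAH.trans (le_normalizer_fit H)) hfaith
  have hgen : ∀ i, ∃ a y : MulAut V, a ∈ Ai i ∧ Ai i ≤ Subgroup.zpowers a ∧ y ∈ fit H ∧
      y ∈ Ai i ⊔ Li i ∧ y ≠ 1 ∧ a * y * a⁻¹ = y⁻¹ := by
    intro i
    obtain ⟨hAi, hc, hLi, hodd', hn, ⟨e⟩⟩ := h1 i
    obtain ⟨⟨a, ha⟩, ha1, hauniq⟩ := (Nat.card_eq_two_iff' (1 : Ai i)).1 hc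
    have hgen : Ai i ≤ Subgroup.zpowers a := fun b hb => by
      by_cases hb1 : b = 1
      · rw [hb1]; exact one_mem _
      · have : b = a := congrArg Subtype.val
          (hauniq ⟨b, hb⟩ fun h => hb1 (congrArg Subtype.val h))
        rw [this]; exact Subgroup.mem_zpowers a
    obtain ⟨l, hl, hal⟩ : ∃ l ∈ Li i, a * l ≠ l * a := by
      by_contra hcon
      push Not at hcon
      have hle : Ai i ⊔ Li i ≤ Subgroup.centralizer ({a} : Set (MulAut V)) :=
        sup_le (hgen.trans (Subgroup.zpowers_le.2 (Subgroup.mem_centralizer_singleton_iff.2 rfl)))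
          fun l hl => Subgroup.mem_centralizer_singleton_iff.2 (hcon l hl).symm
      set a' : ↥(Ai i ⊔ Li i) := ⟨a, Subgroup.mem_sup_left ha⟩ with ha'
      have hcen : ∀ z : DihedralGroup (m i), e a' * z = z * e a' := by
        intro z
        obtain ⟨w, rfl⟩ := e.surjective z
        rw [← map_mul, ← map_mul]
        exact congrArg e (Subtype.ext (Subgroup.mem_centralizer_singleton_iff.1 (hle w.2)).symm)
      have hne : e a' ≠ 1 := by
        intro h
        rw [← map_one e, e.apply_eq_iff_eq] at h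
        exact ha1 (Subtype.ext (show a = 1 from congrArg Subtype.val h))
      haveI : Fact (2 < m i) := ⟨by omega⟩
      have hunit : ∀ k : ZMod (m i), k + k = 0 → k = 0 := by
        intro k hk
        have hu : IsUnit ((2 : ℕ) : ZMod (m i)) :=
          (ZMod.isUnit_iff_coprime 2 (m i)).2 (Nat.coprime_two_left.2 hodd')
        refine (hu.mul_right_eq_zero).1 ?_
        push_cast
        rw [two_mul]; exact hk
      rcases hz : e a' with k | k
      · have h := hcen (DihedralGroup.sr 0)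
        rw [hz, DihedralGroup.r_mul_sr, DihedralGroup.sr_mul_r, DihedralGroup.sr.injEq] at h
        apply hne
        rw [hz, hunit k (by linear_combination -h)]
        rfl
      · have h := hcen (DihedralGroup.r 1)
        rw [hz, DihedralGroup.r_mul_sr, DihedralGroup.sr_mul_r, DihedralGroup.sr.injEq] at h
        have h1 : (1 : ZMod (m i)) = 0 := hunit 1 (by linear_combination h)
        haveI : Fact (1 < m i) := ⟨by omega⟩
        exact one_ne_zero h1
    refine ⟨a, a * l * a⁻¹ * l⁻¹, ha, hgen, ?_, ?_, ?_, ?_⟩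
    · exact mul_mem (conj_mem_fit (hAH (hAi ha)) (hLi hl)) (inv_mem (hLi hl))
    · exact mul_mem (mul_mem (mul_mem (Subgroup.mem_sup_left ha) (Subgroup.mem_sup_right hl))
        (inv_mem (Subgroup.mem_sup_left ha))) (inv_mem (Subgroup.mem_sup_right hl))
    · intro h
      rw [mul_inv_eq_one, mul_inv_eq_iff_eq_mul] at h
      exact hal h
    · have haa : a⁻¹ = a := inv_eq_of_mul_eq_one_right (by rw [← pow_two]; exact hA.2 a (hAi ha))
      calc a * (a * l * a⁻¹ * l⁻¹) * a⁻¹ = a * a * l * a⁻¹ * l⁻¹ * a⁻¹ := by group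
        _ = l * a * l⁻¹ * a⁻¹ := by
          rw [haa, show a * a = 1 by rw [← pow_two]; exact hA.2 a (hAi ha), one_mul]
        _ = (a * l * a⁻¹ * l⁻¹)⁻¹ := by group
  choose a y ha hgen hyF hyS hy1 hinv using hgen
  have hs' : ∀ i, a i ∈ A := fun i => (h1 i).1 (ha i)
  have hdata : EigenData a y := by
    refine ⟨fun i => ?_, fun i => hodd.of_dvd_nat (Subgroup.orderOf_dvd_natCard _ (hyF i)), hinv,
      fun i j h => h3 i j h _ (Subgroup.mem_sup_left (ha i)) _ (hyS j), fun i j => ?_,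
      fun i j => setLike_mul_comm (hs' i) (hs' j)⟩
    · rw [← pow_two]; exact hA.2 _ (hs' i)
    · rcases eq_or_ne i j with rfl | h
      · rfl
      · exact h3 i j h _ (hyS i) _ (hyS j)
  have hclo : Subgroup.closure (Set.range a) = A := by
    refine le_antisymm ((Subgroup.closure_le _).2 (by rintro _ ⟨i, rfl⟩; exact hs' i)) ?_
    rw [← h2']
    exact iSup_le fun i => (hgen i).trans
      (Subgroup.zpowers_le.2 (Subgroup.subset_closure ⟨i, rfl⟩))
  have hfix : fixAll (A : Set (MulAut V)) = fixAll (Set.range a) := by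
    conv_lhs => rw [← hclo]
    exact fixAll_closure _
  have hne : ∀ i, ∃ u ∈ (⊤ : Subgroup V), y i u ≠ u := fun i => by
    by_contra hcon
    push Not at hcon
    exact hy1 i (MulEquiv.ext fun u => hcon u trivial)
  obtain ⟨hb, heq⟩ := ff_bound hV d a y ⊤ hdata (fun i u _ => ⟨trivial, trivial⟩) hne
  rw [top_inf_eq, Subgroup.card_top, ← hfix] at hb heq
  rw [hd] at hoff ⊢
  refine ⟨le_antisymm hoff hb, Set.range a, by rintro _ ⟨i, rfl⟩; exact hs' i, hclo, ?_⟩
  rintro _ ⟨i, rfl⟩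
  obtain ⟨e1, e2⟩ := heq hoff i
  rw [← MonoidHom.range_eq_map] at e1 e2
  exact ⟨hAH (hs' i), ⟨hdata.invol i, e2⟩, y i, hyF i,
    isLine_of_card hV (hdata.odd i) e1, hinv i⟩

end CfsgLib.JComp
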