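import Cfsg.Agent.Lib.LocalEven.JComp.Setting

/-!
The action of a component on its four-group.
-/

set_option autoImplicit false

open Cfsg CfsgLib.PLocal
open scoped commutatorElement

namespace CfsgLib.JComp

variable {G : Type*} [Group G]

/-- An element of order three of `K`, generating it modulo `O₂(K)`, fixed point free on `W_K`. -/
structure FourData (K : Subgroup G) (k : G) : Prop where
  mem : k ∈ K
  ord : orderOf k = 3
  split : ∀ g ∈ K, ∃ i : ℕ, i < 3 ∧ (k ^ i)⁻¹ * g ∈ Cfsg.pCoreOf 2 K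
  not_core : k ∉ Cfsg.pCoreOf 2 K
  norm : K ≤ Subgroup.normalizer (Cfsg.wOf K : Set G)
  le_omega : Cfsg.wOf K ≤ Cfsg.omegaCenterOf (Cfsg.pCoreOf 2 K)
  core_fix : ∀ q ∈ Cfsg.pCoreOf 2 K, ∀ u ∈ Cfsg.wOf K, q * u * q⁻¹ = u
  fpf : ∀ u ∈ Cfsg.wOf K, k * u * k⁻¹ = u → u = 1

variable [Finite G]

open scoped IsMulCommutative in
theorem exists_fourData {K : Subgroup G}
    (hgen : Subgroup.closure {g : G | g ∈ K ∧ Odd (orderOf g)} = K)
    (hidx : (Cfsg.pCoreOf 2 K).relIndex K = 3) : ∃ k, FourData K k := by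
  haveI : Fact (Nat.Prime 2) := ⟨Nat.prime_two⟩
  haveI : Fact (Nat.Prime 3) := ⟨Nat.prime_three⟩
  set Q := Cfsg.pCoreOf 2 K with hQ
  have hQK : Q ≤ K := CfsgLib.LocalEvenCharP.pCoreOf_le 2 K
  have hQp : IsPGroup 2 Q := CfsgLib.LocalEvenCharP.isPGroup_pCoreOf 2 K
  haveI hn : (Q.subgroupOf K).Normal := (Subgroup.normal_subgroupOf_iff_le_normalizer hQK).2
    (CfsgLib.LocalEvenCharP.le_normalizer_pCoreOf 2 K)
  set π := QuotientGroup.mk' (Q.subgroupOf K) with hπ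
  have hcard : Nat.card (K ⧸ Q.subgroupOf K) = 3 := hidx
  have hcube : ∀ g : K, ((g : G) ^ 3) ∈ Q := by
    intro g
    have h1 : (π g) ^ 3 = 1 := by rw [← hcard]; exact pow_card_eq_one'
    rw [← map_pow] at h1
    exact (QuotientGroup.eq_one_iff (g ^ 3)).1 h1
  obtain ⟨k, hk, hko, hkQ⟩ : ∃ k ∈ K, Odd (orderOf k) ∧ k ∉ Q := by
    by_contra hcon
    push Not at hcon
    have : K ≤ Q := by
      conv_lhs => rw [← hgen]
      exact (Subgroup.closure_le _).2 fun g hg => hcon g hg.1 hg.2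
    rw [Subgroup.relIndex_eq_one.2 this] at hidx
    norm_num at hidx
  have hk3 : k ^ 3 = 1 := by
    refine CfsgLib.LocalEvenCharP.eq_one_of_coprime_of_mem hQp (hcube ⟨k, hk⟩) ?_
    exact (hko.of_dvd_nat (orderOf_pow_dvd 3)).coprime_two_right
  have hord : orderOf k = 3 := orderOf_eq_prime hk3 fun h => hkQ (h ▸ one_mem Q)
  have hsplit : ∀ g ∈ K, ∃ i : ℕ, i < 3 ∧ (k ^ i)⁻¹ * g ∈ Q := by
    intro g hg
    have hne : π ⟨k, hk⟩ ≠ 1 := fun h => hkQ ((QuotientGroup.eq_one_iff (⟨k, hk⟩ : K)).1 h)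
    have h1 : Subgroup.zpowers (π ⟨k, hk⟩) = ⊤ := by
      refine Subgroup.eq_top_of_card_eq _ ?_
      rw [Nat.card_zpowers, hcard]
      exact orderOf_eq_prime (hcard ▸ pow_card_eq_one') hne
    have h2 := h1.ge (Subgroup.mem_top (π ⟨g, hg⟩))
    obtain ⟨i, hi, hie⟩ : ∃ i < 3, (π ⟨k, hk⟩) ^ i = π ⟨g, hg⟩ := by
      have hpos : 0 < orderOf (π ⟨k, hk⟩) := orderOf_pos _
      have h3 : orderOf (π ⟨k, hk⟩) = 3 := orderOf_eq_prime (hcard ▸ pow_card_eq_one') hne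
      classical
      obtain ⟨i, hi, hie⟩ := Finset.mem_image.1
        ((orderOf_pos_iff.1 hpos).mem_zpowers_iff_mem_range_orderOf.1 h2)
      rw [Finset.mem_range, h3] at hi
      exact ⟨i, hi, hie⟩
    refine ⟨i, hi, ?_⟩
    rw [← map_pow] at hie
    exact (QuotientGroup.eq (s := Q.subgroupOf K)).1 hie
  set W := Cfsg.omegaCenterOf Q with hW
  have hWe : Cfsg.IsElementaryAbelian 2 W := omegaCenterOf_elemAb _
  haveI := hWe.1
  have hKW : K ≤ Subgroup.normalizer (W : Set G) :=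
    (CfsgLib.LocalEvenCharP.le_normalizer_pCoreOf 2 K).trans
      (normalizer_le_normalizer_omegaCenterOf _)
  have hwW : Cfsg.wOf K ≤ W := CfsgLib.Coprime.commutator_le_of_normalizes hKW
  have hqW : ∀ q ∈ Q, ∀ w ∈ W, q * w * q⁻¹ = w := fun q hq w hw =>
    mul_inv_eq_iff_eq_mul.2 (omegaCenterOf_comm _ hw hq)
  set κ : MulAut W := W.normalizerMonoidHom ⟨k, hKW hk⟩ with hκ
  have hκa : ∀ w : W, ((κ w : W) : G) = k * w * k⁻¹ := fun _ => rfl
  have hW2 : Exp2 W := fun w => Subtype.ext (elemAb_sq hWe w.2)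
  have hκo : Odd (orderOf κ) :=
    hko.of_dvd_nat ((orderOf_map_dvd _ _).trans (by rw [Subgroup.orderOf_mk]))
  have hwle : Cfsg.wOf K ≤ (mv κ).map W.subtype := by
    refine Subgroup.commutator_le.2 fun w hw g hg => ?_
    obtain ⟨i, -, hiq⟩ := hsplit g hg
    have h1 : g * w * g⁻¹ = k ^ i * w * (k ^ i)⁻¹ := by
      have h2 := hqW _ hiq w hw
      calc g * w * g⁻¹ = k ^ i * (((k ^ i)⁻¹ * g) * w * ((k ^ i)⁻¹ * g)⁻¹) * (k ^ i)⁻¹ := by group
        _ = k ^ i * w * (k ^ i)⁻¹ := by rw [h2]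
    refine ⟨dv (κ ^ i) ⟨w, hw⟩, mv_pow_le hW2 κ i (dv_mem_mv _ _), ?_⟩
    have e1 : (((κ ^ i) ⟨w, hw⟩ : W) : G) = k ^ i * w * (k ^ i)⁻¹ := by
      rw [hκ, ← map_pow]; rfl
    show (((κ ^ i) ⟨w, hw⟩ * ⟨w, hw⟩ : W) : G) = ⁅w, g⁆
    rw [Subgroup.coe_mul, e1, ← h1, commutatorElement_def]
    have hwinv : w⁻¹ = w := inv_eq_of_mul_eq_one_right (elemAb_sq hWe hw)
    have hgw : g * w * g⁻¹ ∈ W := (Subgroup.mem_normalizer_iff.1 (hKW hg) w).1 hw
    rw [hwinv, elemAb_commute hWe hgw hw]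
    group
  refine ⟨k, hk, hord, hsplit, hkQ, component_le_normalizer_wOf K, hwW,
    fun q hq u hu => hqW q hq u (hwW hu), fun u hu he => ?_⟩
  obtain ⟨w, hw, rfl⟩ := hwle hu
  rw [show w = 1 from eq_one_of_mem_mv_fx hW2 hκo hw (Subtype.ext ((hκa w).trans he))]
  rfl

variable {U : Subgroup G} {k : G}

/-- A 2-group normalizing a four-group and normalized by an element fixed point free on it
centralizes it. -/
theorem centralizes_four {P : Subgroup G} (hU4 : Nat.card U = 4)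
    (hUe : ∀ u ∈ U, u * u = 1) (hk : k ∈ Subgroup.normalizer (U : Set G))
    (hkP : k ∈ Subgroup.normalizer (P : Set G))
    (hfpf : ∀ u ∈ U, k * u * k⁻¹ = u → u = 1) (hP : IsPGroup 2 P)
    (hPU : P ≤ Subgroup.normalizer (U : Set G)) :
    ∀ p ∈ P, ∀ u ∈ U, p * u = u * p := by
  haveI : Fact (Nat.Prime 2) := ⟨Nat.prime_two⟩
  have hUp : IsPGroup 2 U := IsPGroup.of_card (n := 2) (by rw [hU4]; norm_num)
  set S := P ⊔ U with hS
  have hSp : IsPGroup 2 S := hP.to_sup_of_normal_right' hUp hPU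
  haveI : Group.IsNilpotent S := hSp.isNilpotent
  haveI hn : (U.subgroupOf S).Normal := (Subgroup.normal_subgroupOf_iff_le_normalizer le_sup_right).2
    (sup_le hPU Subgroup.le_normalizer)
  have hne : U.subgroupOf S ≠ ⊥ := by
    rw [Ne, Subgroup.subgroupOf_eq_bot]
    intro h
    rw [disjoint_self.1 (h.mono_right le_sup_right), Subgroup.card_bot] at hU4
    norm_num at hU4
  obtain ⟨z, hz⟩ := Subgroup.ne_bot_iff_exists_ne_one.1
    (CfsgLib.OddOrder.PuigSeries.inf_center_ne_bot _ hne)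
  set F := U ⊓ Subgroup.centralizer (P : Set G) with hF
  have hzF : ((z : S) : G) ∈ F := ⟨z.2.2, Subgroup.mem_centralizer_iff.2 fun p hp =>
    congrArg Subtype.val (Subgroup.mem_center_iff.1 z.2.1 ⟨p, Subgroup.mem_sup_left hp⟩)⟩
  have hz1 : ((z : S) : G) ≠ 1 := fun h => hz (Subtype.ext (Subtype.ext h))
  have hkF : k * ((z : S) : G) * k⁻¹ ∈ F := by
    refine ⟨(Subgroup.mem_normalizer_iff.1 hk _).1 hzF.1, Subgroup.mem_centralizer_iff.2 fun p hp => ?_⟩
    have h1 := Subgroup.mem_centralizer_iff.1 hzF.2 _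
      ((Subgroup.mem_normalizer_iff''.1 hkP p).1 hp)
    generalize ((z : S) : G) = w at h1 ⊢
    calc p * (k * w * k⁻¹) = k * ((k⁻¹ * p * k) * w) * k⁻¹ := by group
      _ = k * (w * (k⁻¹ * p * k)) * k⁻¹ := by rw [h1]
      _ = k * w * k⁻¹ * p := by group
  have hdvd : Nat.card F ∣ 4 := hU4 ▸ Subgroup.card_dvd_of_le inf_le_left
  have hFU : U ≤ F := by
    refine (Subgroup.eq_of_le_of_card_ge (inf_le_left : F ≤ U) ?_).ge
    rw [hU4]
    by_contra hlt
    push Not at hlt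
    have h2 : Nat.card F ≤ 2 := by
      have := Nat.card_pos (α := F)
      interval_cases Nat.card F <;> omega
    have h3 : ({1, ((z : S) : G), k * ((z : S) : G) * k⁻¹} : Set G) ⊆ F := by
      rintro w (rfl | rfl | rfl)
      · exact F.one_mem
      · exact hzF
      · exact hkF
    have h4 := Set.ncard_le_ncard h3
    rw [Set.ncard_insert_of_notMem (by
        rw [Set.mem_insert_iff, Set.mem_singleton_iff, not_or]
        refine ⟨fun h => hz1 h.symm, fun h => hz1 ?_⟩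
        exact conj_eq_one_iff.1 h.symm),
      Set.ncard_pair (fun h => hz1 (hfpf _ hzF.1 h.symm)), ← Nat.card_coe_set_eq] at h4
    exact absurd (h4.trans h2) (by norm_num)
  exact fun p hp u hu => Subgroup.mem_centralizer_iff.1 (hFU hu).2 p hp

end CfsgLib.JComp
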