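import Mathlib
import Cfsg.Agent.Lib.Coprime.Basic

/-!
Automorphisms of an elementary abelian 2-group `V`: moved and fixed subgroups, and the bound
`|V : C_V(A)| ≥ 2 ^ n` for a group `A` with a basis inverting commuting elements of odd order.
-/

set_option autoImplicit false

namespace CfsgLib.JComp

variable {V : Type*} [CommGroup V]

/-- `v ↦ x(v) v`; for `V` of exponent two this is `v ↦ [v, x]`. -/
def dv (x : MulAut V) : V →* V where
  toFun v := x v * v
  map_one' := by simp
  map_mul' u v := by simp only [map_mul, mul_mul_mul_comm]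

theorem dv_apply (x : MulAut V) (v : V) : dv x v = x v * v := rfl

/-- `V` has exponent two. -/
def Exp2 (V : Type*) [Mul V] [One V] : Prop := ∀ v : V, v * v = 1

theorem dv_eq_one_iff (hV : Exp2 V) {x : MulAut V} {v : V} : dv x v = 1 ↔ x v = v := by
  rw [dv_apply]
  constructor
  · intro h
    calc x v = x v * (v * v) := by rw [hV, mul_one]
      _ = v := by rw [← mul_assoc, h, one_mul]
  · intro h; rw [h, hV]

/-- `[V, x]`. -/
def mv (x : MulAut V) : Subgroup V := (dv x).range

/-- The fixed points of `x`. -/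
def fx (x : MulAut V) : Subgroup V where
  carrier := {v | x v = v}
  one_mem' := map_one x
  mul_mem' := fun {u v} hu hv => by
    show x (u * v) = u * v
    rw [map_mul, hu, hv]
  inv_mem' := fun {u} hu => by
    show x u⁻¹ = u⁻¹
    rw [map_inv, hu]

theorem mem_fx {x : MulAut V} {v : V} : v ∈ fx x ↔ x v = v := Iff.rfl

/-- The common fixed points of a set of automorphisms. -/
def fixAll (s : Set (MulAut V)) : Subgroup V := ⨅ x ∈ s, fx x

theorem mem_fixAll {s : Set (MulAut V)} {v : V} : v ∈ fixAll s ↔ ∀ x ∈ s, x v = v := by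
  simp [fixAll, Subgroup.mem_iInf, mem_fx]

theorem fixAll_closure (s : Set (MulAut V)) :
    fixAll (Subgroup.closure s : Set (MulAut V)) = fixAll s := by
  ext v
  rw [mem_fixAll, mem_fixAll]
  refine ⟨fun h x hx => h x (Subgroup.subset_closure hx), fun h x hx => ?_⟩
  induction hx using Subgroup.closure_induction with
  | mem x hx => exact h x hx
  | one => rfl
  | mul x y _ _ hx hy => rw [MulAut.mul_apply, hy, hx]
  | inv x _ hx =>
    calc x⁻¹ v = x⁻¹ (x v) := by rw [hx]
      _ = v := MulAut.inv_apply_self ..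

theorem ker_dv (hV : Exp2 V) (x : MulAut V) : (dv x).ker = fx x :=
  Subgroup.ext fun _ => dv_eq_one_iff hV

theorem dv_mem_mv (x : MulAut V) (v : V) : dv x v ∈ mv x := ⟨v, rfl⟩

theorem apply_mem_sup_mv (hV : Exp2 V) (x : MulAut V) {S : Subgroup V} {v : V} (hv : v ∈ S) :
    x v ∈ mv x ⊔ S := by
  have e : x v = dv x v * v := by rw [dv_apply, mul_assoc, hV, mul_one]
  rw [e]; exact Subgroup.mul_mem_sup (dv_mem_mv x v) hv

theorem card_map_mul {W : Type*} [Group W] (f : V →* W) (U : Subgroup V) :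
    Nat.card ↥(U.map f) * Nat.card ↥(U ⊓ f.ker) = Nat.card U := by
  have h := (f.ker.subgroupOf U).index_mul_card
  have e1 : Nat.card ↥(f.ker.subgroupOf U) = Nat.card ↥(U ⊓ f.ker) := by
    rw [← Subgroup.card_map_of_injective U.subtype_injective, Subgroup.subgroupOf_map_subtype,
      inf_comm]
  have e2 : (f.ker.subgroupOf U).index = Nat.card ↥(U.map f) := by
    have : f.ker.subgroupOf U = (f.comp U.subtype).ker := rfl
    rw [this, Subgroup.index_ker, MonoidHom.range_comp, Subgroup.range_subtype]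
  rw [e1, e2] at h
  exact h

theorem card_mv_mul_card_fx (hV : Exp2 V) (x : MulAut V) :
    Nat.card ↥(mv x) * Nat.card ↥(fx x) = Nat.card V := by
  have h := card_map_mul (dv x) ⊤
  rwa [← MonoidHom.range_eq_map, top_inf_eq, ker_dv hV, Subgroup.card_top] at h

/-- The restriction of the exponent-two property to a subgroup. -/
theorem card_sup_eq [Finite V] (A B : Subgroup V) :
    Nat.card ↥(A ⊔ B) * Nat.card ↥(B ⊓ A) = Nat.card A * Nat.card B :=
  CfsgLib.Coprime.card_sup_mul_card_inf fun a _ => by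
    rw [Subgroup.normalizer_eq_top_iff.2 inferInstance]; trivial

theorem card_sup_of_disjoint [Finite V] {A B : Subgroup V} (h : A ⊓ B = ⊥) :
    Nat.card ↥(A ⊔ B) = Nat.card A * Nat.card B := by
  have h1 := card_sup_eq A B
  rwa [inf_comm, h, Subgroup.card_bot, mul_one] at h1

theorem mv_conj (h x : MulAut V) : mv (h * x * h⁻¹) = (mv x).map h.toMonoidHom := by
  ext w
  constructor
  · rintro ⟨v, rfl⟩
    exact ⟨dv x (h⁻¹ v), dv_mem_mv x _, by simp [dv_apply, MulAut.mul_apply]⟩
  · rintro ⟨_, ⟨v, rfl⟩, rfl⟩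
    exact ⟨h v, by simp [dv_apply, MulAut.mul_apply]⟩

theorem dv_comm {x y : MulAut V} (hxy : y * x = x * y) (v : V) : y (dv x v) = dv x (y v) := by
  rw [dv_apply, dv_apply, map_mul, ← MulAut.mul_apply, hxy, MulAut.mul_apply]

theorem apply_mem_map_dv {x y : MulAut V} (hxy : y * x = x * y) {U : Subgroup V}
    (hU : ∀ u ∈ U, y u ∈ U) {r : V} (hr : r ∈ U.map (dv x)) : y r ∈ U.map (dv x) := by
  obtain ⟨v, hv, rfl⟩ := hr
  exact ⟨y v, hU v hv, (dv_comm hxy v).symm⟩

theorem apply_mem_mv {x y : MulAut V} (hxy : y * x = x * y) {v : V} (hv : v ∈ mv x) :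
    y v ∈ mv x := by
  obtain ⟨v, rfl⟩ := hv
  exact ⟨y v, (dv_comm hxy v).symm⟩

theorem apply_mem_fx {x y : MulAut V} (hxy : y * x = x * y) {v : V} (hv : v ∈ fx x) :
    y v ∈ fx x := by
  rw [mem_fx, ← MulAut.mul_apply, ← hxy, MulAut.mul_apply, mem_fx.1 hv]

/-- An element of odd order fixes nothing it moves. -/
theorem mv_inf_fx (hV : Exp2 V) {x : MulAut V} (hx : Odd (orderOf x)) : mv x ⊓ fx x = ⊥ := by
  rw [Subgroup.eq_bot_iff_forall]
  rintro _ ⟨⟨v, rfl⟩, hfix⟩
  set u := dv x v with hu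
  have hstep : x v = u * v := by rw [hu, dv_apply, mul_assoc, hV, mul_one]
  have hn : ∀ n : ℕ, (x ^ n) v = u ^ n * v := by
    intro n
    induction n with
    | zero => simp
    | succ n ih => rw [pow_succ', MulAut.mul_apply, ih, map_mul, map_pow, mem_fx.1 hfix, hstep,
        ← mul_assoc, ← pow_succ]
  have h1 : u ^ orderOf x = 1 := by
    have := hn (orderOf x)
    rw [pow_orderOf_eq_one, MulAut.one_apply] at this
    exact right_eq_mul.1 this
  obtain ⟨j, hj⟩ := hx
  rwa [hj, pow_succ, pow_mul, sq, hV, one_pow, one_mul] at h1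

theorem eq_one_of_mem_mv_fx (hV : Exp2 V) {x : MulAut V} (hx : Odd (orderOf x)) {v : V}
    (h1 : v ∈ mv x) (h2 : x v = v) : v = 1 :=
  (Subgroup.eq_bot_iff_forall _).1 (mv_inf_fx hV hx) v ⟨h1, h2⟩

theorem mv_sup_fx [Finite V] (hV : Exp2 V) {x : MulAut V} (hx : Odd (orderOf x)) :
    mv x ⊔ fx x = ⊤ :=
  Subgroup.eq_top_of_card_eq _ (by
    rw [card_sup_of_disjoint (mv_inf_fx hV hx), card_mv_mul_card_fx hV])

theorem exists_mul_of_sup {A B : Subgroup V} {v : V} (h : v ∈ A ⊔ B) :
    ∃ a ∈ A, ∃ b ∈ B, a * b = v := Subgroup.mem_sup.1 h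

/-- For an involution `a`, `[V, a]` is fixed by `a`. -/
theorem dv_mem_fx {a : MulAut V} (ha : a * a = 1) (v : V) : dv a v ∈ fx a := by
  rw [mem_fx, dv_apply, map_mul, ← MulAut.mul_apply, ha, MulAut.one_apply, mul_comm]

/-- An involution inverting a fixed point free element of odd order fixes exactly the square root. -/
theorem card_half [Finite V] (hV : Exp2 V) {a x : MulAut V} (ha : a * a = 1)
    (hinv : a * x * a⁻¹ = x⁻¹) (hx : Odd (orderOf x)) {U : Subgroup V}
    (hUa : ∀ u ∈ U, a u ∈ U) (hUx : ∀ u ∈ U, x u ∈ U) (hfix : U ⊓ fx x = ⊥) :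
    Nat.card U = Nat.card ↥(U ⊓ fx a) * Nat.card ↥(U ⊓ fx a) ∧
      (U ⊓ fx a) ⊔ (U ⊓ fx a).map x.toMonoidHom = U := by
  set C := U ⊓ fx a with hC
  set D := C.map x.toMonoidHom with hD
  have hDU : D ≤ U := by rintro _ ⟨c, hc, rfl⟩; exact hUx c hc.1
  have hdis : C ⊓ D = ⊥ := by
    rw [Subgroup.eq_bot_iff_forall]
    rintro v ⟨hv, c, hc, rfl⟩
    have h1 : a (x c) = x⁻¹ c := by
      have e : a * x = x⁻¹ * a := mul_inv_eq_iff_eq_mul.1 hinv
      rw [← MulAut.mul_apply, e, MulAut.mul_apply, mem_fx.1 hc.2]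
    have h2 : x c = x⁻¹ c := (mem_fx.1 hv.2).symm.trans h1
    have h3 : (x ^ 2) c = c := by
      rw [sq, MulAut.mul_apply]
      exact (congrArg x h2).trans (MulAut.apply_inv_self ..)
    obtain ⟨j, hj⟩ := hx
    have h4 : ∀ m : ℕ, ((x ^ 2) ^ m) c = c := by
      intro m
      induction m with
      | zero => simp
      | succ m ih => rw [pow_succ', MulAut.mul_apply, ih, h3]
    have h5 : x c = c := by
      have h6 : x * (x ^ 2) ^ j = 1 := by
        rw [← pow_mul, ← pow_succ', ← hj, pow_orderOf_eq_one]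
      calc x c = x (((x ^ 2) ^ j) c) := by rw [h4]
        _ = c := by rw [← MulAut.mul_apply, h6, MulAut.one_apply]
    have : c = 1 := (Subgroup.eq_bot_iff_forall _).1 hfix c ⟨hc.1, h5⟩
    simp [this]
  have hcardD : Nat.card D = Nat.card C := Subgroup.card_map_of_injective x.injective
  have hsup : Nat.card ↥(C ⊔ D) = Nat.card C * Nat.card C := by
    rw [card_sup_of_disjoint hdis, hcardD]
  have h1 : Nat.card ↥(C ⊔ D) ≤ Nat.card U := Subgroup.card_le_of_le (sup_le inf_le_left hDU)
  have h2 : Nat.card U ≤ Nat.card C * Nat.card C := by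
    have h := card_map_mul (dv a) U
    rw [ker_dv hV, ← hC] at h
    rw [← h]
    refine Nat.mul_le_mul_right _ (Subgroup.card_le_of_le ?_)
    rintro _ ⟨u, hu, rfl⟩
    exact ⟨U.mul_mem (hUa u hu) hu, dv_mem_fx ha u⟩
  exact ⟨le_antisymm h2 (hsup ▸ h1),
    Subgroup.eq_of_le_of_card_ge (sup_le inf_le_left hDU) (hsup ▸ h2)⟩

/-- A basis `a i` of an elementary abelian group with inverted eigenelements `y i`. -/
structure EigenData {n : ℕ} (a y : Fin n → MulAut V) : Prop where
  invol : ∀ i, a i * a i = 1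
  odd : ∀ i, Odd (orderOf (y i))
  inv : ∀ i, a i * y i * (a i)⁻¹ = (y i)⁻¹
  comm_ay : ∀ i j, i ≠ j → a i * y j = y j * a i
  comm_yy : ∀ i j, y i * y j = y j * y i
  comm_aa : ∀ i j, a i * a j = a j * a i

/-- `|U : C_U(A)| ≥ 2 ^ n`, with the structure forced by equality. -/
theorem ff_bound [Finite V] (hV : Exp2 V) : ∀ (n : ℕ) (a y : Fin n → MulAut V) (U : Subgroup V),
    EigenData a y → (∀ i, ∀ u ∈ U, a i u ∈ U ∧ y i u ∈ U) → (∀ i, ∃ u ∈ U, y i u ≠ u) →
    2 ^ n * Nat.card ↥(U ⊓ fixAll (Set.range a)) ≤ Nat.card U ∧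
      (Nat.card U ≤ 2 ^ n * Nat.card ↥(U ⊓ fixAll (Set.range a)) →
        ∀ i, Nat.card ↥(U.map (dv (y i))) = 4 ∧ Nat.card ↥(U.map (dv (a i))) = 2) := by
  intro n
  induction n with
  | zero =>
    intro a y U _ _ _
    exact ⟨by simpa using Subgroup.card_le_of_le inf_le_left, fun _ i => i.elim0⟩
  | succ n ih =>
    intro a y U hd hinv hne
    -- the reduction at a pivot
    have step : ∀ k : Fin (n + 1),
        2 ^ (n + 1) * Nat.card ↥(U ⊓ fixAll (Set.range a)) ≤ Nat.card U ∧
        (Nat.card U ≤ 2 ^ (n + 1) * Nat.card ↥(U ⊓ fixAll (Set.range a)) →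
          Nat.card ↥(U.map (dv (y k))) = 4 ∧
          ∀ i, Nat.card ↥(U.map (dv (y (k.succAbove i)))) = 4 ∧
            Nat.card ↥(U.map (dv (a (k.succAbove i)))) = 2) := by
      intro k
      set R := U.map (dv (y k)) with hRdef
      set W := U ⊓ fx (y k) with hWdef
      set C := R ⊓ fx (a k) with hCdef
      have hRU : R ≤ U := by
        rintro _ ⟨u, hu, rfl⟩
        exact U.mul_mem (hinv k u hu).2 hu
      have hRW : R ⊓ W = ⊥ := by
        rw [Subgroup.eq_bot_iff_forall]
        intro v hv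
        obtain ⟨u, -, rfl⟩ := hv.1
        exact eq_one_of_mem_mv_fx hV (hd.odd k) (dv_mem_mv _ u) hv.2.2
      have hcU : Nat.card R * Nat.card W = Nat.card U := by
        have h := card_map_mul (dv (y k)) U
        rwa [ker_dv hV] at h
      have hsupU : R ⊔ W = U := Subgroup.eq_of_le_of_card_ge (sup_le hRU inf_le_left)
        (by rw [card_sup_of_disjoint hRW, hcU])
      have hak : a k * y k = (y k)⁻¹ * a k := mul_inv_eq_iff_eq_mul.1 (hd.inv k)
      have hWa : ∀ w ∈ W, a k w ∈ W := by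
        intro w hw
        refine ⟨(hinv k w hw.1).1, ?_⟩
        have h1 : a k (y k w) = (y k)⁻¹ (a k w) := by rw [← MulAut.mul_apply, hak, MulAut.mul_apply]
        rw [mem_fx.1 hw.2] at h1
        show y k (a k w) = a k w
        conv_lhs => rw [h1]
        exact MulAut.apply_inv_self ..
      have hRa : ∀ r ∈ R, a k r ∈ R := by
        rintro _ ⟨u, hu, rfl⟩
        have h1 : a k (dv (y k) u) = dv ((y k)⁻¹) (a k u) := by
          rw [dv_apply, dv_apply, map_mul, ← MulAut.mul_apply, hak, MulAut.mul_apply]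
        have hyinv : (y k)⁻¹ (a k u) ∈ U := by
          obtain ⟨m, hm⟩ : ∃ m : ℕ, (y k)⁻¹ = y k ^ m := ⟨orderOf (y k) - 1, by
            rw [inv_eq_iff_mul_eq_one, ← pow_succ', Nat.sub_add_cancel (orderOf_pos _),
              pow_orderOf_eq_one]⟩
          rw [hm]
          clear hm
          induction m with
          | zero => simpa using (hinv k u hu).1
          | succ m ihm => rw [pow_succ', MulAut.mul_apply]; exact (hinv k _ ihm).2
        refine ⟨(y k)⁻¹ (a k u), hyinv, ?_⟩
        rw [h1, dv_apply, dv_apply, MulAut.apply_inv_self, mul_comm]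
      have hRy : ∀ r ∈ R, y k r ∈ R := fun r hr =>
        apply_mem_map_dv rfl (fun u hu => (hinv k u hu).2) hr
      have hRfix : R ⊓ fx (y k) = ⊥ := le_bot_iff.1 ((le_inf inf_le_left
        (le_inf (inf_le_left.trans hRU) inf_le_right)).trans hRW.le)
      obtain ⟨hR2, hRgen⟩ := card_half hV (hd.invol k) (hd.inv k) (hd.odd k) hRa hRy hRfix
      rw [← hCdef] at hR2 hRgen
      have hR1 : R ≠ ⊥ := by
        obtain ⟨u, hu, hne'⟩ := hne k
        exact fun h => hne' ((dv_eq_one_iff hV).1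
          ((Subgroup.eq_bot_iff_forall _).1 h _ ⟨u, hu, rfl⟩))
      have hC2 : 2 ≤ Nat.card C := by
        by_contra hlt
        have h1 : Nat.card C = 1 := by have := Nat.card_pos (α := C); omega
        rw [h1, mul_one] at hR2
        exact hR1 (Subgroup.card_eq_one.1 hR2)
      set U' := C ⊔ W with hU'
      have hCW : C ⊓ W = ⊥ := le_bot_iff.1 ((inf_le_inf_right _ inf_le_left).trans hRW.le)
      have hcU' : Nat.card U = Nat.card C * Nat.card U' := by
        rw [hU', card_sup_of_disjoint hCW, ← hcU, hR2, mul_assoc]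
      have hfix : U ⊓ fixAll (Set.range a) ≤ U' := by
        intro u hu
        obtain ⟨r, hr, w, hw, rfl⟩ := exists_mul_of_sup (hsupU.ge hu.1)
        have h1 : dv (a k) r * dv (a k) w = 1 := by
          rw [← map_mul, dv_eq_one_iff hV]; exact mem_fixAll.1 hu.2 _ ⟨k, rfl⟩
        have h2 : dv (a k) r ∈ R ⊓ W :=
          ⟨R.mul_mem (hRa r hr) hr, by
            rw [eq_inv_of_mul_eq_one_left h1]; exact W.inv_mem (W.mul_mem (hWa w hw) hw)⟩
        rw [hRW, Subgroup.mem_bot, dv_eq_one_iff hV] at h2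
        exact Subgroup.mul_mem_sup ⟨hr, h2⟩ hw
      have hcom : ∀ i, (a (k.succAbove i) * y k = y k * a (k.succAbove i)) ∧
          (y (k.succAbove i) * y k = y k * y (k.succAbove i)) ∧
          (a (k.succAbove i) * a k = a k * a (k.succAbove i)) ∧
          (y (k.succAbove i) * a k = a k * y (k.succAbove i)) := fun i =>
        ⟨hd.comm_ay _ _ (Fin.succAbove_ne k i), hd.comm_yy _ _, hd.comm_aa _ _,
          (hd.comm_ay _ _ (Fin.succAbove_ne k i).symm).symm⟩
      have hC' : ∀ i, ∀ c ∈ C, a (k.succAbove i) c ∈ C ∧ y (k.succAbove i) c ∈ C := fun i c hc =>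
        ⟨⟨apply_mem_map_dv (hcom i).1 (fun u hu => (hinv _ u hu).1) hc.1,
            apply_mem_fx (hcom i).2.2.1 hc.2⟩,
          ⟨apply_mem_map_dv (hcom i).2.1 (fun u hu => (hinv _ u hu).2) hc.1,
            apply_mem_fx (hcom i).2.2.2 hc.2⟩⟩
      have hU'inv : ∀ i, ∀ u ∈ U', a (k.succAbove i) u ∈ U' ∧ y (k.succAbove i) u ∈ U' := by
        intro i u hu
        obtain ⟨c, hc, w, hw, rfl⟩ := exists_mul_of_sup hu
        rw [map_mul, map_mul]
        exact ⟨Subgroup.mul_mem_sup (hC' i c hc).1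
            ⟨(hinv _ w hw.1).1, apply_mem_fx (hcom i).1 hw.2⟩,
          Subgroup.mul_mem_sup (hC' i c hc).2
            ⟨(hinv _ w hw.1).2, apply_mem_fx (hcom i).2.1 hw.2⟩⟩
      -- an element commuting with `y k` which kills `U'` kills `U`
      have hlift : ∀ b : MulAut V, b * y k = y k * b → (∀ c ∈ C, b c = c) →
          U.map (dv b) = U'.map (dv b) := by
        intro b hb hbC
        have hRb : ∀ r ∈ R, b r = r := by
          intro r hr
          obtain ⟨c, hc, _, ⟨c', hc', rfl⟩, rfl⟩ := exists_mul_of_sup (hRgen.ge hr)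
          rw [map_mul, hbC c hc]
          congr 1
          show b (y k c') = y k c'
          rw [← MulAut.mul_apply, hb, MulAut.mul_apply, hbC c' hc']
        rw [← hsupU, hU', Subgroup.map_sup, Subgroup.map_sup]
        have e1 : R.map (dv b) = ⊥ := (Subgroup.map_eq_bot_iff _).2 fun r hr => by
          rw [MonoidHom.mem_ker, dv_eq_one_iff hV]; exact hRb r hr
        have e2 : C.map (dv b) = ⊥ :=
          le_bot_iff.1 ((Subgroup.map_mono inf_le_left).trans e1.le)
        rw [e1, e2]
      have hd' : EigenData (fun i => a (k.succAbove i)) (fun i => y (k.succAbove i)) :=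
        ⟨fun i => hd.invol _, fun i => hd.odd _, fun i => hd.inv _,
          fun i j h => hd.comm_ay _ _ fun h' => h (Fin.succAbove_right_injective h'),
          fun i j => hd.comm_yy _ _, fun i j => hd.comm_aa _ _⟩
      have hne' : ∀ i, ∃ u ∈ U', y (k.succAbove i) u ≠ u := by
        intro i
        by_contra hcon
        push Not at hcon
        obtain ⟨u, hu, hne'⟩ := hne (k.succAbove i)
        apply hne'
        rw [← dv_eq_one_iff hV]
        have h : dv (y (k.succAbove i)) u ∈ U'.map (dv (y (k.succAbove i))) :=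
          hlift _ (hcom i).2.1 (fun c hc => hcon c (Subgroup.mem_sup_left hc)) ▸ ⟨u, hu, rfl⟩
        obtain ⟨v, hv, hv'⟩ := h
        rw [← hv', dv_eq_one_iff hV]
        exact hcon v hv
      obtain ⟨hb, heq⟩ := ih _ _ U' hd' hU'inv hne'
      have hfle : U ⊓ fixAll (Set.range a) ≤
          U' ⊓ fixAll (Set.range fun i => a (k.succAbove i)) := by
        refine le_inf hfix fun u hu => mem_fixAll.2 ?_
        rintro _ ⟨i, rfl⟩
        exact mem_fixAll.1 hu.2 _ ⟨_, rfl⟩
      have hf := Subgroup.card_le_of_le hfle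
      set f := Nat.card ↥(U ⊓ fixAll (Set.range a))
      set f' := Nat.card ↥(U' ⊓ fixAll (Set.range fun i => a (k.succAbove i)))
      have h1 : 2 ^ n * f ≤ Nat.card U' := le_trans (Nat.mul_le_mul_left _ hf) hb
      have h2 : 2 ^ (n + 1) * f ≤ Nat.card U := by
        rw [hcU', pow_succ', mul_assoc]
        exact Nat.mul_le_mul hC2 h1
      refine ⟨h2, fun hle => ?_⟩
      have hfpos : 0 < f := Nat.card_pos
      rw [hcU', pow_succ', mul_assoc] at hle
      have hC : Nat.card C = 2 := by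
        by_contra hcne
        have h3 : 3 * (2 ^ n * f) ≤ Nat.card C * Nat.card U' :=
          Nat.mul_le_mul (by omega) h1
        have : 0 < 2 ^ n * f := by positivity
        omega
      rw [hC] at hle
      have hU'le : Nat.card U' ≤ 2 ^ n * f' :=
        le_trans (Nat.le_of_mul_le_mul_left hle (by norm_num)) (Nat.mul_le_mul_left _ hf)
      refine ⟨by rw [hR2, hC], fun i => ?_⟩
      have hCfix : ∀ b : MulAut V, (∀ c ∈ C, b c ∈ C) → ∀ c ∈ C, b c = c := by
        intro b hb c hc
        by_contra hne''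
        have hc1 : c ≠ 1 := fun h => hne'' (by rw [h, map_one])
        obtain ⟨o, ho⟩ := (Nat.card_eq_two_iff' (1 : C)).1 hC
        have hbc1 : b c ≠ 1 := fun h => hc1 (b.injective (h.trans (map_one b).symm))
        have e1 := ho.2 ⟨b c, hb c hc⟩ (fun h => hbc1 (congrArg Subtype.val h))
        have e2 := ho.2 ⟨c, hc⟩ (fun h => hc1 (congrArg Subtype.val h))
        exact hne'' (congrArg Subtype.val (e1.trans e2.symm))
      obtain ⟨e1, e2⟩ := heq hU'le i
      rw [hlift _ (hcom i).2.1 (hCfix _ fun c hc => (hC' i c hc).2),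
        hlift _ (hcom i).1 (hCfix _ fun c hc => (hC' i c hc).1)]
      exact ⟨e1, e2⟩
    refine ⟨(step 0).1, fun hle i => ?_⟩
    rcases Nat.eq_zero_or_pos n with hn | hn
    · subst hn
      have hi : i = 0 := Fin.fin_one_eq_zero i
      subst hi
      refine ⟨((step 0).2 hle).1, ?_⟩
      have hr : Set.range a = {a 0} := by
        ext b; simp [Fin.exists_fin_one, eq_comm]
      have h := card_map_mul (dv (a 0)) U
      rw [ker_dv hV] at h
      have hf : U ⊓ fixAll (Set.range a) = U ⊓ fx (a 0) := by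
        congr 1; ext v; rw [mem_fixAll, hr]; simp [mem_fx]
      rw [hf] at hle
      have hge := (step 0).1
      rw [hf] at hge
      have hpos : 0 < Nat.card ↥(U ⊓ fx (a 0)) := Nat.card_pos
      exact Nat.eq_of_mul_eq_mul_right hpos (h.trans (le_antisymm (by simpa using hle) (by simpa using hge)))
    · haveI : Nontrivial (Fin (n + 1)) := Fin.nontrivial_iff_two_le.2 (by omega)
      obtain ⟨k, hk⟩ := exists_ne i
      obtain ⟨j, hj⟩ := Fin.exists_succAbove_eq hk.symm
      exact hj ▸ ((step k).2 hle).2 j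

end CfsgLib.JComp
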