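import Cfsg.Agent.Lib.LocalEven.JComp.FourData

/-!
Small lemmas on the group generated by a component and `J(T)`.
-/

set_option autoImplicit false

open Cfsg CfsgLib.PLocal
open scoped commutatorElement

namespace CfsgLib.JComp

variable {G : Type*} [Group G]

theorem normal_le_sylowIn [Finite G] {T L P : Subgroup G} (h : Cfsg.IsSylowTwoIn T L) (hPL : P ≤ L)
    (hn : L ≤ Subgroup.normalizer (P : Set G)) (hP : IsPGroup 2 P) : P ≤ T := by
  obtain ⟨g, hg, hg'⟩ := exists_conj_le h hPL hP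
  have e : P.map (MulAut.conj g).toMonoidHom = P :=
    Subgroup.mem_normalizer_iff_map_conj_eq.1 (hn hg)
  rwa [e] at hg'

/-- The elements of odd order of `K P`, `P` a 2-group normalizing `K`, lie in `K`. -/
theorem odd_mem_of_sup [Finite G] {K P : Subgroup G} (hP : IsPGroup 2 P)
    (hPK : P ≤ Subgroup.normalizer (K : Set G)) {x : G} (hx : x ∈ K ⊔ P)
    (ho : Odd (orderOf x)) : x ∈ K := by
  have hx' : x ∈ ((K ⊔ P : Subgroup G) : Set G) := hx
  rw [Subgroup.coe_mul_of_right_le_normalizer_left K P hPK] at hx'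
  obtain ⟨k, hk, j, hj, rfl⟩ := hx'
  obtain ⟨m, hm⟩ := hP ⟨j, hj⟩
  exact odd_mem_of_mul hk (hPK hj) (m := m) (by simpa using congrArg Subtype.val hm) ho

theorem FourData.conj_pow {K : Subgroup G} {k : G} (hd : FourData K k) {u : G}
    (hu : u ∈ Cfsg.wOf K) {i : ℕ} (hi : i < 3) (h : k ^ i * u * (k ^ i)⁻¹ = u) (hu1 : u ≠ 1) :
    i = 0 := by
  rcases (show i = 0 ∨ i = 1 ∨ i = 2 by omega) with rfl | rfl | rfl
  · rfl
  · rw [pow_one] at h
    exact absurd (hd.fpf u hu h) hu1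
  · have e : k ^ (2 * 2) = k := by
      conv_rhs => rw [← pow_one k]
      exact pow_eq_pow_iff_modEq.2 (by rw [hd.ord]; decide)
    refine absurd (hd.fpf u hu ?_) hu1
    conv_lhs => rw [← e]
    have h2 := congrArg (fun w => k ^ 2 * w * (k ^ 2)⁻¹) h
    rw [pow_mul, show ((k ^ 2) ^ 2) = k ^ 2 * k ^ 2 from pow_two _, mul_inv_rev]
    simpa [mul_assoc] using h2.trans h

/-- An element of `K` centralizing `W_K` lies in `O₂(K)`. -/
theorem FourData.mem_core {K : Subgroup G} {k : G} (hd : FourData K k)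
    (hne : Cfsg.wOf K ≠ ⊥) {g : G} (hg : g ∈ K)
    (hc : g ∈ Subgroup.centralizer (Cfsg.wOf K : Set G)) : g ∈ Cfsg.pCoreOf 2 K := by
  obtain ⟨i, hi, hiq⟩ := hd.split g hg
  obtain ⟨⟨u, hu⟩, hu1⟩ := Subgroup.ne_bot_iff_exists_ne_one.1 hne
  have h : k ^ i * u * (k ^ i)⁻¹ = u := by
    have h1 := Subgroup.mem_centralizer_iff.1 hc u hu
    have h2 := hd.core_fix _ hiq u hu
    calc k ^ i * u * (k ^ i)⁻¹ = k ^ i * (((k ^ i)⁻¹ * g) * u * ((k ^ i)⁻¹ * g)⁻¹) * (k ^ i)⁻¹ := by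
          rw [h2]
      _ = g * u * g⁻¹ := by group
      _ = u := by rw [← h1]; group
  obtain rfl := hd.conj_pow hu hi h (fun e => hu1 (Subtype.ext e))
  simpa using hiq

end CfsgLib.JComp
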