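import Cfsg.Agent.Lib.LocalEven.JComp.Conj
import Cfsg.Agent.Lib.LocalEven.JComp.Split
import Cfsg.Agent.S2946

/-!
Components outside `M`: the unique maximal 2-local subgroup above one, and what follows from it for
`Ω₁(Z(J(T)))`.
-/

set_option autoImplicit false

open Cfsg CfsgLib.PLocal
open scoped commutatorElement

namespace CfsgLib.JComp

variable {G : Type*} [Group G] [Finite G]

/-- The standing hypothesis on `G`. -/
structure ZN (G : Type*) [Group G] : Prop where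
  char : Cfsg.IsCharacteristicTwoType G
  solv : ∀ N : Subgroup G, Cfsg.IsTwoLocal N → Group.IsSolvable ↥N
  zc : ∀ S : Sylow 2 G, Subgroup.centralizer (Cfsg.omegaCenterOf (S : Subgroup G) : Set G) ≤
    Subgroup.normalizer ((S : Subgroup G) : Set G)

/-- `T` is a maximal straddling subgroup for `M`, which contains `N(J(S))`. -/
structure Frame (T M : Subgroup G) : Prop where
  zn : ZN G
  mem : T ∈ Cfsg.maxStraddlingTwoSubgroups M
  sylJ : ∃ S : Sylow 2 G,
    Subgroup.normalizer (Cfsg.thompsonSubgroupOf 2 (S : Subgroup G) : Set G) ≤ M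

/-- The components of `T` inside `R`. -/
def compSet (T R : Subgroup G) : Set (Subgroup G) := {K | Cfsg.IsJComponent T K ∧ K ≤ R}

/-- The product of the four-groups of the components inside `R`. -/
def uOf (T R : Subgroup G) : Subgroup G := ⨆ K ∈ compSet T R, Cfsg.wOf K

/-- The elements of `Ω₁(Z(J(T)))` centralizing `K`. -/
def cz (T K : Subgroup G) : Subgroup G :=
  Cfsg.omegaCenterOf (Cfsg.thompsonSubgroupOf 2 T) ⊓ Subgroup.centralizer (K : Set G)

/-- Two components in the same member of `ℒ`. -/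
theorem Over.pair {T L : Subgroup G} (h : Over T L) {K K' : Subgroup G}
    (hK : Cfsg.IsJComponent T K) (hKL : K ≤ L) (hK' : Cfsg.IsJComponent T K') (hKL' : K' ≤ L) :
    K ≤ Subgroup.normalizer (K' : Set G) ∧ (K = K' ∨ Cfsg.wOf K ⊓ Cfsg.wOf K' = ⊥ ∧
      Cfsg.wOf K' ≤ Subgroup.centralizer (K : Set G)) := by
  obtain ⟨x, hx, rfl⟩ := h.exists_line_of_component hK hKL
  obtain ⟨y, hy, rfl⟩ := h.exists_line_of_component hK' hKL'
  haveI := finite_mulAut (V := ↥(vOf L))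
  have hV := exp2_vOf L
  have hc := lines_comm hV hx.1 hy.1 hx.2.1 hy.2.1
  have himg : ∀ g ∈ kOf T L x, ∃ hg : g ∈ L, act L ⟨g, hg⟩ ∈ Subgroup.zpowers x := fun g hg =>
    mem_pre.1 ((h.kprops hx).le_pre hg)
  refine ⟨fun g hg => ?_, ?_⟩
  · obtain ⟨hgL, hg'⟩ := himg g hg
    refine h.mem_normalizer_kOf hy hgL (Or.inl ?_)
    rw [mul_inv_eq_iff_eq_mul]
    rcases mem_zpowers_three hx.2.1 hg' with e | e | e <;> rw [e]
    · rw [one_mul, mul_one]
    · exact hc
    · exact (Commute.inv_left (show Commute x y from hc)).eq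
  by_cases hmv : mv x = mv y
  · left
    have h1 : x ∈ Subgroup.zpowers y := mem_zpowers_of_mv_eq hV hy.2.1 hx.2.1 hc hmv.symm
    have h2 : y ∈ Subgroup.zpowers x := mem_zpowers_of_mv_eq hV hx.2.1 hy.2.1 hc.symm hmv
    rw [kOf, kOf, pre_congr (le_antisymm (Subgroup.zpowers_le.2 h1) (Subgroup.zpowers_le.2 h2))]
  · right
    have hinf := mv_inf_mv hV hx.2.1 hy.2.1 hc.symm hmv
    refine ⟨?_, ?_⟩
    · rw [h.wOf_kOf hx, h.wOf_kOf hy, ← Subgroup.map_inf _ _ _ (vOf L).subtype_injective, hinf,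
        Subgroup.map_bot]
    · rw [h.wOf_kOf hy]
      rintro _ ⟨v, hv, rfl⟩
      refine Subgroup.mem_centralizer_iff.2 fun g hg => ?_
      obtain ⟨hgL, hg'⟩ := himg g hg
      have hxv : x v = v := by
        rw [← dv_eq_one_iff hV, ← Subgroup.mem_bot, ← hinf]
        exact ⟨dv_mem_mv x v, mul_mem (apply_mem_mv hc hv) hv⟩
      have hxiv : x⁻¹ v = v := by
        conv_lhs => rw [← hxv]
        exact MulAut.inv_apply_self ..
      have hfix : act L ⟨g, hgL⟩ v = v := by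
        rcases mem_zpowers_three hx.2.1 hg' with e | e | e <;> rw [e]
        exacts [rfl, hxv, hxiv]
      have h1 := congrArg Subtype.val hfix
      rw [act_apply] at h1
      exact mul_inv_eq_iff_eq_mul.1 h1

theorem jComponent_conj_self {T K : Subgroup G} (hK : Cfsg.IsJComponent T K) {g : G}
    (hg : g ∈ Subgroup.normalizer (Cfsg.thompsonSubgroupOf 2 T : Set G)) :
    Cfsg.IsJComponent T (K.map (MulAut.conj g).toMonoidHom) := by
  refine isJComponent_congr ?_ (isJComponent_conj hK g)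
  rw [jOf_conj]
  exact CfsgLib.LocalEven.map_conj_eq_self hg

theorem omega_conj_self {T : Subgroup G} {g : G}
    (hg : g ∈ Subgroup.normalizer (Cfsg.thompsonSubgroupOf 2 T : Set G)) :
    (Cfsg.omegaCenterOf (Cfsg.thompsonSubgroupOf 2 T)).map (MulAut.conj g).toMonoidHom =
      Cfsg.omegaCenterOf (Cfsg.thompsonSubgroupOf 2 T) := by
  rw [← omegaCenterOf_conj, CfsgLib.LocalEven.map_conj_eq_self hg]

theorem cz_conj {T : Subgroup G} (K : Subgroup G) {g : G}
    (hg : g ∈ Subgroup.normalizer (Cfsg.thompsonSubgroupOf 2 T : Set G)) :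
    cz T (K.map (MulAut.conj g).toMonoidHom) = (cz T K).map (MulAut.conj g).toMonoidHom := by
  rw [cz, cz, Subgroup.map_inf _ _ _ (MulAut.conj g).injective, omega_conj_self hg,
    CfsgLib.LocalEven.map_centralizer_conj]

theorem max_self_normalizing {L : Subgroup G} (hL : Cfsg.IsMaximalTwoLocal L) {g : G}
    (hg : L.map (MulAut.conj g).toMonoidHom = L) : g ∈ L := by
  haveI : Fact (Nat.Prime 2) := ⟨Nat.prime_two⟩
  obtain ⟨⟨Q, hQ, hQ1, hQL⟩, hmax⟩ := hL
  have hQle : Q ≤ Cfsg.pCoreOf 2 L := CfsgLib.LocalEvenCharP.le_pCoreOf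
    (hQL ▸ Subgroup.le_normalizer) hQL.le hQ
  have hO : Cfsg.pCoreOf 2 L ≠ ⊥ := fun e => hQ1 (le_bot_iff.1 (e ▸ hQle))
  have h1 := hmax _ ⟨_, CfsgLib.LocalEvenCharP.isPGroup_pCoreOf 2 L, hO, rfl⟩
    (CfsgLib.LocalEvenCharP.le_normalizer_pCoreOf 2 L)
  have h2 : g ∈ Subgroup.normalizer (Cfsg.pCoreOf 2 L : Set G) :=
    CfsgLib.LocalEven.mem_normalizer_of_map_conj_eq (by rw [← pCoreOf_conj, hg])
  exact h1.le h2

namespace Frame

variable {T M : Subgroup G} (F : Frame T M)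

include F

theorem pgroup : IsPGroup 2 T := F.mem.1.1

theorem ne_bot : T ≠ ⊥ := F.mem.1.2.1

theorem le_M : T ≤ M := F.mem.1.2.2.1

theorem normalizer_J : Subgroup.normalizer (Cfsg.thompsonSubgroupOf 2 T : Set G) ≤ M := by
  obtain ⟨S, hS⟩ := F.sylJ
  exact normalizer_jOf_le_of_max hS F.mem

theorem overOf {R : Subgroup G} (hR : Cfsg.IsTwoLocal R) (hRM : ¬ R ≤ M)
    (hJ : Cfsg.thompsonSubgroupOf 2 T ≤ R) :
    ∃ T₀, Over T₀ R ∧ Cfsg.thompsonSubgroupOf 2 T₀ = Cfsg.thompsonSubgroupOf 2 T := by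
  obtain ⟨S, hS⟩ := F.sylJ
  obtain ⟨T₀, hT₀, hJT₀⟩ := exists_sylowIn_ge hJ (F.pgroup.to_le (jOf_le T))
  obtain ⟨h1, -, h3⟩ := straddling_local F.zn.char hS F.mem hR hRM hT₀ hJT₀
  exact ⟨T₀, Over.mk' F.zn.solv F.zn.zc h3, h1.symm⟩

theorem sylow {R : Subgroup G} (hR : Cfsg.IsTwoLocal R) (hRM : ¬ R ≤ M) (hTR : T ≤ R) :
    Over T R := by
  obtain ⟨S, hS⟩ := F.sylJ
  obtain ⟨T₂, hT₂, hTT₂⟩ := exists_sylowIn_ge hTR F.pgroup
  obtain ⟨hJ₂, hstr₂, hjo₂⟩ :=
    straddling_local F.zn.char hS F.mem hR hRM hT₂ ((jOf_le T).trans hTT₂)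
  obtain ⟨-, h2⟩ := F.mem.2 T₂ hstr₂
  have ha : Cfsg.maxElemAbelianOrder T₂ = Cfsg.maxElemAbelianOrder T := by
    rw [← maxElemAbelianOrder_jOf T₂, ← hJ₂, maxElemAbelianOrder_jOf]
  have heq : T = T₂ := Subgroup.eq_of_le_of_card_ge hTT₂ ((h2 ha).2 (by rw [← hJ₂]))
  subst heq
  exact Over.mk' F.zn.solv F.zn.zc hjo₂

theorem pair {R : Subgroup G} (hR : Cfsg.IsTwoLocal R) (hRM : ¬ R ≤ M)
    (hJ : Cfsg.thompsonSubgroupOf 2 T ≤ R) {K K' : Subgroup G} (hK : K ∈ compSet T R)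
    (hK' : K' ∈ compSet T R) :
    K ≤ Subgroup.normalizer (K' : Set G) ∧ (K = K' ∨ Cfsg.wOf K ⊓ Cfsg.wOf K' = ⊥ ∧
      Cfsg.wOf K' ≤ Subgroup.centralizer (K : Set G)) := by
  obtain ⟨T₀, h, he⟩ := F.overOf hR hRM hJ
  exact h.pair (isJComponent_congr he.symm hK.1) hK.2 (isJComponent_congr he.symm hK'.1) hK'.2

theorem le_normalizer_uOf {R : Subgroup G} (hR : Cfsg.IsTwoLocal R) (hRM : ¬ R ≤ M)
    (hJ : Cfsg.thompsonSubgroupOf 2 T ≤ R) : R ≤ Subgroup.normalizer (uOf T R : Set G) := by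
  obtain ⟨T₀, h, he⟩ := F.overOf hR hRM hJ
  have key : ∀ g : G, (∀ K ∈ compSet T R, K.map (MulAut.conj g).toMonoidHom ∈ compSet T R) →
      g ∈ Subgroup.normalizer (uOf T R : Set G) := by
    intro g hg
    refine CfsgLib.Coprime.mem_normalizer_of_forall_conj fun u hu => ?_
    suffices hle : uOf T R ≤ (uOf T R).comap (MulAut.conj g).toMonoidHom from hle hu
    rw [uOf]
    refine iSup₂_le fun K hK u hu => ?_
    refine le_iSup₂ (f := fun K (_ : K ∈ compSet T R) => Cfsg.wOf K) _ (hg K hK) ?_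
    rw [wOf_conj]
    exact ⟨u, hu, rfl⟩
  refine h.le_sup_components.trans (sup_le (iSup₂_le fun x hx g hg => key g fun K hK => ?_)
    fun g hg => key g fun K hK => ⟨jComponent_conj_self hK.1 (he ▸ hg.2), ?_⟩)
  · have hKx : kOf T₀ R x ∈ compSet T R :=
      ⟨isJComponent_congr he (h.isJComponent_kOf hx), (h.kprops hx).le_pre.trans (pre_le R x)⟩
    rw [CfsgLib.LocalEven.map_conj_eq_self ((F.pair hR hRM hJ hKx hK).1 hg)]
    exact hK
  · exact (Subgroup.map_mono hK.2).trans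
      (CfsgLib.LocalEven.map_conj_eq_self (Subgroup.le_normalizer hg.1)).le

theorem isPGroup_uOf {R : Subgroup G} (hR : Cfsg.IsTwoLocal R) (hRM : ¬ R ≤ M)
    (hJ : Cfsg.thompsonSubgroupOf 2 T ≤ R) : IsPGroup 2 ↥(uOf T R) := by
  obtain ⟨T₀, h, he⟩ := F.overOf hR hRM hJ
  refine (elemAb_isPGroup (omegaCenterOf_elemAb (Cfsg.pCoreOf 2 R))).to_le
    (iSup₂_le fun K hK => ?_)
  obtain ⟨x, hx, rfl⟩ := h.exists_line_of_component (isJComponent_congr he.symm hK.1) hK.2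
  rw [h.wOf_kOf hx]
  exact Subgroup.map_subtype_le _

end Frame

/-- `K` is a component outside some `M`, and `L` is the only maximal 2-local subgroup above it. -/
structure Above (T K L : Subgroup G) : Prop where
  comp : Cfsg.IsJComponent T K
  max : Cfsg.IsMaximalTwoLocal L
  le : K ⊔ Cfsg.thompsonSubgroupOf 2 T ≤ L
  uniq : ∀ L' : Subgroup G, Cfsg.IsMaximalTwoLocal L' → K ⊔ Cfsg.thompsonSubgroupOf 2 T ≤ L' → L' = L
  frame : ∃ M, Frame T M ∧ ¬ K ≤ M

/-- Uniqueness of the maximal 2-local subgroup above a component outside `M`. -/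
theorem Frame.exists_above {T M : Subgroup G} (F : Frame T M) {K : Subgroup G}
    (hK : Cfsg.IsJComponent T K) (hKM : ¬ K ≤ M) : ∃ L, Above T K L := by
  haveI : Fact (Nat.Prime 2) := ⟨Nat.prime_two⟩
  set J := Cfsg.thompsonSubgroupOf 2 T with hJdef
  set N := Subgroup.normalizer (Cfsg.wOf K : Set G) with hNdef
  have hN := isTwoLocal_normalizer_wOf hK
  have hKN : K ≤ N := component_le_normalizer_wOf K
  have hJN : J ≤ N := by
    refine le_trans ?_ (normalizer_le_normalizer_wOf K)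
    conv_rhs => rw [← hK.2.1]
    exact CfsgLib.Coprime.le_normalizer_commutator_right K J
  have hNM : ¬ N ≤ M := fun h => hKM (hKN.trans h)
  obtain ⟨L, hL, hNL⟩ := exists_maximal_ge hN
  have hXL : K ⊔ J ≤ L := (sup_le hKN hJN).trans hNL
  suffices key : ∀ L', Cfsg.IsMaximalTwoLocal L' → K ⊔ J ≤ L' →
      L' = Subgroup.normalizer (uOf T N : Set G) from
    ⟨L, hK, hL, hXL, fun L' h1 h2 => (key L' h1 h2).trans (key L hL hXL).symm, M, F, hKM⟩
  intro L' hL' hXL'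
  have hKL' : K ≤ L' := le_sup_left.trans hXL'
  have hJL' : J ≤ L' := le_sup_right.trans hXL'
  have hL'M : ¬ L' ≤ M := fun h => hKM (hKL'.trans h)
  have hsub : ∀ K' ∈ compSet T L', K' ∈ compSet T N := fun K' hK' => ⟨hK'.1,
    (F.pair hL'.1 hL'M hJL' hK' ⟨hK, hKL'⟩).1.trans (normalizer_le_normalizer_wOf K)⟩
  have hne : uOf T L' ≠ ⊥ := fun h => by
    have h4 : Cfsg.wOf K ≤ ⊥ :=
      h ▸ le_iSup₂ (f := fun K (_ : K ∈ compSet T L') => Cfsg.wOf K) K ⟨hK, hKL'⟩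
    have := hK.2.2.2.2.1
    rw [le_bot_iff.1 h4, Subgroup.card_bot] at this
    norm_num at this
  have heq : Subgroup.normalizer (uOf T L' : Set G) = L' :=
    hL'.2 _ ⟨_, F.isPGroup_uOf hL'.1 hL'M hJL', hne, rfl⟩ (F.le_normalizer_uOf hL'.1 hL'M hJL')
  -- the other components inside `N(W)` normalize `uOf T L'`
  have hback : ∀ K' ∈ compSet T N, K' ∈ compSet T L' := by
    refine fun K' hK' => ⟨hK'.1, fun g hg => heq.le ?_⟩
    refine CfsgLib.Coprime.mem_normalizer_of_forall_conj fun u hu => ?_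
    suffices hle : uOf T L' ≤ (uOf T L').comap (MulAut.conj g).toMonoidHom from hle hu
    rw [uOf]
    refine iSup₂_le fun K'' hK'' u hu => ?_
    refine le_iSup₂ (f := fun K (_ : K ∈ compSet T L') => Cfsg.wOf K) K'' hK'' ?_
    exact (Subgroup.mem_normalizer_iff.1 (normalizer_le_normalizer_wOf K''
      ((F.pair hN hNM hJN hK' (hsub K'' hK'')).1 hg)) u).1 hu
  have hset : compSet T L' = compSet T N := Set.ext fun K' => ⟨hsub K', hback K'⟩
  rw [← heq, uOf, uOf, hset]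

end CfsgLib.JComp
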