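import Cfsg.Agent.Lib.LocalEven.JComp.FFSolvable
import Cfsg.Agent.Lib.LocalEven.JComp.Basic

/-!
The action of a member `L` of the family `ℒ(T)` on `V = Ω₁(Z(O₂(L)))`.
-/

set_option autoImplicit false

open Cfsg CfsgLib.PLocal
open scoped commutatorElement

namespace CfsgLib.JComp

variable {G : Type*} [Group G]

/-- `V = Ω₁(Z(O₂(L)))`. -/
def vOf (L : Subgroup G) : Subgroup G := Cfsg.omegaCenterOf (Cfsg.pCoreOf 2 L)

theorem omegaCenterOf_le (X : Subgroup G) : Cfsg.omegaCenterOf X ≤ X :=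
  (omegaOne_le 2 _).trans inf_le_left

theorem omegaCenterOf_comm (X : Subgroup G) {v x : G} (hv : v ∈ Cfsg.omegaCenterOf X) (hx : x ∈ X) :
    x * v = v * x :=
  Subgroup.mem_centralizer_iff.1 (omegaOne_le 2 _ hv).2 x hx

theorem omegaCenterOf_elemAb (X : Subgroup G) :
    Cfsg.IsElementaryAbelian 2 (Cfsg.omegaCenterOf X) :=
  elemAb_closure (fun a ha b hb => Subgroup.mem_centralizer_iff.1 hb.1.2 a ha.1.1)
    fun a ha => ha.2

theorem normalizer_le_normalizer_omegaCenterOf (X : Subgroup G) :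
    Subgroup.normalizer (X : Set G) ≤ Subgroup.normalizer (Cfsg.omegaCenterOf X : Set G) := by
  refine le_trans ?_ (normalizer_le_normalizer_omegaOne 2 _)
  refine Subgroup.le_normalizer_iff.2 fun g hg x hx => ?_
  refine ⟨(Subgroup.mem_normalizer_iff.1 hg x).1 hx.1, Subgroup.mem_centralizer_iff.2 fun y hy => ?_⟩
  have h := Subgroup.mem_centralizer_iff.1 hx.2 _ ((Subgroup.mem_normalizer_iff''.1 hg y).1 hy)
  calc y * (g * x * g⁻¹) = g * ((g⁻¹ * y * g) * x) * g⁻¹ := by group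
    _ = g * (x * (g⁻¹ * y * g)) * g⁻¹ := by rw [h]
    _ = g * x * g⁻¹ * y := by group

theorem mem_omegaCenterOf {X : Subgroup G} {x : G} (hx : x ∈ X) (h2 : x * x = 1)
    (hc : ∀ y ∈ X, y * x = x * y) : x ∈ Cfsg.omegaCenterOf X :=
  mem_omegaOne ⟨hx, Subgroup.mem_centralizer_iff.2 hc⟩ (by rw [pow_two]; exact h2)

theorem le_normalizer_vOf (L : Subgroup G) : L ≤ Subgroup.normalizer (vOf L : Set G) :=
  (CfsgLib.LocalEvenCharP.le_normalizer_pCoreOf 2 L).trans (normalizer_le_normalizer_omegaCenterOf _)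

instance vOf_comm (L : Subgroup G) : IsMulCommutative ↥(vOf L) := (omegaCenterOf_elemAb _).1

instance vOfCommGroup (L : Subgroup G) : CommGroup ↥(vOf L) :=
  { (inferInstance : Group ↥(vOf L)) with
    mul_comm := fun a b => (vOf_comm L).is_comm.comm a b }

/-- The action of `L` on `vOf L`. -/
def act (L : Subgroup G) : L →* MulAut ↥(vOf L) :=
  (vOf L).normalizerMonoidHom.comp (Subgroup.inclusion (le_normalizer_vOf L))

theorem act_apply (L : Subgroup G) (g : L) (v : ↥(vOf L)) :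
    ((act L g v : ↥(vOf L)) : G) = g * v * (g : G)⁻¹ := rfl

/-- The induced group of automorphisms. -/
abbrev Hbar (L : Subgroup G) : Subgroup (MulAut ↥(vOf L)) := (act L).range

/-- The image of a subgroup. -/
abbrev img (L : Subgroup G) (A : Subgroup G) : Subgroup (MulAut ↥(vOf L)) :=
  (A.subgroupOf L).map (act L)

/-- The centralizer in `L` of `vOf L`. -/
abbrev cOf (L : Subgroup G) : Subgroup G := L ⊓ Subgroup.centralizer (vOf L : Set G)

theorem exp2_vOf (L : Subgroup G) : Exp2 ↥(vOf L) := fun v => Subtype.ext (by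
  show (v : G) * v = 1
  rw [← pow_two]
  exact (omegaCenterOf_elemAb (Cfsg.pCoreOf 2 L)).2 _ v.2)

theorem act_eq_one_iff (L : Subgroup G) (g : L) : act L g = 1 ↔ (g : G) ∈ cOf L := by
  constructor
  · intro h
    refine ⟨g.2, Subgroup.mem_centralizer_iff.2 fun v hv => ?_⟩
    have h1 := congrArg Subtype.val (DFunLike.congr_fun h ⟨v, hv⟩)
    rw [act_apply] at h1
    exact (mul_inv_eq_iff_eq_mul.1 h1).symm
  · intro h
    refine MulEquiv.ext fun v => Subtype.ext ?_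
    rw [act_apply]
    exact mul_inv_eq_iff_eq_mul.2 (Subgroup.mem_centralizer_iff.1 h.2 v v.2).symm

theorem mem_img {L A : Subgroup G} {a : MulAut ↥(vOf L)} :
    a ∈ img L A ↔ ∃ g : L, (g : G) ∈ A ∧ act L g = a := Iff.rfl

/-- The standing hypotheses: `T` is a Sylow 2-subgroup of the solvable group `L`,
`J(T) ≰ O₂(L)`, `C_G(O₂(L)) ≤ O₂(L)`, and `C_L(Ω₁Z(O₂(L)))` normalizes `T`. -/
structure Over (T L : Subgroup G) : Prop where
  syl : Cfsg.IsSylowTwoIn T L
  nle : ¬ Cfsg.thompsonSubgroupOf 2 T ≤ Cfsg.pCoreOf 2 L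
  cent : Subgroup.centralizer (Cfsg.pCoreOf 2 L : Set G) ≤ Cfsg.pCoreOf 2 L
  solv : Group.IsSolvable ↥L
  cnorm : cOf L ≤ Subgroup.normalizer (T : Set G)

variable [Finite G]

/-- The hypotheses of the setting imply those of `Over`. -/
theorem Over.mk' (hN : ∀ N : Subgroup G, Cfsg.IsTwoLocal N → Group.IsSolvable ↥N)
    (hZ : ∀ S : Sylow 2 G, Subgroup.centralizer (Cfsg.omegaCenterOf (S : Subgroup G) : Set G) ≤
      Subgroup.normalizer ((S : Subgroup G) : Set G))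
    {T L : Subgroup G} (hLT : L ∈ Cfsg.jOvergroups T) : Over T L := by
  haveI : Fact (Nat.Prime 2) := ⟨Nat.prime_two⟩
  obtain ⟨hsyl, hnle, hcent⟩ := hLT
  set Q := Cfsg.pCoreOf 2 L with hQ
  have hQp : IsPGroup 2 Q := CfsgLib.LocalEvenCharP.isPGroup_pCoreOf 2 L
  have hQ1 : Q ≠ ⊥ := by
    intro h
    rw [h] at hcent hnle
    refine hnle ?_
    intro x _
    exact hcent (Subgroup.mem_centralizer_iff.2 fun y hy => by
      rw [SetLike.mem_coe, Subgroup.mem_bot] at hy; rw [hy, one_mul, mul_one])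
  have hLN : L ≤ Subgroup.normalizer (Q : Set G) :=
    CfsgLib.LocalEvenCharP.le_normalizer_pCoreOf 2 L
  have hsolv : Group.IsSolvable ↥L := by
    haveI := hN _ ⟨Q, hQp, hQ1, rfl⟩
    exact solvable_of_solvable_injective (Subgroup.inclusion_injective hLN)
  refine ⟨hsyl, hnle, hcent, hsolv, fun c hc => ?_⟩
  obtain ⟨S, hS⟩ := hsyl.2.1.exists_le_sylow
  have hQT : Q ≤ T := by
    obtain ⟨g, hg, hg'⟩ := exists_conj_le hsyl (CfsgLib.LocalEvenCharP.pCoreOf_le 2 L) hQp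
    have e : Q.map (MulAut.conj g).toMonoidHom = Q :=
      Subgroup.mem_normalizer_iff_map_conj_eq.1 (hLN hg)
    rwa [e] at hg'
  have hZV : Cfsg.omegaCenterOf (S : Subgroup G) ≤ vOf L := by
    refine (Subgroup.closure_le _).2 fun z hz => ?_
    have hzQ : z ∈ Q := hcent (Subgroup.centralizer_le (hQT.trans hS) hz.1.2)
    exact mem_omegaCenterOf hzQ (by rw [← pow_two]; exact hz.2) fun y hy =>
      Subgroup.mem_centralizer_iff.1 hz.1.2 y (hS (hQT hy))
  have hcS : c ∈ Subgroup.normalizer ((S : Subgroup G) : Set G) :=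
    hZ S (Subgroup.centralizer_le hZV hc.2)
  have hTeq : (S : Subgroup G) ⊓ L = T :=
    eq_of_le_sylowIn hsyl inf_le_right (S.isPGroup'.to_le inf_le_left) (le_inf hS hsyl.1)
  rw [← hTeq, Subgroup.mem_normalizer_iff]
  intro x
  exact and_congr (Subgroup.mem_normalizer_iff.1 hcS x)
    (Subgroup.mem_normalizer_iff.1 (Subgroup.le_normalizer hc.1) x)

namespace Over

variable {T L : Subgroup G} (h : Over T L)

include h

theorem isPGroup_core : IsPGroup 2 ↥(Cfsg.pCoreOf 2 L) :=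
  CfsgLib.LocalEvenCharP.isPGroup_pCoreOf 2 L

omit [Finite G] h in
theorem core_normal : L ≤ Subgroup.normalizer (Cfsg.pCoreOf 2 L : Set G) :=
  CfsgLib.LocalEvenCharP.le_normalizer_pCoreOf 2 L

theorem core_le : Cfsg.pCoreOf 2 L ≤ T := by
  obtain ⟨g, hg, hg'⟩ :=
    exists_conj_le h.syl (CfsgLib.LocalEvenCharP.pCoreOf_le 2 L) h.isPGroup_core
  have e : (Cfsg.pCoreOf 2 L).map (MulAut.conj g).toMonoidHom = Cfsg.pCoreOf 2 L :=
    Subgroup.mem_normalizer_iff_map_conj_eq.1 (core_normal (L := L) hg)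
  rwa [e] at hg'

omit [Finite G] h in
theorem core_le_cOf : Cfsg.pCoreOf 2 L ≤ cOf L := fun x hx =>
  ⟨CfsgLib.LocalEvenCharP.pCoreOf_le 2 L hx, Subgroup.mem_centralizer_iff.2 fun _ hv =>
    (omegaCenterOf_comm _ hv hx).symm⟩

omit [Finite G] h in
theorem le_normalizer_cOf : L ≤ Subgroup.normalizer (cOf L : Set G) := by
  refine Subgroup.le_normalizer_iff.2 fun g hg x hx =>
    ⟨L.mul_mem (L.mul_mem hg hx.1) (L.inv_mem hg), Subgroup.mem_centralizer_iff.2 fun v hv => ?_⟩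
  have h1 := Subgroup.mem_centralizer_iff.1 hx.2 _
    ((Subgroup.mem_normalizer_iff''.1 (le_normalizer_vOf L hg) v).1 hv)
  calc v * (g * x * g⁻¹) = g * ((g⁻¹ * v * g) * x) * g⁻¹ := by group
    _ = g * (x * (g⁻¹ * v * g)) * g⁻¹ := by rw [h1]
    _ = g * x * g⁻¹ * v := by group

theorem cOf_normalizer_J :
    cOf L ≤ Subgroup.normalizer (Cfsg.thompsonSubgroupOf 2 T : Set G) :=
  h.cnorm.trans (normalizer_le_normalizer_jOf T)

theorem J_le : Cfsg.thompsonSubgroupOf 2 T ≤ L := (jOf_le T).trans h.syl.1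

theorem J_pgroup : IsPGroup 2 ↥(Cfsg.thompsonSubgroupOf 2 T) := h.syl.2.1.to_le (jOf_le T)

/-- The 2-elements of `C_L(V)` lie in `O₂(L)`. -/
theorem two_mem_core {x : G} (hx : x ∈ cOf L) {m : ℕ} (hm : x ^ 2 ^ m = 1) :
    x ∈ Cfsg.pCoreOf 2 L := by
  have key : ∀ y ∈ cOf L, y ^ 2 ^ m = 1 → y ∈ T := fun y hy hy' =>
    mem_of_mem_normalizer h.syl hy.1 (h.cnorm hy) (fun z => ⟨m, by
      obtain ⟨i, hi⟩ := z.2
      apply Subtype.ext
      change (z : G) ^ 2 ^ m = 1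
      rw [← show y ^ i = (z : G) from hi, ← zpow_natCast, ← zpow_mul, mul_comm, zpow_mul,
        zpow_natCast, hy', one_zpow]⟩)
  set D := Subgroup.closure {y : G | y ∈ cOf L ∧ y ^ 2 ^ m = 1}
  have hDT : D ≤ T := (Subgroup.closure_le _).2 fun y hy => key y hy.1 hy.2
  refine CfsgLib.LocalEvenCharP.le_pCoreOf (hDT.trans h.syl.1) ?_ (h.syl.2.1.to_le hDT)
    (Subgroup.subset_closure (k := {y : G | y ∈ cOf L ∧ y ^ 2 ^ m = 1}) ⟨hx, hm⟩)
  refine Subgroup.le_normalizer_iff.2 fun g hg y hy => ?_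
  suffices hD : D ≤ D.comap (MulAut.conj g).toMonoidHom from hD hy
  rw [Subgroup.closure_le]
  rintro z ⟨hz, hz'⟩
  refine Subgroup.subset_closure ⟨(Subgroup.mem_normalizer_iff.1 (le_normalizer_cOf (L := L) hg) z).1 hz,
    ?_⟩
  change (g * z * g⁻¹) ^ 2 ^ m = 1
  rw [← MulAut.conj_apply, ← map_pow, hz', map_one]

theorem cOf_inf_T : cOf L ⊓ T ≤ Cfsg.pCoreOf 2 L := fun x hx => by
  obtain ⟨m, hm⟩ := h.syl.2.1 ⟨x, hx.2⟩
  exact h.two_mem_core hx.1 (m := m) (by simpa using congrArg Subtype.val hm)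

theorem comm_cOf_T {c t : G} (hc : c ∈ cOf L) (ht : t ∈ T) : ⁅c, t⁆ ∈ Cfsg.pCoreOf 2 L := by
  refine h.cOf_inf_T ⟨?_, ?_⟩
  · have e : ⁅c, t⁆ = c * (t * c⁻¹ * t⁻¹) := by rw [commutatorElement_def]; group
    rw [e]
    exact (cOf L).mul_mem hc ((Subgroup.mem_normalizer_iff.1
      (le_normalizer_cOf (L := L) (h.syl.1 ht)) c⁻¹).1 ((cOf L).inv_mem hc))
  · exact T.mul_mem ((Subgroup.mem_normalizer_iff.1 (h.cnorm hc) t).1 ht) (T.inv_mem ht)

theorem vOf_le_core : vOf L ≤ Cfsg.pCoreOf 2 L := omegaCenterOf_le _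

theorem solvable_Hbar : Group.IsSolvable ↥(Hbar L) := by
  haveI := h.solv
  exact solvable_of_surjective (act L).rangeRestrict_surjective

theorem noTwoCore : NoTwoCore (Hbar L) := by
  haveI : Fact (Nat.Prime 2) := ⟨Nat.prime_two⟩
  intro N hN hnorm hNp
  haveI := finite_mulAut (V := ↥(vOf L))
  obtain ⟨P, hP⟩ := exists_sylow_eq h.syl
  set P' := P.mapSurjective (act L).rangeRestrict_surjective with hP'
  haveI hn : (N.subgroupOf (Hbar L)).Normal :=
    (Subgroup.normal_subgroupOf_iff_le_normalizer hN).2 hnorm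
  haveI : (Subgroup.comap (Hbar L).subtype N).Normal := hn
  have hle : N.subgroupOf (Hbar L) ≤ (P' : Subgroup (Hbar L)) :=
    IsPGroup.le_sylow_of_normal (hNp.comap_of_injective _ (Hbar L).subtype_injective) P'
  -- the preimage of `N` in `T`
  set D : Subgroup G := (N.comap (act L)).map L.subtype ⊓ T with hD
  have hcomap : ∀ g : L, act L g ∈ N → ∃ t ∈ D, ∃ c ∈ cOf L, (g : G) = t * c := by
    intro g hg
    obtain ⟨t, ht, hte⟩ := hle (show (act L).rangeRestrict g ∈ N.subgroupOf (Hbar L) from hg)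
    have hte' : act L t = act L g := congrArg Subtype.val hte
    have htT : (t : G) ∈ T := by
      have h' : t ∈ (P : Subgroup L) := ht
      rw [hP] at h'
      exact h'
    refine ⟨t, ⟨⟨t, show act L t ∈ N from hte' ▸ hg, rfl⟩, htT⟩, ((t : L)⁻¹ * g : L), ?_, by simp⟩
    rw [← act_eq_one_iff, map_mul, map_inv, hte', inv_mul_cancel]
  have hDC : ∀ c ∈ cOf L, c ∈ Subgroup.normalizer (D : Set G) := by
    have key : ∀ c ∈ cOf L, ∀ t ∈ D, c * t * c⁻¹ ∈ D := by
      rintro c hc _ ⟨⟨t, ht, rfl⟩, htT⟩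
      refine ⟨⟨⟨c, hc.1⟩ * t * ⟨c, hc.1⟩⁻¹, ?_, rfl⟩, (Subgroup.mem_normalizer_iff.1 (h.cnorm hc) _).1 htT⟩
      show act L _ ∈ N
      rw [map_mul, map_mul, map_inv, (act_eq_one_iff L ⟨c, hc.1⟩).2 hc, one_mul, inv_one, mul_one]
      exact ht
    exact fun c hc => CfsgLib.Coprime.mem_normalizer_of_forall_conj (key c hc)
  have hnL : L ≤ Subgroup.normalizer (D : Set G) := by
    refine Subgroup.le_normalizer_iff.2 fun g hg x hx => ?_
    obtain ⟨⟨x', hx', hxx⟩, hxT⟩ := hx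
    have hxL : x ∈ L := hxx ▸ x'.2
    obtain ⟨m, hm⟩ := h.syl.2.1 ⟨x, hxT⟩
    have hm' : x ^ 2 ^ m = 1 := by simpa using congrArg Subtype.val hm
    set y : L := ⟨g, hg⟩ * ⟨x, hxL⟩ * ⟨g, hg⟩⁻¹ with hy
    have hyN : act L y ∈ N := by
      have e : x' = ⟨x, hxL⟩ := Subtype.ext hxx
      have hx'' : act L ⟨x, hxL⟩ ∈ N := e ▸ hx'
      rw [hy, map_mul, map_mul, map_inv]
      exact (Subgroup.mem_normalizer_iff.1 (hnorm ⟨⟨g, hg⟩, rfl⟩) _).1 hx''
    obtain ⟨t, ht, c, hc, htc⟩ := hcomap y hyN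
    have hym : (y : G) ^ 2 ^ m = 1 := by
      change (g * x * g⁻¹) ^ 2 ^ m = 1
      rw [← MulAut.conj_apply, ← map_pow, hm', map_one]
    have hyp : IsPGroup 2 (Subgroup.zpowers (y : G)) := fun z => ⟨m, by
      obtain ⟨i, hi⟩ := z.2
      apply Subtype.ext
      change (z : G) ^ 2 ^ m = 1
      rw [← show (y : G) ^ i = (z : G) from hi, ← zpow_natCast, ← zpow_mul, mul_comm, zpow_mul,
        zpow_natCast, hym, one_zpow]⟩
    have hyn : (y : G) ∈ Subgroup.normalizer (D : Set G) := by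
      rw [htc]; exact mul_mem (Subgroup.le_normalizer ht) (hDC c hc)
    set E := Subgroup.zpowers (y : G) ⊔ D with hE
    have hEp : IsPGroup 2 E := hyp.to_sup_of_normal_right' (h.syl.2.1.to_le inf_le_right)
      (Subgroup.zpowers_le.2 hyn)
    have hcE : c ∈ E := by
      have e : c = t⁻¹ * (y : G) := by rw [htc]; group
      rw [e]
      exact E.mul_mem (E.inv_mem (Subgroup.mem_sup_right ht))
        (Subgroup.mem_sup_left (Subgroup.mem_zpowers _))
    obtain ⟨l, hl⟩ := hEp ⟨c, hcE⟩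
    have hcT : c ∈ T := h.core_le (h.two_mem_core hc (m := l) (by simpa using congrArg Subtype.val hl))
    change g * x * g⁻¹ ∈ D
    rw [show g * x * g⁻¹ = (y : G) from rfl]
    exact ⟨⟨y, hyN, rfl⟩, by rw [htc]; exact T.mul_mem ht.2 hcT⟩
  have hDQ : D ≤ Cfsg.pCoreOf 2 L :=
    CfsgLib.LocalEvenCharP.le_pCoreOf (inf_le_right.trans h.syl.1) hnL (h.syl.2.1.to_le inf_le_right)
  refine (Subgroup.eq_bot_iff_forall _).2 fun a ha => ?_
  obtain ⟨g, rfl⟩ := hN ha
  obtain ⟨t, ht, c, hc, htc⟩ := hcomap g ha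
  rw [act_eq_one_iff, htc]
  exact (cOf L).mul_mem (core_le_cOf (hDQ ht)) hc

theorem vOf_le_T : vOf L ≤ T := h.vOf_le_core.trans h.core_le

/-- The kernel of the action on a subgroup `A ≤ L`. -/
theorem card_img_mul (A : Subgroup G) (hA : A ≤ L) :
    Nat.card ↥(A ⊓ cOf L) * Nat.card ↥(img L A) = Nat.card A := by
  have h' := ((act L).comp (Subgroup.inclusion hA)).ker.card_mul_index
  rw [Subgroup.index_ker] at h'
  have e1 : ((act L).comp (Subgroup.inclusion hA)).range = img L A := by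
    ext i
    constructor
    · rintro ⟨b, rfl⟩; exact ⟨Subgroup.inclusion hA b, b.2, rfl⟩
    · rintro ⟨b, hb, rfl⟩; exact ⟨⟨b, hb⟩, rfl⟩
  have e2 : ((act L).comp (Subgroup.inclusion hA)).ker.map A.subtype = A ⊓ cOf L := by
    ext b
    constructor
    · rintro ⟨b, hb, rfl⟩
      exact ⟨b.2, (act_eq_one_iff L (Subgroup.inclusion hA b)).1 hb⟩
    · rintro ⟨hb, hc⟩
      exact ⟨⟨b, hb⟩, (act_eq_one_iff L ⟨b, hA hb⟩).2 hc, rfl⟩
  rw [e1, ← Subgroup.card_map_of_injective A.subtype_injective, e2] at h'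
  exact h'

theorem offender {A : Subgroup G} (hA : IsMaxElemIn 2 T A) :
    (∃ s : Set (MulAut ↥(vOf L)), s ⊆ img L A ∧ Subgroup.closure s = img L A ∧
      ∀ a ∈ s, Good (Hbar L) a) ∧ IsMaxElemIn 2 T ((A ⊓ cOf L) ⊔ vOf L) := by
  haveI : Fact (Nat.Prime 2) := ⟨Nat.prime_two⟩
  have hAL := hA.1.trans h.syl.1
  set Z := A ⊓ cOf L with hZ
  set F := fixAll (img L A : Set (MulAut ↥(vOf L))) with hF
  have hVe : Cfsg.IsElementaryAbelian 2 (vOf L) := omegaCenterOf_elemAb _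
  have hel : Cfsg.IsElementaryAbelian 2 (Z ⊔ vOf L) :=
    elemAb_sup (elemAb_of_le hA.2.1 inf_le_left) hVe (inf_le_right.trans inf_le_right)
  have hle : Z ⊔ vOf L ≤ T := sup_le (inf_le_left.trans hA.1) h.vOf_le_T
  have h1 := hA.2.2 _ hle hel
  have h2 := CfsgLib.Coprime.card_sup_mul_card_inf (H := Z) (N := vOf L)
    ((inf_le_right.trans inf_le_right).trans (Subgroup.centralizer_le_normalizer _))
  have h3 := h.card_img_mul A hAL
  rw [← hZ] at h3
  have h4 : Nat.card ↥(vOf L ⊓ Z) ≤ Nat.card F := by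
    rw [← Subgroup.card_map_of_injective (K := F) (vOf L).subtype_injective]
    refine Subgroup.card_le_of_le fun v hv => ⟨⟨v, hv.1⟩, mem_fixAll.2 ?_, rfl⟩
    rintro _ ⟨b, hb, rfl⟩
    refine Subtype.ext ?_
    rw [act_apply]
    exact mul_inv_eq_iff_eq_mul.2 (elemAb_commute hA.2.1 hb hv.2.1)
  have hpos : 0 < Nat.card Z := Nat.card_pos
  have h5 : Nat.card Z * Nat.card ↥(vOf L) ≤ Nat.card Z * (Nat.card ↥(img L A) * Nat.card F) := by
    rw [← h2, ← mul_assoc, h3]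
    exact Nat.mul_le_mul h1 h4
  have hAe : Cfsg.IsElementaryAbelian 2 (img L A) := by
    refine ⟨isMulCommutative_of_forall ?_, ?_⟩
    · rintro _ ⟨a, ha, rfl⟩ _ ⟨b, hb, rfl⟩
      rw [← map_mul, ← map_mul]
      exact congrArg _ (Subtype.ext (elemAb_commute hA.2.1 ha hb))
    · rintro _ ⟨a, ha, rfl⟩
      rw [← map_pow, show a ^ 2 = 1 from Subtype.ext (by simpa using hA.2.1.2 _ ha), map_one]
  obtain ⟨heq, hs⟩ := ff_solvable (exp2_vOf L) h.solvable_Hbar h.noTwoCore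
    (by rintro _ ⟨b, -, rfl⟩; exact ⟨b, rfl⟩) hAe (Nat.le_of_mul_le_mul_left h5 hpos)
  refine ⟨hs, hle, hel, fun B hB hB' => (hA.2.2 B hB hB').trans ?_⟩
  rw [heq, ← mul_assoc, h3] at h2
  refine Nat.le_of_mul_le_mul_right ?_ (Nat.card_pos : 0 < Nat.card F)
  rw [← h2]
  exact Nat.mul_le_mul_left _ h4

theorem vOf_le_J : vOf L ≤ Cfsg.thompsonSubgroupOf 2 T := by
  obtain ⟨A, hA⟩ := exists_isMaxElemIn 2 T
  rw [jOf_eq]
  exact le_sup_right.trans (h.offender hA).2.le_thompson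

end Over

/-- A good transvection in the image of a largest elementary abelian subgroup of `T`. -/
def JGood (T L : Subgroup G) (a : MulAut ↥(vOf L)) : Prop :=
  Good (Hbar L) a ∧ ∃ A : Subgroup G, IsMaxElemIn 2 T A ∧ a ∈ img L A

namespace Over

variable {T L : Subgroup G} (h : Over T L)

include h

theorem img_J : img L (Cfsg.thompsonSubgroupOf 2 T) = Subgroup.closure {a | JGood T L a} := by
  refine le_antisymm ?_ ((Subgroup.closure_le _).2 ?_)
  · have hle : Cfsg.thompsonSubgroupOf 2 T ≤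
        ((Subgroup.closure {a | JGood T L a}).comap (act L)).map L.subtype := by
      rw [jOf_eq, thompson_le_iff]
      intro A hA x hx
      obtain ⟨⟨s, hs1, hs2, hs3⟩, -⟩ := h.offender hA
      refine ⟨⟨x, h.syl.1 (hA.1 hx)⟩, ?_, rfl⟩
      have hx' : act L ⟨x, h.syl.1 (hA.1 hx)⟩ ∈ img L A := ⟨_, hx, rfl⟩
      rw [← hs2] at hx'
      exact Subgroup.closure_mono (fun a ha => show JGood T L a from ⟨hs3 a ha, A, hA, hs1 ha⟩) hx'
    rintro _ ⟨g, hg, rfl⟩
    obtain ⟨g', hg', e⟩ := hle hg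
    rwa [show g' = g from Subtype.ext e] at hg'
  · rintro a ⟨-, A, hA, g, hg, rfl⟩
    exact ⟨g, show (g : G) ∈ Cfsg.thompsonSubgroupOf 2 T from jOf_eq T ▸ hA.le_thompson hg, rfl⟩

theorem exists_jgood : ∃ a, JGood T L a := by
  by_contra hcon
  push Not at hcon
  refine h.nle fun x hx => h.cOf_inf_T ⟨?_, jOf_le T hx⟩
  have h1 : act L ⟨x, h.J_le hx⟩ ∈ img L (Cfsg.thompsonSubgroupOf 2 T) := ⟨_, hx, rfl⟩
  rw [h.img_J, show {a | JGood T L a} = ∅ from Set.eq_empty_iff_forall_notMem.2 hcon,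
    Subgroup.closure_empty, Subgroup.mem_bot, act_eq_one_iff] at h1
  exact h1

theorem jgood_lineStab {b : MulAut ↥(vOf L)}
    (hb : b ∈ img L (Cfsg.thompsonSubgroupOf 2 T)) : b ∈ lineStab (Hbar L) := by
  rw [h.img_J] at hb
  exact (Subgroup.closure_le _).2 (fun a ha => good_mem_lineStab (exp2_vOf L) ha.1) hb

theorem isPGroup_img {A : Subgroup G} (hA : A ≤ T) : IsPGroup 2 ↥(img L A) :=
  ((h.syl.2.1.to_le hA).comap_of_injective L.subtype L.subtype_injective).map _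

end Over

end CfsgLib.JComp
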