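import Cfsg.Agent.Lib.LocalEven.JComp.Second

/-!
The structure of the maximal 2-local subgroups above two different components.
-/

set_option autoImplicit false

open Cfsg CfsgLib.PLocal
open scoped commutatorElement

namespace CfsgLib.JComp

variable {G : Type*} [Group G] [Finite G] {T K K' L L' : Subgroup G}

theorem exists_other_above {M : Subgroup G} (F : Frame T M) (hM : Cfsg.IsTwoLocal M)
    (hO : Cfsg.pCore 2 G = ⊥) (L : Subgroup G) : ∃ K' L', Above T K' L' ∧ L' ≠ L := by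
  obtain ⟨K₁, K₂, L₁, L₂, h₁, h₂, hne, -, -⟩ := F.exists_pair hM hO
  by_cases e : L₁ = L
  · exact ⟨K₂, L₂, h₂, fun e' => hne (e'.trans e.symm)⟩
  · exact ⟨K₁, L₁, h₁, e⟩

theorem omega_sylow_le {S T : Subgroup G} (hTS : T ≤ S) (hO : Over T L) :
    Cfsg.omegaCenterOf S ≤ Cfsg.omegaCenterOf T := by
  intro z hz
  have hzQ : z ∈ Cfsg.pCoreOf 2 L := hO.cent (Subgroup.mem_centralizer_iff.2 fun q hq =>
    omegaCenterOf_comm S hz (hTS (hO.core_le hq)))
  exact mem_omegaCenterOf (hO.core_le hzQ) (elemAb_sq (omegaCenterOf_elemAb S) hz)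
    fun y hy => omegaCenterOf_comm S hz (hTS hy)

theorem omegaCenterOf_sylow_ne_bot {S : Subgroup G} (hS : IsPGroup 2 S) (hne : S ≠ ⊥) :
    Cfsg.omegaCenterOf S ≠ ⊥ := by
  haveI : Fact (Nat.Prime 2) := ⟨Nat.prime_two⟩
  refine CfsgLib.LocalEven.omegaOne_ne_bot (hS.to_le inf_le_left) ?_
  haveI := (Subgroup.nontrivial_iff_ne_bot S).2 hne
  haveI := hS.center_nontrivial
  obtain ⟨⟨z, hz⟩, hz1⟩ := exists_ne (1 : Subgroup.center S)
  intro e
  refine hz1 (Subtype.ext (Subtype.ext ?_))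
  refine (Subgroup.eq_bot_iff_forall _).1 e _ ⟨z.2, Subgroup.mem_centralizer_iff.2 fun y hy => ?_⟩
  exact congrArg Subtype.val (Subgroup.mem_center_iff.1 hz ⟨y, hy⟩)

namespace Above

/-- The maximal 2-local subgroup above a component is `⟨K, T⟩`. -/
theorem eq_join (h : Above T K L) (h' : Above T K' L') (hne : L' ≠ L) (hT : T ≤ L) (hT' : T ≤ L') :
    L = K ⊔ T := by
  haveI : Fact (Nat.Prime 2) := ⟨Nat.prime_two⟩
  have g := h.good h' hne hT
  have g' := h'.good h hne.symm hT'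
  have b := CfsgLib.ActiveAmalgam.base_of g g' (h.join_core h' hne)
  have hO := h.over_T hT
  set P := K ⊔ T with hP
  set E := Cfsg.pCoreOf 2 P with hE
  have hPL : P ≤ L := h.join_le hT
  have hQE : Cfsg.pCoreOf 2 L ≤ E :=
    CfsgLib.LocalEvenCharP.le_pCoreOf (hO.core_le.trans le_sup_right)
      (hPL.trans (CfsgLib.LocalEvenCharP.le_normalizer_pCoreOf 2 L)) hO.isPGroup_core
  have hQ : Cfsg.pCoreOf 2 L = E := le_antisymm hQE fun e he =>
    hO.cent (Subgroup.mem_centralizer_iff.2 fun q hq => elemAb_commute b.elem₁ (hQE hq) he)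
  have hVE : vOf L ≤ E := hQ ▸ omegaCenterOf_le _
  have hEn : L ≤ Subgroup.normalizer (E : Set G) := hQ ▸ Over.core_normal
  have c₁ : Nat.card E = 2 * Nat.card (CfsgLib.ActiveAmalgam.zt T) := b.card₁
  have hW4 := h.comp.2.2.2.2.1
  obtain ⟨x₀, hx₀, hKx₀⟩ := hO.exists_line_of_component h.comp (le_sup_left.trans h.le)
  -- only one component
  have hone : ∀ x, IsJLine T L x → kOf T L x = K := by
    intro x hx
    obtain ⟨M, F, -, hLM⟩ := h.exists_frame
    have hxL : kOf T L x ≤ L := (hO.kprops hx).le_pre.trans (pre_le L x)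
    obtain ⟨-, hor⟩ := hO.pair (hO.isJComponent_kOf hx) hxL h.comp (le_sup_left.trans h.le)
    rcases hor with e | ⟨hdis, -⟩
    · exact e
    exfalso
    have hle : ∀ y, IsJLine T L y → Cfsg.wOf (kOf T L y) ≤ E := fun y hy => by
      rw [hO.wOf_kOf hy]; exact (Subgroup.map_subtype_le _).trans hVE
    have hxE := hle x hx
    have hKE : Cfsg.wOf K ≤ E := hKx₀ ▸ hle x₀ hx₀
    have h1 := CfsgLib.Coprime.card_sup_mul_card_inf (H := Cfsg.wOf (kOf T L x))
      (N := Cfsg.wOf K) (fun a ha => Subgroup.centralizer_le_normalizer _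
        (Subgroup.mem_centralizer_iff.2 fun c hc => elemAb_commute b.elem₁ (hKE hc) (hxE ha)))
    rw [inf_comm, hdis, Subgroup.card_bot, mul_one, hW4,
      (hO.isJComponent_kOf hx).2.2.2.2.1] at h1
    have h2 : Nat.card ↥(Cfsg.wOf (kOf T L x) ⊔ Cfsg.wOf K) ≤ Nat.card E :=
      Subgroup.card_le_of_le (sup_le hxE hKE)
    rw [h1, c₁] at h2
    rcases b.zcard with e | e <;> rw [e] at h2 <;> norm_num at h2
  -- `N_L(J)` is inside `T`
  set S₀ := L ⊓ Subgroup.normalizer (Cfsg.thompsonSubgroupOf 2 T : Set G) with hS₀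
  have hTS₀ : T ≤ S₀ := le_inf hT (Subgroup.le_normalizer.trans (normalizer_le_normalizer_jOf T))
  have hD : (CfsgLib.ActiveAmalgam.zt T).relIndex E = 2 := by
    have h1 := Subgroup.relIndex_mul_relIndex (⊥ : Subgroup G) _ E bot_le g.zt_le_core
    rw [Subgroup.relIndex_bot_left, Subgroup.relIndex_bot_left, c₁, mul_comm 2] at h1
    exact Nat.eq_of_mul_eq_mul_left Nat.card_pos h1
  have hp : IsPGroup 2 S₀ := by
    rintro ⟨s, hsL, hsJ⟩
    have hcen : ∀ d ∈ CfsgLib.ActiveAmalgam.zt T, s * d = d * s := fun d hd =>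
      h.centralizes h' hne hsJ (h.mem_normalizer h' hne hsJ hsL) d
        ((h.omega_eq h' hne hT).le hd)
    have hs2 : s * s ∈ E := by
      rw [← hQ]
      refine hO.cent (Subgroup.mem_centralizer_iff.2 fun e he => ?_)
      rw [hQ] at he
      have he' : s * e * s⁻¹ ∈ E := (Subgroup.mem_normalizer_iff.1 (hEn hsL) e).1 he
      by_cases hed : e ∈ CfsgLib.ActiveAmalgam.zt T
      · rw [← mul_assoc, mul_assoc s s e, hcen e hed, ← mul_assoc, hcen e hed, mul_assoc]
      have hne' : s * e * s⁻¹ ∉ CfsgLib.ActiveAmalgam.zt T := fun hh => hed (by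
        have h1 := hcen _ hh
        have h2 : s * e * s⁻¹ = e := mul_left_cancel (show s * (s * e * s⁻¹) = s * e by
          rw [h1]; group)
        rwa [h2] at hh)
      have hd : s * e * s⁻¹ * e ∈ CfsgLib.ActiveAmalgam.zt T :=
        (Subgroup.mul_mem_iff_of_index_two (H := (CfsgLib.ActiveAmalgam.zt T).subgroupOf E) hD
          (a := ⟨_, he'⟩) (b := ⟨e, he⟩)).2 (iff_of_false hne' hed)
      have hee : e * e = 1 := CfsgLib.ActiveAmalgam.elem_sq b.elem₁ he
      set d := s * e * s⁻¹ * e with hd'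
      have hde : s * e * s⁻¹ = d * e := by rw [hd', mul_assoc _ e e, hee, mul_one]
      have hd2 : d * d = 1 := CfsgLib.ActiveAmalgam.elem_sq (CfsgLib.ActiveAmalgam.zt_elemAb T) hd
      calc e * (s * s) = (d * d) * e * (s * s) := by rw [hd2, one_mul]
        _ = d * (s * e * s⁻¹) * (s * s) := by rw [hde]; group
        _ = (d * s) * e * s := by group
        _ = s * (d * e) * s := by rw [← hcen d hd]; group
        _ = s * s * e := by rw [← hde]; group
    obtain ⟨n, hn⟩ := CfsgLib.LocalEvenCharP.isPGroup_pCoreOf 2 P ⟨s * s, hs2⟩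
    refine ⟨n + 1, Subtype.ext ?_⟩
    show s ^ 2 ^ (n + 1) = 1
    rw [pow_succ, mul_comm, pow_mul, pow_two]
    simpa using congrArg Subtype.val hn
  have hS₀T : S₀ = T := eq_of_le_sylowIn hO.syl inf_le_left hp hTS₀
  refine le_antisymm (hO.le_sup_components.trans (sup_le (iSup₂_le fun x hx => ?_) ?_)) hPL
  · exact (hone x hx).le.trans le_sup_left
  · exact hS₀T.le.trans le_sup_right

end Above

end CfsgLib.JComp
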