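import Cfsg.Agent.Lib.LocalEven.JComp.Structure

/-!
2-local subgroups as members of `ℒ(T)`; straddling 2-subgroups.
-/

set_option autoImplicit false

open Cfsg CfsgLib.PLocal
open scoped commutatorElement

namespace CfsgLib.JComp

variable {G : Type*} [Group G]

theorem isJComponent_congr {T T' K : Subgroup G}
    (h : Cfsg.thompsonSubgroupOf 2 T = Cfsg.thompsonSubgroupOf 2 T')
    (hK : Cfsg.IsJComponent T K) : Cfsg.IsJComponent T' K := by
  unfold Cfsg.IsJComponent at hK ⊢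
  rwa [← h]

theorem component_le_normalizer_wOf (K : Subgroup G) :
    K ≤ Subgroup.normalizer (Cfsg.wOf K : Set G) :=
  CfsgLib.Coprime.le_normalizer_commutator_right _ K

theorem normalizer_le_normalizer_wOf (K : Subgroup G) :
    Subgroup.normalizer (K : Set G) ≤ Subgroup.normalizer (Cfsg.wOf K : Set G) := by
  intro g hg
  have hcore : g ∈ Subgroup.normalizer (Cfsg.pCoreOf 2 K : Set G) :=
    CfsgLib.Structure.normalizer_le_normalizer_map_subtype K (Cfsg.pCore 2 K)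
      (hK := CfsgLib.Fitting.pCore_characteristic 2) hg
  rw [Subgroup.mem_normalizer_iff_map_conj_eq, Cfsg.wOf, Subgroup.map_commutator,
    Subgroup.mem_normalizer_iff_map_conj_eq.1 (normalizer_le_normalizer_omegaCenterOf _ hcore),
    Subgroup.mem_normalizer_iff_map_conj_eq.1 hg]

theorem isTwoLocal_normalizer_wOf {T K : Subgroup G} (hK : Cfsg.IsJComponent T K) :
    Cfsg.IsTwoLocal (Subgroup.normalizer (Cfsg.wOf K : Set G)) := by
  obtain ⟨-, -, -, -, hcard, -⟩ := hK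
  refine ⟨Cfsg.wOf K, IsPGroup.of_card (n := 2) (by rw [hcard]; norm_num), fun h => ?_, rfl⟩
  rw [h, Subgroup.card_bot] at hcard
  norm_num at hcard

variable [Finite G]

theorem exists_sylowIn_ge {P N : Subgroup G} (hPN : P ≤ N) (hP : IsPGroup 2 P) :
    ∃ T, Cfsg.IsSylowTwoIn T N ∧ P ≤ T := by
  haveI : Fact (Nat.Prime 2) := ⟨Nat.prime_two⟩
  obtain ⟨S, hS⟩ := (hP.comap_of_injective N.subtype N.subtype_injective).exists_le_sylow
  refine ⟨(S : Subgroup N).map N.subtype, ⟨Subgroup.map_subtype_le _, S.isPGroup'.map _, ?_⟩,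
    fun x hx => ⟨⟨x, hPN hx⟩, hS hx, rfl⟩⟩
  have e : ((S : Subgroup N).map N.subtype).subgroupOf N = (S : Subgroup N) :=
    Subgroup.comap_map_eq_self_of_injective N.subtype_injective _
  rw [Subgroup.relIndex, e, ← Nat.not_even_iff_odd, even_iff_two_dvd]
  exact S.not_dvd_index

/-- In a group of characteristic 2 type, 2-local subgroups contain the centralizer of their core. -/
theorem centralizer_core_le (hL : Cfsg.IsCharacteristicTwoType G) {N : Subgroup G}
    (hN : Cfsg.IsTwoLocal N) :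
    Subgroup.centralizer (Cfsg.pCoreOf 2 N : Set G) ≤ Cfsg.pCoreOf 2 N := by
  obtain ⟨W, hW, hW1, rfl⟩ := hN
  have hWle : W ≤ Cfsg.pCoreOf 2 (Subgroup.normalizer (W : Set G)) :=
    CfsgLib.LocalEvenCharP.le_pCoreOf Subgroup.le_normalizer le_rfl hW
  refine fun x hx => (CfsgLib.LocalEven.charP_iff_ambient _).1 (hL.2 W hW hW1) ⟨?_, hx⟩
  exact Subgroup.centralizer_le_normalizer _ (Subgroup.centralizer_le hWle hx)

/-- A component is not contained in the normalizer of `J(T)`. -/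
theorem component_not_le {T K : Subgroup G} (hT : IsPGroup 2 T) (hK : Cfsg.IsJComponent T K) :
    ¬ K ≤ Subgroup.normalizer (Cfsg.thompsonSubgroupOf 2 T : Set G) := by
  haveI : Fact (Nat.Prime 2) := ⟨Nat.prime_two⟩
  intro hle
  obtain ⟨hgen, hKJ, hidx, -⟩ := hK
  have h1 : K ≤ Cfsg.thompsonSubgroupOf 2 T := by
    conv_lhs => rw [← hKJ]
    rw [Subgroup.commutator_comm]
    exact CfsgLib.Coprime.commutator_le_of_normalizes hle
  have h2 : oddClosure K ≤ ⊥ := (Subgroup.closure_le _).2 fun g hg =>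
    CfsgLib.LocalEvenCharP.eq_one_of_coprime_of_mem (hT.to_le (jOf_le T)) (h1 hg.1)
      hg.2.coprime_two_right
  rw [oddClosure_eq_of_closure hgen, le_bot_iff] at h2
  rw [h2, Subgroup.relIndex_bot_right] at hidx
  norm_num at hidx

/-- A 2-local subgroup with Sylow subgroup `T` not normalizing `J(T)` is in `ℒ(T)`. -/
theorem mem_jOvergroups (hL : Cfsg.IsCharacteristicTwoType G) {N T : Subgroup G}
    (hN : Cfsg.IsTwoLocal N) (hT : Cfsg.IsSylowTwoIn T N)
    (hne : ¬ N ≤ Subgroup.normalizer (Cfsg.thompsonSubgroupOf 2 T : Set G)) :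
    N ∈ Cfsg.jOvergroups T := by
  refine ⟨hT, fun hle => hne ?_, centralizer_core_le hL hN⟩
  rw [← jOf_eq_of_le hT (CfsgLib.LocalEvenCharP.pCoreOf_le 2 N)
    (CfsgLib.LocalEvenCharP.isPGroup_pCoreOf 2 N) hle]
  exact (CfsgLib.LocalEvenCharP.le_normalizer_pCoreOf 2 N).trans (normalizer_le_normalizer_jOf _)

theorem jOf_jOf (T : Subgroup G) :
    Cfsg.thompsonSubgroupOf 2 (Cfsg.thompsonSubgroupOf 2 T) = Cfsg.thompsonSubgroupOf 2 T := by
  rw [jOf_eq, jOf_eq]; exact thompson_eq_of_le (thompson_le 2 T) le_rfl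

theorem sylow_le_of_normalizer_jOf_le {M : Subgroup G} {S : Sylow 2 G}
    (hMJ : Subgroup.normalizer (Cfsg.thompsonSubgroupOf 2 (S : Subgroup G) : Set G) ≤ M) :
    (S : Subgroup G) ≤ M :=
  (Subgroup.le_normalizer.trans (normalizer_le_normalizer_jOf _)).trans hMJ

/-- For a maximal straddling `T`, the normalizer of `J(T)` lies in `M`. -/
theorem normalizer_jOf_le_of_max {M : Subgroup G} {S : Sylow 2 G}
    (hMJ : Subgroup.normalizer (Cfsg.thompsonSubgroupOf 2 (S : Subgroup G) : Set G) ≤ M)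
    {T : Subgroup G} (hT : T ∈ Cfsg.maxStraddlingTwoSubgroups M) :
    Subgroup.normalizer (Cfsg.thompsonSubgroupOf 2 T : Set G) ≤ M := by
  haveI : Fact (Nat.Prime 2) := ⟨Nat.prime_two⟩
  obtain ⟨⟨hTp, hT1, hTM, -⟩, hmax⟩ := hT
  have hSM := sylow_le_of_normalizer_jOf_le hMJ
  have hsyl : Cfsg.IsSylowTwoIn (S : Subgroup G) M := by
    refine ⟨hSM, S.isPGroup', ?_⟩
    rw [← Nat.not_even_iff_odd, even_iff_two_dvd]
    exact fun h => S.not_dvd_index (h.trans (Subgroup.relIndex_dvd_index_of_le hSM))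
  obtain ⟨m, hm, hmT⟩ := exists_conj_le hsyl hTM hTp
  by_contra hcon
  by_cases heq : T.map (MulAut.conj m).toMonoidHom = (S : Subgroup G)
  · refine hcon fun g hg => ?_
    have h1 : m * g * m⁻¹ ∈
        Subgroup.normalizer (Cfsg.thompsonSubgroupOf 2 (S : Subgroup G) : Set G) := by
      rw [← heq, jOf_conj]
      exact Subgroup.le_normalizer_map _ ⟨g, hg, rfl⟩
    have := M.mul_mem (M.mul_mem (M.inv_mem hm) (hMJ h1)) hm
    simpa [mul_assoc] using this
  · obtain ⟨y, hy, hy', hyn⟩ :=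
      CfsgLib.LocalEvenCharP.exists_mem_normalizer_not_mem S.isPGroup' hmT heq
    set z := m⁻¹ * y * m with hz
    have hzn : z ∈ Subgroup.normalizer (T : Set G) := by
      rw [Subgroup.mem_normalizer_iff]
      intro t
      have h1 : ∀ s : G, s ∈ T ↔ m * s * m⁻¹ ∈ T.map (MulAut.conj m).toMonoidHom := fun s =>
        (Subgroup.mem_map_iff_mem (f := (MulAut.conj m).toMonoidHom)
          (MulAut.conj m).injective).symm
      rw [h1 t, h1 (z * t * z⁻¹), Subgroup.mem_normalizer_iff.1 hyn (m * t * m⁻¹), hz]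
      simp [mul_assoc]
    obtain ⟨k, hk⟩ := S.isPGroup' ⟨y, hy⟩
    have hzk : z ^ 2 ^ k = 1 := by
      have e : z = MulAut.conj m⁻¹ y := by simp [hz]
      rw [e, ← map_pow, show y ^ 2 ^ k = 1 by simpa using congrArg Subtype.val hk, map_one]
    have hzp : IsPGroup 2 (Subgroup.zpowers z) := fun u => ⟨k, by
      obtain ⟨i, hi⟩ := u.2
      apply Subtype.ext
      change (u : G) ^ 2 ^ k = 1
      rw [← show z ^ i = (u : G) from hi, ← zpow_natCast, ← zpow_mul, mul_comm, zpow_mul,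
        zpow_natCast, hzk, one_zpow]⟩
    set T' := Subgroup.zpowers z ⊔ T with hT'
    have hT'p : IsPGroup 2 T' := hzp.to_sup_of_normal_right' hTp (Subgroup.zpowers_le.2 hzn)
    have hzM : z ∈ M := M.mul_mem (M.mul_mem (M.inv_mem hm) (hSM hy)) hm
    have hTT' : T ≤ T' := le_sup_right
    have hlt : Nat.card T < Nat.card T' := by
      refine lt_of_le_of_ne (Subgroup.card_le_of_le hTT') fun h => hy' ?_
      have hzT : z ∈ T := (Subgroup.eq_of_le_of_card_ge hTT' h.ge).symm.le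
        (Subgroup.mem_sup_left (Subgroup.mem_zpowers z))
      exact ⟨z, hzT, by simp [hz, mul_assoc]⟩
    have hstr : T' ∈ Cfsg.straddlingTwoSubgroups M :=
      ⟨hT'p, fun h => hT1 (le_bot_iff.1 (hTT'.trans h.le)),
        sup_le (Subgroup.zpowers_le.2 hzM) hTM, _,
        ⟨_, hTp.to_le (jOf_le T), jOf_ne_bot hTp hT1, rfl⟩,
        sup_le (Subgroup.zpowers_le.2 (normalizer_le_normalizer_jOf T hzn))
          (Subgroup.le_normalizer.trans (normalizer_le_normalizer_jOf T)), hcon⟩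
    obtain ⟨h1, h2⟩ := hmax T' hstr
    have ha : Cfsg.maxElemAbelianOrder T' = Cfsg.maxElemAbelianOrder T :=
      le_antisymm h1 (maxElemAbelianOrder_mono hTT')
    obtain ⟨h3, h4⟩ := h2 ha
    have hJ := Subgroup.card_le_of_le (jOf_mono hTT' ha.le)
    exact absurd (h4 (le_antisymm h3 hJ)) hlt.not_ge

/-- A 2-local subgroup not in `M` containing `J(T)`: its Sylow subgroups above `J(T)` have the
same Thompson subgroup, are straddling, and put it in `ℒ`. -/
theorem straddling_local (hL : Cfsg.IsCharacteristicTwoType G) {M : Subgroup G} {S : Sylow 2 G}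
    (hMJ : Subgroup.normalizer (Cfsg.thompsonSubgroupOf 2 (S : Subgroup G) : Set G) ≤ M)
    {T : Subgroup G} (hT : T ∈ Cfsg.maxStraddlingTwoSubgroups M)
    {L : Subgroup G} (hL2 : Cfsg.IsTwoLocal L) (hLM : ¬ L ≤ M) {T₀ : Subgroup G}
    (hT₀ : Cfsg.IsSylowTwoIn T₀ L) (hJT₀ : Cfsg.thompsonSubgroupOf 2 T ≤ T₀) :
    Cfsg.thompsonSubgroupOf 2 T = Cfsg.thompsonSubgroupOf 2 T₀ ∧
      T₀ ∈ Cfsg.straddlingTwoSubgroups M ∧ L ∈ Cfsg.jOvergroups T₀ := by
  haveI : Fact (Nat.Prime 2) := ⟨Nat.prime_two⟩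
  have hNM := normalizer_jOf_le_of_max hMJ hT
  obtain ⟨⟨hTp, hT1, -, -⟩, hmax⟩ := hT
  set J := Cfsg.thompsonSubgroupOf 2 T with hJ
  have hJ1 : J ≠ ⊥ := jOf_ne_bot hTp hT1
  set T₁ := T₀ ⊓ Subgroup.normalizer (J : Set G) with hT₁
  have hJT₁ : J ≤ T₁ := le_inf hJT₀ Subgroup.le_normalizer
  have hT₁str : T₁ ∈ Cfsg.straddlingTwoSubgroups M :=
    ⟨hT₀.2.1.to_le inf_le_left, fun h => hJ1 (le_bot_iff.1 (hJT₁.trans h.le)),
      inf_le_right.trans hNM, L, hL2, inf_le_left.trans hT₀.1, hLM⟩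
  obtain ⟨h1, h2⟩ := hmax T₁ hT₁str
  have ha : Cfsg.maxElemAbelianOrder T₁ = Cfsg.maxElemAbelianOrder T := by
    refine le_antisymm h1 ?_
    rw [← maxElemAbelianOrder_jOf T]
    exact maxElemAbelianOrder_mono hJT₁
  have hle : J ≤ Cfsg.thompsonSubgroupOf 2 T₁ := by
    have := jOf_mono hJT₁ (by rw [hJ, maxElemAbelianOrder_jOf, ha])
    rwa [hJ, jOf_jOf] at this
  have hJ₁ : Cfsg.thompsonSubgroupOf 2 T₁ = J :=
    (Subgroup.eq_of_le_of_card_ge hle (h2 ha).1).symm
  have hT₁₀ : T₁ = T₀ := by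
    by_contra hne
    obtain ⟨y, hy, hy', hyn⟩ :=
      CfsgLib.LocalEvenCharP.exists_mem_normalizer_not_mem hT₀.2.1
        (inf_le_left : T₁ ≤ T₀) hne
    exact hy' ⟨hy, hJ₁ ▸ normalizer_le_normalizer_jOf T₁ hyn⟩
  rw [hT₁₀] at hT₁str hJ₁
  refine ⟨hJ₁.symm, hT₁str, mem_jOvergroups hL hL2 hT₀ fun hle' => hLM ?_⟩
  rw [hJ₁] at hle'
  exact hle'.trans hNM

end CfsgLib.JComp
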