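import Cfsg.Agent.Lib.LocalEven.JComp.Amalgam
import Cfsg.Agent.Lib.LocalEven.ActiveAmalgam.Base
import Cfsg.Agent.Lib.StrongEmbedding.Swap
import Cfsg.Agent.S2947
import Cfsg.Agent.S2949

/-!
A maximal straddling `T` has two components with different maximal 2-local subgroups above them.
-/

set_option autoImplicit false

open Cfsg CfsgLib.PLocal
open scoped commutatorElement

namespace CfsgLib.JComp

variable {G : Type*} [Group G] [Finite G] {T K K' L L' : Subgroup G}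

theorem exists_maxStraddling {M : Subgroup G} (h : (Cfsg.straddlingTwoSubgroups M).Nonempty) :
    ∃ T, T ∈ Cfsg.maxStraddlingTwoSubgroups M := by
  obtain ⟨A, hA, hAm⟩ := Set.exists_max_image _ Cfsg.maxElemAbelianOrder (Set.toFinite _) h
  obtain ⟨B, hB, hBm⟩ := Set.exists_max_image
    {B ∈ Cfsg.straddlingTwoSubgroups M |
      Cfsg.maxElemAbelianOrder B = Cfsg.maxElemAbelianOrder A}
    (fun B => Nat.card ↥(Cfsg.thompsonSubgroupOf 2 B)) (Set.toFinite _) ⟨A, hA, rfl⟩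
  obtain ⟨C, ⟨hC, hCa, hCj⟩, hCm⟩ := Set.exists_max_image
    {C ∈ Cfsg.straddlingTwoSubgroups M |
      Cfsg.maxElemAbelianOrder C = Cfsg.maxElemAbelianOrder A ∧
      Nat.card ↥(Cfsg.thompsonSubgroupOf 2 C) = Nat.card ↥(Cfsg.thompsonSubgroupOf 2 B)}
    (fun C => Nat.card ↥C) (Set.toFinite _) ⟨B, hB.1, hB.2, rfl⟩
  refine ⟨C, hC, fun R hR => ⟨(hAm R hR).trans hCa.ge, fun e => ?_⟩⟩
  exact ⟨(hBm R ⟨hR, e.trans hCa⟩).trans hCj.ge,
    fun e' => hCm R ⟨hR, e.trans hCa, e'.trans hCj⟩⟩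

theorem maxStraddling_conj {M T : Subgroup G} (hT : T ∈ Cfsg.maxStraddlingTwoSubgroups M) {m : G}
    (hm : m ∈ M) : T.map (MulAut.conj m).toMonoidHom ∈ Cfsg.maxStraddlingTwoSubgroups M := by
  obtain ⟨⟨hp, h1, hle, R, hR, hTR, hRM⟩, hmax⟩ := hT
  have hM : ∀ x ∈ M, M.map (MulAut.conj x).toMonoidHom = M := fun x hx =>
    CfsgLib.LocalEven.map_conj_eq_self (Subgroup.le_normalizer hx)
  refine ⟨⟨hp.map _, fun e => h1 ((Subgroup.map_eq_bot_iff_of_injective T
      (MulAut.conj m).injective).1 e), (Subgroup.map_mono hle).trans (hM m hm).le,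
    _, isTwoLocal_conj hR m, Subgroup.map_mono hTR,
    fun h => hRM ((map_conj_le_iff.1 h).trans (hM _ (M.inv_mem hm)).le)⟩, fun T₁ hT₁ => ?_⟩
  rw [maxElemAbelianOrder_conj, jOf_conj, Subgroup.card_map_of_injective (MulAut.conj m).injective,
    Subgroup.card_map_of_injective (MulAut.conj m).injective]
  exact hmax T₁ hT₁

theorem omega_le_omega_jOf (T : Subgroup G) :
    Cfsg.omegaCenterOf T ≤ Cfsg.omegaCenterOf (Cfsg.thompsonSubgroupOf 2 T) := by
  intro z hz
  have hz2 := elemAb_sq (omegaCenterOf_elemAb T) hz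
  refine mem_omegaCenterOf ?_ hz2 fun y hy => omegaCenterOf_comm T hz (jOf_le T hy)
  obtain ⟨A, hA⟩ := exists_isMaxElemIn 2 T
  rw [jOf_eq]
  exact hA.le_thompson (hA.mem_of_centralizes (omegaCenterOf_le T hz) (by rw [pow_two]; exact hz2)
    fun a ha => omegaCenterOf_comm T hz (hA.1 ha))

/-- A member of `ℒ` is not strongly embedded. -/
theorem Over.not_stronglyEmbedded (h : Over T L) : ¬ Cfsg.IsStronglyEmbedded L := by
  intro hse
  obtain ⟨v, hv, hv1⟩ : ∃ v ∈ vOf L, v ≠ 1 := by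
    by_contra hcon
    push Not at hcon
    refine h.nle fun x hx => h.cOf_inf_T ⟨⟨h.J_le hx, Subgroup.mem_centralizer_iff.2 fun u hu => ?_⟩,
      jOf_le T hx⟩
    rw [hcon u hu, one_mul, mul_one]
  have hfus := (CfsgLib.Involutions.isStronglyEmbedded_iff_fusion hse.1 hse.2.1).1 hse
  have hvo : orderOf v = 2 := orderOf_eq_prime (hp := ⟨Nat.prime_two⟩)
    (by rw [pow_two]; exact elemAb_sq (omegaCenterOf_elemAb _) hv) hv1
  refine h.nle ?_
  rw [jOf_eq, thompson_le_iff]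
  intro A hA x hx
  by_cases hx1 : x = 1
  · rw [hx1]; exact one_mem _
  have hxL : x ∈ L := h.syl.1 (hA.1 hx)
  have hxo : orderOf x = 2 := orderOf_eq_prime (hp := ⟨Nat.prime_two⟩) (hA.2.1.2 x hx) hx1
  obtain ⟨g, hg, rfl⟩ := hfus.2 v (h.syl.1 (h.vOf_le_T hv)) x hxL hvo hxo
    (CfsgLib.StrongEmbedding.isConj_involutions hse hvo hxo)
  exact h.vOf_le_core ((Subgroup.mem_normalizer_iff.1 (le_normalizer_vOf L hg) v).1 hv)

namespace Above

/-- `⟨K, T⟩` satisfies the hypotheses of the amalgam theorem. -/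
theorem good (h : Above T K L) (h' : Above T K' L') (hne : L' ≠ L) (hT : T ≤ L) :
    CfsgLib.ActiveAmalgam.Good (K ⊔ T) T := by
  haveI : Fact (Nat.Prime 2) := ⟨Nat.prime_two⟩
  obtain ⟨hcent, hsyl, h6, -⟩ := h.join_props hT (h.T_le_normalizer h' hne hT)
  obtain ⟨M, F, -, -⟩ := h.exists_frame
  set P := K ⊔ T with hP
  set R := Cfsg.pCoreOf 2 P with hR
  have hRT : R ≤ T := by
    have h1 := eq_of_le_sylowIn hsyl (sup_le le_sup_right (CfsgLib.LocalEvenCharP.pCoreOf_le 2 P))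
      (F.pgroup.to_sup_of_normal_right' (CfsgLib.LocalEvenCharP.isPGroup_pCoreOf 2 P)
        (hsyl.1.trans (CfsgLib.LocalEvenCharP.le_normalizer_pCoreOf 2 P))) le_sup_left
    exact le_sup_right.trans h1.le
  have hmul := Subgroup.relIndex_mul_relIndex R T P hRT hsyl.1
  rw [h6] at hmul
  obtain ⟨n, hn⟩ := IsPGroup.iff_card.1 F.pgroup
  have hd : R.relIndex T ∣ 2 ^ n := hn ▸ Subgroup.relIndex_dvd_card _ _
  have hd2 : R.relIndex T ∣ 2 := by
    refine ((Nat.Coprime.pow_left n (show Nat.Coprime 2 3 by norm_num)).coprime_dvd_left hd).dvd_of_dvd_mul_right ?_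
    exact Dvd.intro _ hmul
  have hodd := hsyl.2.2
  obtain ⟨hRi, hTi⟩ : R.relIndex T = 2 ∧ T.relIndex P = 3 := by
    rcases (Nat.dvd_prime Nat.prime_two).1 hd2 with e | e <;> rw [e] at hmul
    · obtain ⟨m, hm⟩ := hodd; omega
    · exact ⟨e, by omega⟩
  refine ⟨inferInstance, hsyl.1, F.pgroup, hTi, hRi, inf_le_right.trans hcent, fun hle => ?_⟩
  obtain ⟨h2, -, -, -⟩ := F.split h.comp
  obtain ⟨z, hz, hz1⟩ : ∃ z ∈ Cfsg.omegaCenterOf (Cfsg.thompsonSubgroupOf 2 T) ⊓ Cfsg.wOf K,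
      z ≠ 1 := by
    by_contra hcon
    push Not at hcon
    rw [(Subgroup.eq_bot_iff_forall _).2 hcon, Subgroup.card_bot] at h2
    norm_num at h2
  obtain ⟨k, hd⟩ := exists_fourData h.comp.1 h.comp.2.2.1
  have hzT : z ∈ Cfsg.omegaCenterOf T := (h.omega_eq h' hne hT).ge hz.1
  have hc := Subgroup.mem_centralizer_iff.1 (hle (Subgroup.mem_sup_left hd.mem)) z hzT
  exact hz1 (hd.fpf z hz.2 (by rw [← hc, mul_inv_cancel_right]))

/-- An element normalizing `T` outside `L` gives a second component. -/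
theorem conj_pair (h : Above T K L) (hT : T ≤ L) {g : G}
    (hg : g ∈ Subgroup.normalizer (T : Set G)) (hgL : g ∉ L) :
    Above T (K.map (MulAut.conj g).toMonoidHom) (L.map (MulAut.conj g).toMonoidHom) ∧
      L.map (MulAut.conj g).toMonoidHom ≠ L ∧ T ≤ L.map (MulAut.conj g).toMonoidHom :=
  ⟨h.conj (normalizer_le_normalizer_jOf T hg), fun e => hgL (max_self_normalizing h.max e),
    (CfsgLib.LocalEven.map_conj_eq_self hg).ge.trans (Subgroup.map_mono hT)⟩

/-- No maximal straddling subgroup for `L` is a proper subgroup of its Sylow subgroup `T`, when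
`T` is a Sylow subgroup of `G`. -/
theorem not_proper (h : Above T K L) (hT : T ≤ L) (S : Sylow 2 G) (hS : (S : Subgroup G) = T)
    (hO : Cfsg.pCore 2 G = ⊥) {T' : Subgroup G} (F' : Frame T' L) (hle : T' ≤ T) :
    T' = T := by
  by_contra hne
  haveI : Fact (Nat.Prime 2) := ⟨Nat.prime_two⟩
  obtain ⟨S', hS'⟩ := F'.sylJ
  obtain ⟨K₁, hK₁⟩ := Cfsg.Agent.S2949.result F'.zn.char F'.zn.solv F'.zn.zc hO S' L h.max.1 hS' T'
    F'.mem
  obtain ⟨L₁, h₁, hT₁⟩ := F'.outside hK₁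
  obtain ⟨M, F, -, -⟩ := h.exists_frame
  have hOv := h.over_T hT
  obtain ⟨t, htT, ht', htn⟩ := CfsgLib.LocalEvenCharP.exists_mem_normalizer_not_mem F.pgroup hle hne
  have hO₁ := h₁.over_T hT₁
  have out : ∀ v ∈ T, v ∈ Subgroup.normalizer (T' : Set G) → v ∉ T' → v ∉ L₁ :=
    fun v hv hn hv' hvL => hv' (mem_of_mem_normalizer hO₁.syl hvL hn
      (F.pgroup.to_le (Subgroup.zpowers_le.2 hv)))
  obtain ⟨h₂, hne₂, hT₂⟩ := h₁.conj_pair hT₁ htn (out t htT htn ht')
  set f := (MulAut.conj t).toMonoidHom with hf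
  have g₁ := h₁.good h₂ hne₂ hT₁
  have g₂ := h₂.good h₁ hne₂.symm hT₂
  have b := CfsgLib.ActiveAmalgam.base_of g₁ g₂ (h₁.join_core h₂ hne₂)
  set E₁ := Cfsg.pCoreOf 2 (K₁ ⊔ T') with hE₁
  set E₂ := Cfsg.pCoreOf 2 (K₁.map f ⊔ T') with hE₂
  set D := CfsgLib.ActiveAmalgam.zt T' with hD
  have c₁ : Nat.card E₁ = 2 * Nat.card D := b.card₁
  have c₂ : Nat.card E₂ = 2 * Nat.card D := b.card₂
  have zc : Nat.card D = 2 ∨ Nat.card D = 4 := b.zcard
  have hE : E₁.map f = E₂ := by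
    rw [hE₁, hf, ← pCoreOf_conj, Subgroup.map_sup, CfsgLib.LocalEven.map_conj_eq_self htn]
  have hinf : E₁ ⊓ E₂ = D := by
    refine (Subgroup.eq_of_le_of_card_ge (le_inf g₁.zt_le_core g₂.zt_le_core) ?_).symm
    have h3 : (E₁ ⊓ E₂).relIndex E₁ ≠ 1 := fun e => b.ne
      ((Subgroup.relIndex_eq_one.1 e).trans inf_le_right)
    have h4 := Subgroup.relIndex_mul_relIndex (⊥ : Subgroup G) (E₁ ⊓ E₂) E₁ bot_le inf_le_left
    rw [Subgroup.relIndex_bot_left, Subgroup.relIndex_bot_left, c₁] at h4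
    have h5 : 0 < (E₁ ⊓ E₂).relIndex E₁ := Nat.pos_of_ne_zero fun e => by
      rw [e, mul_zero] at h4
      have := (Nat.card_pos : 0 < Nat.card D)
      omega
    have h6 : 2 ≤ (E₁ ⊓ E₂).relIndex E₁ := by omega
    have := Nat.mul_le_mul_left (Nat.card ↥(E₁ ⊓ E₂)) h6
    change Nat.card ↥(E₁ ⊓ E₂) ≤ Nat.card D
    omega
  -- involutions of `T'` lie in `E₁` or `E₂`
  have hinv : ∀ u ∈ T', u * u = 1 → u ∈ E₁ ∨ u ∈ E₂ := by
    intro u hu hu2
    by_contra hcon
    push Not at hcon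
    obtain ⟨e, he, he'⟩ := SetLike.not_le_iff_exists.1 (show ¬ E₂ ≤ E₁ from fun hle' => by
      have h7 := Subgroup.eq_of_le_of_card_ge hle' (c₁.trans c₂.symm).le
      exact b.ne h7.ge)
    have heT : e ∈ T' := g₂.core_le he
    set c := e * u with hc
    have hcE : c ∈ E₁ := g₁.mul_mem heT hu he' hcon.1
    have hcE₂ : c ∉ E₂ := fun hh => hcon.2 (by
      have := E₂.mul_mem (E₂.inv_mem he) hh
      rwa [hc, inv_mul_cancel_left] at this)
    have hee : e * e = 1 := CfsgLib.ActiveAmalgam.elem_sq b.elem₂ he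
    have hue : u = e * c := by rw [hc, ← mul_assoc, hee, one_mul]
    have hec : e * c = c * e := by
      have h7 := inv_eq_of_mul_eq_one_right (hue ▸ hu2 : (e * c) * (e * c) = 1)
      rw [mul_inv_rev, inv_eq_of_mul_eq_one_right hee,
        CfsgLib.ActiveAmalgam.elem_inv b.elem₁ hcE] at h7
      exact h7.symm
    refine hcE₂ (g₂.cent ⟨g₂.le (g₁.core_le hcE), Subgroup.mem_centralizer_iff.2 fun d hd => ?_⟩)
    by_cases hd₁ : d ∈ E₁
    · exact elemAb_commute b.elem₁ hd₁ hcE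
    have h8 := elemAb_commute b.elem₁ (g₁.mul_mem heT (g₂.core_le hd) he' hd₁) hcE
    calc d * c = e * (e * d * c) := by rw [← mul_assoc e, ← mul_assoc e, hee, one_mul]
      _ = e * (c * (e * d)) := by rw [h8]
      _ = c * e * (e * d) := by rw [← mul_assoc, hec]
      _ = c * (e * e) * d := by group
      _ = c * d := by rw [hee, mul_one]
  set V := vOf L with hV
  set U := V ⊓ T' with hU
  have htL : t ∈ L := hT htT
  have hUf : U.map f = U := by
    rw [hU, Subgroup.map_inf _ _ _ (MulAut.conj t).injective,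
      CfsgLib.LocalEven.map_conj_eq_self (le_normalizer_vOf L htL),
      CfsgLib.LocalEven.map_conj_eq_self htn]
  have hUE : U ≤ E₁ ∨ U ≤ E₂ := by
    by_contra hcon
    push Not at hcon
    obtain ⟨u₁, hu₁, hu₁'⟩ := SetLike.not_le_iff_exists.1 hcon.1
    obtain ⟨u₂, hu₂, hu₂'⟩ := SetLike.not_le_iff_exists.1 hcon.2
    have hsq : ∀ u ∈ U, u * u = 1 := fun u hu => elemAb_sq (omegaCenterOf_elemAb _) hu.1
    have m₁ : u₁ ∈ E₂ := (hinv u₁ hu₁.2 (hsq _ hu₁)).resolve_left hu₁'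
    have m₂ : u₂ ∈ E₁ := (hinv u₂ hu₂.2 (hsq _ hu₂)).resolve_right hu₂'
    have hm := U.mul_mem hu₁ hu₂
    rcases hinv _ hm.2 (hsq _ hm) with e | e
    · exact hu₁' (by simpa using E₁.mul_mem e (E₁.inv_mem m₂))
    · exact hu₂' (by simpa using E₂.mul_mem (E₂.inv_mem m₁) e)
  have hUD : U ≤ D := by
    rw [← hinf]
    rcases hUE with e | e
    · exact le_inf e (hUf.ge.trans ((Subgroup.map_mono e).trans hE.le))
    · refine le_inf ?_ e
      have h9 : U.map f ≤ E₁.map f := hUf.le.trans (e.trans hE.ge)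
      exact (Subgroup.map_le_map_iff_of_injective (MulAut.conj t).injective).1 h9
  have hVT' : V ≤ T' := by
    by_contra hcon
    have hVn : T' ≤ Subgroup.normalizer (V : Set G) := (hle.trans hT).trans (le_normalizer_vOf L)
    obtain ⟨y, hy, hy', hyn⟩ := CfsgLib.LocalEvenCharP.exists_mem_normalizer_not_mem
      (F.pgroup.to_le (sup_le hle hOv.vOf_le_T)) (le_sup_left : T' ≤ T' ⊔ V)
      (fun e => hcon (le_sup_right.trans e.ge))
    have hy2 : y ∈ ((T' ⊔ V : Subgroup G) : Set G) := hy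
    rw [Subgroup.coe_mul_of_left_le_normalizer_right T' V hVn] at hy2
    obtain ⟨s, hs, v, hv, hsv⟩ := hy2
    have hsv' : s * v = y := hsv
    have hv' : v ∉ T' := fun hh => hy' (hsv' ▸ T'.mul_mem hs hh)
    have hvn : v ∈ Subgroup.normalizer (T' : Set G) := by
      have h10 := mul_mem (inv_mem (Subgroup.le_normalizer hs : s ∈ Subgroup.normalizer (T' : Set G)))
        (hsv'.symm ▸ hyn : s * v ∈ Subgroup.normalizer (T' : Set G))
      rwa [inv_mul_cancel_left] at h10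
    have hvE : v ∈ Subgroup.normalizer (E₁ : Set G) := by
      refine CfsgLib.Coprime.mem_normalizer_of_forall_conj fun e he => ?_
      have heT : e ∈ T' := g₁.core_le he
      have h11 : v * e * v⁻¹ * e⁻¹ ∈ U := by
        refine ⟨?_, T'.mul_mem ((Subgroup.mem_normalizer_iff.1 hvn e).1 heT) (T'.inv_mem heT)⟩
        rw [show v * e * v⁻¹ * e⁻¹ = v * (e * v⁻¹ * e⁻¹) by group]
        exact V.mul_mem hv ((Subgroup.mem_normalizer_iff.1 (hVn heT) _).1 (V.inv_mem hv))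
      have h12 := E₁.mul_mem (hinf.ge.trans inf_le_left (hUD h11)) he
      rwa [inv_mul_cancel_right] at h12
    have hE₁ne : E₁ ≠ ⊥ := fun e => by
      have := c₁
      rw [e, Subgroup.card_bot] at this
      omega
    refine out v (hOv.vOf_le_T hv) hvn hv' (h₁.le_of_local ⟨E₁, CfsgLib.LocalEvenCharP.isPGroup_pCoreOf 2 _, hE₁ne, rfl⟩
      ((sup_le_sup_left (jOf_le T') K₁).trans g₁.core_normal) hvE)
  have hVD : V ≤ D := fun v hv => hUD ⟨hv, hVT' hv⟩
  -- the four-group of `K`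
  set W := Cfsg.wOf K with hW
  have hWV : W ≤ V := by
    obtain ⟨x, hx, hKx⟩ := hOv.exists_line_of_component h.comp (le_sup_left.trans h.le)
    rw [hW, hKx, hOv.wOf_kOf hx]
    exact Subgroup.map_subtype_le _
  have hD4 : Nat.card D = 4 := by
    have h13 := Subgroup.card_le_of_le (hWV.trans hVD)
    rw [h.comp.2.2.2.2.1] at h13
    rcases zc with e | e
    · omega
    · exact e
  have hWD : W = D :=
    Subgroup.eq_of_le_of_card_ge (hWV.trans hVD) (by rw [hD4, h.comp.2.2.2.2.1])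
  have hWV' : V = W := le_antisymm (hVD.trans hWD.ge) hWV
  -- a central involution of `⟨K₁, T'⟩`
  have hω := h₁.omega_eq h₂ hne₂ hT₁
  obtain ⟨-, -, -, e₁⟩ := F'.split h₁.comp
  obtain ⟨c, hc, hc1⟩ : ∃ c ∈ cz T' K₁, c ≠ 1 := by
    by_contra hcon
    push Not at hcon
    rw [(Subgroup.eq_bot_iff_forall _).2 hcon, Subgroup.card_bot, ← hω] at e₁
    change Nat.card D = 2 * 1 at e₁
    omega
  have hcT : c ∈ D := hω.ge hc.1
  have hcP : ∀ x ∈ K₁ ⊔ T', x * c = c * x := by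
    intro x hx
    have hle' : K₁ ⊔ T' ≤ Subgroup.centralizer ({c} : Set G) :=
      sup_le (fun y hy => Subgroup.mem_centralizer_singleton_iff.2
          (Subgroup.mem_centralizer_iff.1 hc.2 y hy))
        fun y hy => Subgroup.mem_centralizer_singleton_iff.2
          (CfsgLib.ActiveAmalgam.zt_comm T' hcT hy)
    exact Subgroup.mem_centralizer_singleton_iff.1 (hle' hx)
  -- the central involution of `T`
  obtain ⟨h2, -, -, -⟩ := F.split h.comp
  set Z1 := Cfsg.omegaCenterOf (Cfsg.thompsonSubgroupOf 2 T) ⊓ W with hZ1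
  have hTZ1 : ∀ s ∈ T, s ∈ Subgroup.normalizer (Z1 : Set G) := fun s hs => by
    refine CfsgLib.LocalEven.mem_normalizer_of_map_conj_eq ?_
    rw [hZ1, Subgroup.map_inf _ _ _ (MulAut.conj s).injective,
      omega_conj_self (normalizer_le_normalizer_jOf T (Subgroup.le_normalizer hs)), ← hWV',
      CfsgLib.LocalEven.map_conj_eq_self (le_normalizer_vOf L (hT hs))]
  obtain ⟨z, hz, hz1⟩ : ∃ z ∈ Z1, z ≠ 1 := by
    by_contra hcon
    push Not at hcon
    rw [(Subgroup.eq_bot_iff_forall _).2 hcon, Subgroup.card_bot] at h2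
    norm_num at h2
  have hωT : Cfsg.omegaCenterOf T ≤ Z1 := by
    refine le_inf (omega_le_omega_jOf T) (hWV' ▸ fun u hu => ?_)
    have huQ : u ∈ Cfsg.pCoreOf 2 L := hOv.cent (Subgroup.mem_centralizer_iff.2 fun q hq =>
      omegaCenterOf_comm T hu (hOv.core_le hq))
    exact mem_omegaCenterOf huQ (elemAb_sq (omegaCenterOf_elemAb T) hu)
      fun q hq => omegaCenterOf_comm T hu (hOv.core_le hq)
  have hZ1z : Z1 ≤ Subgroup.zpowers z := by
    refine (Subgroup.eq_of_le_of_card_ge (Subgroup.zpowers_le.2 hz) ?_).ge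
    rw [Nat.card_zpowers, orderOf_eq_prime (hp := ⟨Nat.prime_two⟩)
      (by rw [pow_two]; exact h.comp.2.2.2.2.2 z hz.2) hz1, h2]
  -- some element of `L` moves `z` to `c`
  obtain ⟨k, hd⟩ := exists_fourData h.comp.1 h.comp.2.2.1
  obtain ⟨g, hgL, hg⟩ : ∃ g ∈ L, g * z * g⁻¹ = c := by
    have hk3 : k * k * k = 1 := by
      rw [← pow_one k, ← pow_add, ← pow_add, show 1 + 1 + 1 = orderOf k by rw [hd.ord],
        pow_orderOf_eq_one]
    have hkW : ∀ w ∈ W, k * w * k⁻¹ ∈ W := fun w hw =>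
      (Subgroup.mem_normalizer_iff.1 (hd.norm hd.mem) w).1 hw
    set z₁ := k * z * k⁻¹ with hz₁
    set z₂ := k * z₁ * k⁻¹ with hz₂
    have hzW : z ∈ W := hz.2
    have n1 : z₁ ≠ z := fun e => hz1 (hd.fpf z hzW e)
    have n2 : z₂ ≠ z₁ := fun e => n1 (mul_left_cancel (mul_right_cancel e))
    have h31 : k * z₂ * k⁻¹ = z := by
      calc k * z₂ * k⁻¹ = (k * k * k) * z * (k * k * k)⁻¹ := by rw [hz₂, hz₁]; group
        _ = z := by rw [hk3, inv_one, mul_one, one_mul]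
    have n3 : z₂ ≠ z := fun e => n1 (by rw [e] at h31; exact h31)
    have o1 : z₁ ≠ 1 := fun e => hz1 (conj_eq_one_iff.1 e)
    have o2 : z₂ ≠ 1 := fun e => o1 (conj_eq_one_iff.1 e)
    have hsub : ({1, z, z₁, z₂} : Set G) ⊆ W := by
      rintro y (rfl | rfl | rfl | rfl)
      exacts [W.one_mem, hzW, hkW _ hzW, hkW _ (hkW _ hzW)]
    have h4 : ({1, z, z₁, z₂} : Set G).ncard = 4 := by
      rw [Set.ncard_insert_of_notMem (by simp [hz1.symm, o1.symm, o2.symm]),
        Set.ncard_insert_of_notMem (by simp [n1.symm, n3.symm]), Set.ncard_pair n2.symm]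
    have heq := Set.eq_of_subset_of_ncard_le hsub
      (by rw [h4, ← Nat.card_coe_set_eq]; exact h.comp.2.2.2.2.1.le)
    have hcW : c ∈ ({1, z, z₁, z₂} : Set G) := heq ▸ (hWD.ge hcT : c ∈ W)
    have hkL : k ∈ L := (le_sup_left.trans h.le) hd.mem
    rcases hcW with e | e | e | e
    · exact absurd e hc1
    · exact ⟨1, L.one_mem, by rw [e]; simp⟩
    · exact ⟨k, hkL, e.symm⟩
    · refine ⟨k * k, L.mul_mem hkL hkL, ?_⟩
      rw [Set.mem_singleton_iff.1 e, hz₂, hz₁]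
      group
  -- so `⟨K₁, T'⟩` has a normal 2-subgroup containing `T'`
  set T₂ := T.map (MulAut.conj g).toMonoidHom with hT₂'
  have hPn : K₁ ⊔ T' ≤ Subgroup.normalizer (T₂ : Set G) := by
    intro x hx
    rw [hT₂', normalizer_conj]
    refine ⟨g⁻¹ * x * g, ?_, by simp [mul_assoc]⟩
    rw [← hS]
    refine F.zn.zc S (Subgroup.mem_centralizer_iff.2 fun u hu => ?_)
    rw [hS] at hu
    have hcomm : g⁻¹ * x * g * z = z * (g⁻¹ * x * g) := by
      have h14 := hcP x hx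
      rw [← hg] at h14
      calc g⁻¹ * x * g * z = g⁻¹ * (x * (g * z * g⁻¹)) * g := by group
        _ = g⁻¹ * (g * z * g⁻¹ * x) * g := by rw [h14]
        _ = z * (g⁻¹ * x * g) := by group
    obtain ⟨i, rfl⟩ := hZ1z (hωT hu)
    exact ((Commute.zpow_right (show Commute (g⁻¹ * x * g) z from hcomm) i).eq).symm
  have hT'T₂ : T' ≤ T₂ := by
    have hp2 : IsPGroup 2 T₂ := F.pgroup.map _
    obtain ⟨S₂, hS₂⟩ :=
      (F'.pgroup.to_sup_of_normal_right' hp2 (le_sup_right.trans hPn)).exists_le_sylow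
    have h15 : T₂ = S₂ := by
      refine Subgroup.eq_of_le_of_card_ge (le_sup_right.trans hS₂) ?_
      rw [hT₂', Subgroup.card_map_of_injective (MulAut.conj g).injective, ← hS,
        Sylow.card_eq_multiplicity, Sylow.card_eq_multiplicity]
    exact le_sup_left.trans (hS₂.trans h15.ge)
  obtain ⟨e, heT, heE⟩ := g₁.core_ne
  refine heE (CfsgLib.LocalEvenCharP.le_pCoreOf (inf_le_left : (K₁ ⊔ T') ⊓ T₂ ≤ K₁ ⊔ T') ?_
    ((F.pgroup.map _).to_le inf_le_right) ⟨le_sup_right (a := K₁) heT, hT'T₂ heT⟩)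
  intro x hx
  refine CfsgLib.LocalEven.mem_normalizer_of_map_conj_eq ?_
  rw [Subgroup.map_inf _ _ _ (MulAut.conj x).injective,
    CfsgLib.LocalEven.map_conj_eq_self (Subgroup.le_normalizer hx),
    CfsgLib.LocalEven.map_conj_eq_self (hPn hx)]

end Above

/-- There are two components with different maximal 2-local subgroups above them. -/
theorem Frame.exists_pair {M : Subgroup G} (F : Frame T M) (hM : Cfsg.IsTwoLocal M)
    (hO : Cfsg.pCore 2 G = ⊥) :
    ∃ K K' L L', Above T K L ∧ Above T K' L' ∧ L' ≠ L ∧ T ≤ L ∧ T ≤ L' := by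
  haveI : Fact (Nat.Prime 2) := ⟨Nat.prime_two⟩
  obtain ⟨S, hS⟩ := F.sylJ
  obtain ⟨K, hK⟩ := Cfsg.Agent.S2949.result F.zn.char F.zn.solv F.zn.zc hO S M hM hS T F.mem
  obtain ⟨L, h, hT⟩ := F.outside hK
  by_cases hA : Subgroup.normalizer (T : Set G) ≤ L
  swap
  · obtain ⟨g, hg, hgL⟩ := SetLike.not_le_iff_exists.1 hA
    obtain ⟨h', hne, hT'⟩ := h.conj_pair hT hg hgL
    exact ⟨_, _, _, _, h, h', hne, hT, hT'⟩
  have hOv := h.over_T hT
  obtain ⟨S₁, hS₁⟩ := F.pgroup.exists_le_sylow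
  have hTS : (S₁ : Subgroup G) = T := by
    by_contra hne
    obtain ⟨y, hy, hy', hyn⟩ := CfsgLib.LocalEvenCharP.exists_mem_normalizer_not_mem S₁.isPGroup'
      hS₁ (Ne.symm hne)
    exact hy' (mem_of_mem_normalizer hOv.syl (hA hyn) hyn
      (S₁.isPGroup'.to_le (Subgroup.zpowers_le.2 hy)))
  have hB : Subgroup.normalizer (Cfsg.thompsonSubgroupOf 2 T : Set G) ≤ L := by
    intro m hm
    by_contra hmL
    have h' := h.conj hm
    have hne : L.map (MulAut.conj m).toMonoidHom ≠ L := fun e => hmL (max_self_normalizing h.max e)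
    have hω := h.omega_eq h' hne hT
    have hle : T.map (MulAut.conj m).toMonoidHom ≤ Subgroup.normalizer (T : Set G) := by
      rintro _ ⟨s, hs, rfl⟩
      rw [← hTS]
      refine F.zn.zc S₁ (Subgroup.mem_centralizer_iff.2 fun u hu => ?_)
      rw [hTS, hω, ← omega_conj_self hm] at hu
      obtain ⟨u', hu', rfl⟩ := hu
      rw [← map_mul, ← map_mul]
      exact congrArg _ (h.centralizes h' hne
        (normalizer_le_normalizer_jOf T (Subgroup.le_normalizer hs))
        (h.T_le_normalizer h' hne hT hs) u' hu').symm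
    have h1 : T.map (MulAut.conj m).toMonoidHom ⊔ T = T := by
      refine le_antisymm ?_ le_sup_right
      exact (S₁.is_maximal' ((F.pgroup.map _).to_sup_of_normal_right' F.pgroup hle)
        (hTS.le.trans le_sup_right)).trans hTS |>.le
    refine hmL (hA (CfsgLib.LocalEven.mem_normalizer_of_map_conj_eq ?_))
    exact Subgroup.eq_of_le_of_card_ge (le_sup_left.trans h1.le)
      (Subgroup.card_map_of_injective (MulAut.conj m).injective).ge
  rw [← hTS] at hB
  by_cases he : Cfsg.straddlingTwoSubgroups L = ∅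
  · exact absurd ((Cfsg.Agent.S2947.result F.zn.char F.zn.solv F.zn.zc hO S₁ L h.max.1 hB).2 he)
      hOv.not_stronglyEmbedded
  obtain ⟨T₁, hT₁⟩ := exists_maxStraddling (Set.nonempty_iff_ne_empty.2 he)
  obtain ⟨l, hl, hlT⟩ := exists_conj_le hOv.syl hT₁.1.2.2.1 hT₁.1.1
  have F' : Frame (T₁.map (MulAut.conj l).toMonoidHom) L :=
    ⟨F.zn, maxStraddling_conj hT₁ hl, S₁, hB⟩
  have heq := h.not_proper hT S₁ hTS hO F' hlT
  rw [heq] at F'
  obtain ⟨K', hK'⟩ := Cfsg.Agent.S2949.result F.zn.char F.zn.solv F.zn.zc hO S₁ L h.max.1 hB T F'.mem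
  obtain ⟨L', h', hT'⟩ := F'.outside hK'
  exact ⟨K, K', L, L', h, h', fun e => hK'.2.1 (e ▸ le_sup_left.trans h'.le), hT, hT'⟩

end CfsgLib.JComp
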