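import Cfsg.Agent.Lib.LocalEven.JComp.Components
import Cfsg.Agent.Lib.LocalEven.SylowIn
import Cfsg.Agent.Lib.Structure.NilpotentSubnormal

/-!
Consequences: subnormality, normalizers and generation.
-/

set_option autoImplicit false

open Cfsg CfsgLib.PLocal
open scoped commutatorElement

namespace CfsgLib.JComp

variable {G : Type*} [Group G] [Finite G]

namespace Over

variable {T L : Subgroup G} (h : Over T L)

include h

theorem kOf_subnormal {x : MulAut ↥(vOf L)} (hx : IsJLine T L x) :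
    ((kOf T L x).subgroupOf L).IsSubnormal := by
  haveI := finite_mulAut (V := ↥(vOf L))
  have hp := h.kprops hx
  have h1 : ((Subgroup.zpowers x).subgroupOf (Hbar L)).IsSubnormal := by
    haveI := CfsgLib.Fitting.fitting_normal (G := Hbar L)
    refine CfsgLib.Structure.isSubnormal_of_le_fittingSubgroup ?_
    rintro ⟨g, hg⟩ hgx
    obtain ⟨y, hy, hye⟩ := (Subgroup.zpowers_le.2 hx.1 : _ ≤ fit (Hbar L)) hgx
    rwa [show (⟨g, hg⟩ : Hbar L) = y from Subtype.ext hye.symm]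
  have h2 : ((pre L x).subgroupOf L).IsSubnormal := by
    have e : (pre L x).subgroupOf L =
        ((Subgroup.zpowers x).subgroupOf (Hbar L)).comap (act L).rangeRestrict := by
      ext g
      simp only [Subgroup.mem_subgroupOf, Subgroup.mem_comap]
      constructor
      · intro hg; obtain ⟨_, hg'⟩ := mem_pre.1 hg; exact hg'
      · intro hg; exact mem_pre.2 ⟨g.2, hg⟩
    rw [e]
    exact h1.comap _
  refine Subgroup.IsSubnormal.trans (K := (pre L x).subgroupOf L) (fun g hg => hp.le_pre hg) ?_ h2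
  refine Subgroup.Normal.isSubnormal ((Subgroup.normal_subgroupOf_iff_le_normalizer
    (H := (kOf T L x).subgroupOf L) (K := (pre L x).subgroupOf L)
    fun g hg => hp.le_pre hg).2 fun g hg => ?_)
  rw [Subgroup.mem_normalizer_iff]
  exact fun y => Subgroup.mem_normalizer_iff.1 (hp.pre_norm hg) (y : G)

theorem pre_le_kOf_sup {x : MulAut ↥(vOf L)} (hx : IsJLine T L x) :
    pre L x ≤ kOf T L x ⊔ cOf L := by
  intro g hg
  obtain ⟨hgL, hg'⟩ := mem_pre.1 hg
  obtain ⟨k, hk, hke⟩ := (h.kprops hx).img_eq.ge hg'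
  have hc : (k : G)⁻¹ * g ∈ cOf L := (act_eq_one_iff L (k⁻¹ * ⟨g, hgL⟩)).1 (by
    rw [map_mul, map_inv, hke, inv_mul_cancel])
  have := Subgroup.mul_mem_sup (show (k : G) ∈ kOf T L x from hk) hc
  rwa [mul_inv_cancel_left] at this

/-- An element of `L` moving a nontrivial element of the four-group of a line into it fixes the
line. -/
theorem fixes_of_meet {x : MulAut ↥(vOf L)} (hx : IsJLine T L x) {g z : G} (hg : g ∈ L)
    (hz : z ∈ (mv x).map (vOf L).subtype) (hz1 : z ≠ 1)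
    (hgz : g * z * g⁻¹ ∈ (mv x).map (vOf L).subtype) :
    act L ⟨g, hg⟩ * x * (act L ⟨g, hg⟩)⁻¹ = x ∨ act L ⟨g, hg⟩ * x * (act L ⟨g, hg⟩)⁻¹ = x⁻¹ := by
  have hV := exp2_vOf L
  set γ := act L ⟨g, hg⟩ with hγ
  have hy : γ * x * γ⁻¹ ∈ fit (Hbar L) := conj_mem_fit ⟨_, rfl⟩ hx.1
  have hly : IsLine (γ * x * γ⁻¹) := hx.2.1.conj γ
  have hc := lines_comm hV hy hx.1 hly hx.2.1
  have heq : mv x = mv (γ * x * γ⁻¹) := by
    by_contra hne
    obtain ⟨z', hz', rfl⟩ := hz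
    obtain ⟨w, hw, hwe⟩ := hgz
    have hw' : w = γ z' := Subtype.ext hwe
    have h1 : w ∈ mv x ⊓ mv (γ * x * γ⁻¹) := ⟨hw, by rw [mv_conj, hw']; exact ⟨z', hz', rfl⟩⟩
    rw [mv_inf_mv hV hx.2.1 hly hc hne, Subgroup.mem_bot] at h1
    refine hz1 ?_
    have : z' = 1 := γ.injective ((hw'.symm.trans h1).trans (map_one γ).symm)
    rw [this]; rfl
  rcases mem_zpowers_three hx.2.1 (mem_zpowers_of_mv_eq hV hx.2.1 hly hc heq) with e | e | e
  · exact absurd e hly.ne_one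
  · exact Or.inl e
  · exact Or.inr e

/-- The stabilizer of a line normalizes the attached component. -/
theorem mem_normalizer_kOf {x : MulAut ↥(vOf L)} (hx : IsJLine T L x) {g : G} (hg : g ∈ L)
    (hgx : act L ⟨g, hg⟩ * x * (act L ⟨g, hg⟩)⁻¹ = x ∨
      act L ⟨g, hg⟩ * x * (act L ⟨g, hg⟩)⁻¹ = x⁻¹) :
    g ∈ Subgroup.normalizer (kOf T L x : Set G) := by
  classical
  haveI : Fact (Nat.Prime 2) := ⟨Nat.prime_two⟩
  haveI := finite_mulAut (V := ↥(vOf L))
  have hV := exp2_vOf L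
  have hp := h.kprops hx
  set K := kOf T L x with hK
  obtain ⟨a, ⟨hgood, A, hA, j, hjA, hja⟩, hax⟩ := hx.2.2
  have hjJ : (j : G) ∈ Cfsg.thompsonSubgroupOf 2 T := jOf_eq T ▸ hA.le_thompson hjA
  -- the dihedral preimage
  set Yb := Subgroup.closure
    {b : MulAut ↥(vOf L) | b = x ∨ (b ∈ Hbar L ∧ IsTransv b ∧ b * x * b⁻¹ = x⁻¹)} with hYb
  have hYcases : ∀ b ∈ Yb, b ∈ Subgroup.zpowers x ∨ b * a ∈ Subgroup.zpowers x := by
    have haa : a * a = 1 := hgood.2.1.1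
    have hconj : ∀ u ∈ Subgroup.zpowers x, a * u * a⁻¹ ∈ Subgroup.zpowers x := by
      rintro _ ⟨i, rfl⟩
      refine ⟨-i, ?_⟩
      show x ^ (-i) = a * x ^ i * a⁻¹
      rw [← conj_zpow, hax, inv_zpow, zpow_neg]
    have ha' : a⁻¹ = a := inv_eq_of_mul_eq_one_right haa
    intro b hb
    induction hb using Subgroup.closure_induction with
    | mem b hb =>
      rcases hb with rfl | ⟨-, hb, hbx⟩
      · exact Or.inl (Subgroup.mem_zpowers _)
      · exact Or.inr (transv_mul_mem hV hb hgood.2.1 hx.2.1 hbx hax)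
    | one => exact Or.inl (one_mem _)
    | mul b c _ _ hb hc =>
      rcases hb with hb | hb <;> rcases hc with hc | hc
      · exact Or.inl (mul_mem hb hc)
      · exact Or.inr (by rw [mul_assoc]; exact mul_mem hb hc)
      · refine Or.inr ?_
        have e : b * c * a = (b * a) * (a * c * a⁻¹) := by
          calc b * c * a = b * (a * a) * c * a := by rw [haa, mul_one]
            _ = (b * a) * (a * c * a⁻¹) := by rw [ha']; group
        rw [e]; exact mul_mem hb (hconj c hc)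
      · refine Or.inl ?_
        have e : b * c = (b * a) * (a * (c * a) * a⁻¹) := by
          calc b * c = b * (a * a) * c * (a * a⁻¹) := by rw [haa, mul_one, mul_inv_cancel, mul_one]
            _ = (b * a) * (a * (c * a) * a⁻¹) := by group
        rw [e]; exact mul_mem hb (hconj _ hc)
    | inv b _ hb =>
      rcases hb with hb | hb
      · exact Or.inl (inv_mem hb)
      · refine Or.inr ?_
        have e : b⁻¹ * a = a * (b * a)⁻¹ * a⁻¹ := by
          calc b⁻¹ * a = (a * a⁻¹) * b⁻¹ * a := by rw [mul_inv_cancel, one_mul]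
            _ = a * (b * a)⁻¹ * a⁻¹ := by rw [mul_inv_rev, ha']; group
        rw [e]; exact hconj _ (inv_mem hb)
  set Y : Subgroup G := (Yb.comap (act L)).map L.subtype with hY
  have hYmem : ∀ y ∈ Y, ∃ hy : y ∈ L, act L ⟨y, hy⟩ ∈ Yb := by
    rintro _ ⟨y, hy, rfl⟩; exact ⟨y.2, hy⟩
  have hYL : Y ≤ L := Subgroup.map_subtype_le _
  have hjY : (j : G) ∈ Y :=
    ⟨j, show act L j ∈ Yb from Subgroup.subset_closure (Or.inr ⟨hja ▸ hgood.1, hja ▸ hgood.2.1,
      hja ▸ hax⟩), rfl⟩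
  have hQY : Cfsg.pCoreOf 2 L ≤ Y := fun q hq =>
    ⟨⟨q, CfsgLib.LocalEvenCharP.pCoreOf_le 2 L hq⟩, show act L _ ∈ Yb by
      rw [(act_eq_one_iff L ⟨q, _⟩).2 (core_le_cOf hq)]; exact one_mem _, rfl⟩
  set R := T ⊓ Y with hR
  have hQR : Cfsg.pCoreOf 2 L ≤ R := le_inf h.core_le hQY
  have hjR : (j : G) ∈ R := ⟨hA.1 hjA, hjY⟩
  -- a 2-subgroup of `Y` containing `O₂(L)` and `j` is contained in `O₂(L) ∪ O₂(L) j`
  have hsplit : ∀ P : Subgroup G, P ≤ Y → IsPGroup 2 P → (j : G) ∈ P → ∀ r ∈ P,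
      r ∈ Cfsg.pCoreOf 2 L ∨ r * (j : G) ∈ Cfsg.pCoreOf 2 L := by
    intro P hPY hP hjP r hr
    obtain ⟨hrL, hr'⟩ := hYmem r (hPY hr)
    have two : ∀ g ∈ P, g ∈ pre L x → g ∈ Cfsg.pCoreOf 2 L := fun g hgP hg => by
      obtain ⟨m, hm⟩ := hP ⟨g, hgP⟩
      exact h.two_mem_pre hx.2.1 hg (m := m) (by simpa using congrArg Subtype.val hm)
    rcases hYcases _ hr' with e | e
    · exact Or.inl (two r hr (mem_pre.2 ⟨hrL, e⟩))
    · refine Or.inr (two _ (P.mul_mem hr hjP) (mem_pre.2 ⟨L.mul_mem hrL j.2, ?_⟩))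
      show act L (⟨r, hrL⟩ * j) ∈ _
      rw [map_mul, hja]; exact e
  have hsyl : CfsgLib.LocalEven.IsSylIn 2 R Y := by
    refine ⟨inf_le_right, h.syl.2.1.to_le inf_le_left, fun P hPY hP hRP => le_antisymm ?_ hRP⟩
    intro r hr
    rcases hsplit P hPY hP (hRP hjR) r hr with e | e
    · exact hQR e
    · have := R.mul_mem (hQR e) (R.inv_mem hjR)
      rwa [mul_inv_cancel_right] at this
  have hRpre : R ≤ Subgroup.normalizer (pre L x : Set G) := by
    intro r hr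
    rcases hsplit R inf_le_right (h.syl.2.1.to_le inf_le_left) hjR r hr with e | e
    · exact Subgroup.le_normalizer (cOf_le_pre L x (core_le_cOf e))
    · have h1 := mul_mem (Subgroup.le_normalizer (cOf_le_pre L x (core_le_cOf e)))
        (inv_mem (h.J_normalizer_pre hx hjJ))
      rwa [mul_inv_cancel_right] at h1
  -- the component is determined by `R`
  have hKR : oddClosure ⁅pre L x, R⁆ = K := by
    set K' := oddClosure ⁅pre L x, R⁆ with hK'
    have hQn : Cfsg.pCoreOf 2 L ≤ Subgroup.normalizer (K : Set G) :=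
      (core_le_cOf.trans (cOf_le_pre L x)).trans hp.pre_norm
    have hle : ⁅pre L x, R⁆ ≤ K ⊔ Cfsg.pCoreOf 2 L := by
      rw [Subgroup.commutator_le]
      intro p hp' r hr
      have hpq : ∀ q ∈ Cfsg.pCoreOf 2 L, ⁅p, q⁆ ∈ K ⊔ Cfsg.pCoreOf 2 L := fun q hq => by
        refine Subgroup.mem_sup_right ?_
        rw [commutatorElement_def]
        exact mul_mem ((Subgroup.mem_normalizer_iff.1 (core_normal (L := L) (pre_le L x hp')) q).1 hq)
          (inv_mem hq)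
      rcases hsplit R inf_le_right (h.syl.2.1.to_le inf_le_left) hjR r hr with e | e
      · exact hpq r e
      · set q := r * (j : G) with hq
        have e2 : ⁅p, r⁆ = ⁅p, q⁆ * (q * ⁅p, (j : G)⁻¹⁆ * q⁻¹) := by
          rw [hq]; simp only [commutatorElement_def]; group
        rw [e2]
        refine mul_mem (hpq q e) ?_
        exact mul_mem (mul_mem (Subgroup.mem_sup_right e)
          (h.commutator_le_kOf_sup hx (Subgroup.commutator_mem_commutator hp' (inv_mem hjJ))))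
          (Subgroup.mem_sup_right (inv_mem e))
    have hQodd : ∀ g, g ∈ K ⊔ Cfsg.pCoreOf 2 L → Odd (orderOf g) → g ∈ K := by
      intro g hg ho
      have hg' : g ∈ ((K ⊔ Cfsg.pCoreOf 2 L : Subgroup G) : Set G) := hg
      rw [Subgroup.coe_mul_of_right_le_normalizer_left K _ hQn] at hg'
      obtain ⟨k', hk', q, hq, rfl⟩ := hg'
      obtain ⟨m, hm⟩ := h.isPGroup_core ⟨q, hq⟩
      exact odd_mem_of_mul hk' (hQn hq) (m := m) (by simpa using congrArg Subtype.val hm) ho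
    have hK'K : K' ≤ K := (Subgroup.closure_le _).2 fun g hg => hQodd g (hle hg.1) hg.2
    refine le_antisymm hK'K ?_
    have hK'n : pre L x ≤ Subgroup.normalizer (K' : Set G) :=
      (CfsgLib.Coprime.le_normalizer_commutator_left _ R).trans
        (normalizer_le_normalizer_oddClosure _)
    obtain ⟨kx, hkx, hkxe⟩ := hp.img_eq.ge (Subgroup.mem_zpowers x)
    have hc : ((⁅kx, j⁆ : L) : G) ∈ K' ⊔ Cfsg.pCoreOf 2 L := by
      refine le_oddClosure_sup (fun g hg m hm => ?_) (Subgroup.commutator_mem_commutator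
        (hp.le_pre hkx) hjR : ((⁅kx, j⁆ : L) : G) ∈ ⁅pre L x, R⁆)
      exact h.two_mem_pre hx.2.1 (CfsgLib.Coprime.commutator_le_of_normalizes hRpre hg) hm
    have hc' : ((⁅kx, j⁆ : L) : G) ∈ ((K' ⊔ Cfsg.pCoreOf 2 L : Subgroup G) : Set G) := hc
    rw [Subgroup.coe_mul_of_right_le_normalizer_left K' _
      ((core_le_cOf.trans (cOf_le_pre L x)).trans hK'n)] at hc'
    obtain ⟨c, hcK, q, hq, hcq⟩ := hc'
    have hcL : c ∈ L := pre_le L x (hp.le_pre (hK'K hcK))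
    have hce : act L ⟨c, hcL⟩ = x⁻¹ := by
      have e : (⁅kx, j⁆ : L) = ⟨c, hcL⟩ * ⟨q, CfsgLib.LocalEvenCharP.pCoreOf_le 2 L hq⟩ :=
        Subtype.ext hcq.symm
      have h2 := congrArg (act L) e
      rw [map_commutatorElement, hkxe, hja, map_mul,
        (act_eq_one_iff L ⟨q, CfsgLib.LocalEvenCharP.pCoreOf_le 2 L hq⟩).2 (core_le_cOf hq), mul_one,
        commutatorElement_def] at h2
      rw [← h2]
      have e2 : a * x⁻¹ * a⁻¹ = x := by
        calc a * x⁻¹ * a⁻¹ = (a * x * a⁻¹)⁻¹ := by group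
          _ = x := by rw [hax, inv_inv]
      calc x * a * x⁻¹ * a⁻¹ = x * (a * x⁻¹ * a⁻¹) := by group
        _ = x⁻¹ := by rw [e2]; exact eq_inv_of_mul_eq_one_left hx.2.1.cube
    refine hp.odd_gen.ge.trans ((Subgroup.closure_le _).2 fun k hk => ?_)
    obtain ⟨hkK, hko⟩ := hk
    obtain ⟨hkL, hk'⟩ := mem_pre.1 (hp.le_pre hkK)
    obtain ⟨i, hi⟩ := Subgroup.mem_zpowers_iff.1 hk'
    set c' : L := ⟨c, hcL⟩ ^ (-i) with hc'
    have hc'K : (c' : G) ∈ K' := by
      rw [hc']; push_cast; exact Subgroup.zpow_mem _ hcK _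
    have hq' : act L (c'⁻¹ * ⟨k, hkL⟩) = 1 := by
      rw [map_mul, map_inv, hc', map_zpow, hce, inv_zpow', neg_neg, hi, inv_mul_cancel]
    have hqQ : (c' : G)⁻¹ * k ∈ Cfsg.pCoreOf 2 L :=
      (hp.inf_cOf.le ⟨K.mul_mem (K.inv_mem (hK'K hc'K)) hkK, (act_eq_one_iff L _).1 hq'⟩).2
    obtain ⟨m, hm⟩ := h.isPGroup_core ⟨_, hqQ⟩
    have hres := odd_mem_of_mul hc'K (hK'n (cOf_le_pre L x (core_le_cOf hqQ)))
      (m := m) (by simpa using congrArg Subtype.val hm) (by rwa [mul_inv_cancel_left])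
    rwa [mul_inv_cancel_left] at hres
  -- `g` normalizes `Y`
  have hgY : g ∈ Subgroup.normalizer (Y : Set G) := by
    refine CfsgLib.Coprime.mem_normalizer_of_forall_conj ?_
    intro y hy
    obtain ⟨hyL, hy'⟩ := hYmem y hy
    refine ⟨⟨g, hg⟩ * ⟨y, hyL⟩ * ⟨g, hg⟩⁻¹, ?_, rfl⟩
    show act L _ ∈ Yb
    rw [map_mul, map_mul, map_inv]
    set γ := act L ⟨g, hg⟩ with hγ
    suffices hle : Yb ≤ Yb.comap (MulAut.conj γ).toMonoidHom from hle hy'
    rw [hYb, Subgroup.closure_le]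
    rintro b (rfl | ⟨hbH, hb, hbx⟩)
    · show γ * b * γ⁻¹ ∈ Yb
      rcases hgx with e | e <;> rw [e]
      · exact Subgroup.subset_closure (Or.inl rfl)
      · exact inv_mem (Subgroup.subset_closure (Or.inl rfl))
    · show γ * b * γ⁻¹ ∈ Yb
      refine Subgroup.subset_closure (Or.inr ⟨(Hbar L).mul_mem ((Hbar L).mul_mem ⟨_, rfl⟩ hbH)
        ((Hbar L).inv_mem ⟨_, rfl⟩), hb.conj γ, ?_⟩)
      have hx' : γ⁻¹ * x * γ = x ∨ γ⁻¹ * x * γ = x⁻¹ := by
        rcases hgx with e | e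
        · left
          calc γ⁻¹ * x * γ = γ⁻¹ * (γ * x * γ⁻¹) * γ := by rw [e]
            _ = x := by group
        · right
          calc γ⁻¹ * x * γ = γ⁻¹ * (γ * x * γ⁻¹)⁻¹ * γ := by rw [e, inv_inv]
            _ = x⁻¹ := by group
      have e1 : γ * b * γ⁻¹ * x * (γ * b * γ⁻¹)⁻¹ = γ * (b * (γ⁻¹ * x * γ) * b⁻¹) * γ⁻¹ := by group
      rcases hx' with e2 | e2
      · have e3 : γ * x * γ⁻¹ = x := by
          calc γ * x * γ⁻¹ = γ * (γ⁻¹ * x * γ) * γ⁻¹ := by rw [e2]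
            _ = x := by group
        rw [e1, e2, hbx]
        calc γ * x⁻¹ * γ⁻¹ = (γ * x * γ⁻¹)⁻¹ := by group
          _ = x⁻¹ := by rw [e3]
      · have e3 : γ * x⁻¹ * γ⁻¹ = x := by
          calc γ * x⁻¹ * γ⁻¹ = γ * (γ⁻¹ * x * γ) * γ⁻¹ := by rw [e2]
            _ = x := by group
        rw [e1, e2, show b * x⁻¹ * b⁻¹ = x by
          calc b * x⁻¹ * b⁻¹ = (b * x * b⁻¹)⁻¹ := by group
            _ = x := by rw [hbx, inv_inv]]
        calc γ * x * γ⁻¹ = (γ * x⁻¹ * γ⁻¹)⁻¹ := by group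
          _ = x⁻¹ := by rw [e3]
  obtain ⟨y, hy, hye⟩ := hsyl.conjugate (hsyl.map_conj_mem hgY)
  have hm : y⁻¹ * g ∈ Subgroup.normalizer (R : Set G) := by
    refine CfsgLib.LocalEven.mem_normalizer_of_map_conj_eq ?_
    rw [CfsgLib.LocalEven.map_conj_mul, ← hye, CfsgLib.LocalEven.map_conj_inv_map_conj]
  obtain ⟨hyL, hy'⟩ := hYmem y hy
  have hyK : y ∈ Subgroup.normalizer (K : Set G) ⊓ Subgroup.normalizer (pre L x : Set G) := by
    rcases hYcases _ hy' with e | e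
    · have := mem_pre.2 ⟨hyL, e⟩
      exact ⟨hp.pre_norm this, Subgroup.le_normalizer this⟩
    · have h1 : y * (j : G) ∈ pre L x := mem_pre.2 ⟨L.mul_mem hyL j.2, by
        show act L (⟨y, hyL⟩ * j) ∈ _
        rw [map_mul, hja]; exact e⟩
      have h2 := mul_mem (show y * (j : G) ∈ Subgroup.normalizer (K : Set G) ⊓
          Subgroup.normalizer (pre L x : Set G) from ⟨hp.pre_norm h1, Subgroup.le_normalizer h1⟩)
        (inv_mem (show (j : G) ∈ Subgroup.normalizer (K : Set G) ⊓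
          Subgroup.normalizer (pre L x : Set G) from ⟨hp.J_norm hjJ, h.J_normalizer_pre hx hjJ⟩))
      rwa [mul_inv_cancel_right] at h2
  have hmK : y⁻¹ * g ∈ Subgroup.normalizer (K : Set G) := by
    have hmP : y⁻¹ * g ∈ Subgroup.normalizer (pre L x : Set G) :=
      mul_mem (inv_mem hyK.2) (mem_normalizer_pre hg hgx)
    rw [← hKR]
    refine normalizer_le_normalizer_oddClosure _ ?_
    refine Subgroup.mem_normalizer_iff_map_conj_eq.2 ?_
    rw [Subgroup.map_commutator, Subgroup.mem_normalizer_iff_map_conj_eq.1 hmP,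
      Subgroup.mem_normalizer_iff_map_conj_eq.1 hm]
  have := mul_mem hyK.1 hmK
  rwa [mul_inv_cancel_left] at this

/-- `L` is generated by the components and the normalizer of `J(T)`. -/
theorem le_sup_components :
    L ≤ (⨆ x ∈ {x | IsJLine T L x}, kOf T L x) ⊔
      (L ⊓ Subgroup.normalizer (Cfsg.thompsonSubgroupOf 2 T : Set G)) := by
  haveI : Fact (Nat.Prime 2) := ⟨Nat.prime_two⟩
  haveI := finite_mulAut (V := ↥(vOf L))
  have hV := exp2_vOf L
  set J := Cfsg.thompsonSubgroupOf 2 T with hJ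
  set U := (⨆ x ∈ {x | IsJLine T L x}, kOf T L x) ⊔ (L ⊓ Subgroup.normalizer (J : Set G)) with hU
  set Yb := Subgroup.closure {b : MulAut ↥(vOf L) | ∃ a, JGood T L a ∧ ∃ l : L,
    b = act L l * a * (act L l)⁻¹} with hYb
  set Y : Subgroup G := (Yb.comap (act L)).map L.subtype with hY
  have hYL : Y ≤ L := Subgroup.map_subtype_le _
  have hYn : L ≤ Subgroup.normalizer (Y : Set G) := by
    refine Subgroup.le_normalizer_iff.2 ?_
    rintro g hg _ ⟨y, hy, rfl⟩
    refine ⟨⟨g, hg⟩ * y * ⟨g, hg⟩⁻¹, ?_, rfl⟩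
    show act L _ ∈ Yb
    rw [map_mul, map_mul, map_inv]
    suffices hle : Yb ≤ Yb.comap (MulAut.conj (act L ⟨g, hg⟩)).toMonoidHom from hle hy
    rw [hYb, Subgroup.closure_le]
    rintro _ ⟨a, ha, l, rfl⟩
    refine Subgroup.subset_closure ⟨a, ha, ⟨g, hg⟩ * l, ?_⟩
    show act L ⟨g, hg⟩ * (act L l * a * (act L l)⁻¹) * (act L ⟨g, hg⟩)⁻¹ = _
    rw [map_mul]; group
  have hJY : J ≤ Y := by
    intro j hj
    refine ⟨⟨j, h.J_le hj⟩, ?_, rfl⟩
    have h1 := mem_img_of (h.J_le hj) hj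
    rw [h.img_J] at h1
    exact Subgroup.closure_mono (fun a ha =>
      show ∃ a' , JGood T L a' ∧ ∃ l : L, a = act L l * a' * (act L l)⁻¹ from
        ⟨a, ha, 1, by simp⟩) h1
  set R := T ⊓ Y with hR
  have hsyl : CfsgLib.LocalEven.IsSylIn 2 R Y := by
    refine ⟨inf_le_right, h.syl.2.1.to_le inf_le_left, fun P hPY hP hRP =>
      (Subgroup.eq_of_le_of_card_ge hRP ?_).symm⟩
    obtain ⟨l, hl, hl'⟩ := exists_conj_le h.syl (hPY.trans hYL) hP
    rw [← Subgroup.card_map_of_injective (K := P) (f := (MulAut.conj l).toMonoidHom)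
      (MulAut.conj l).injective]
    refine Subgroup.card_le_of_le (le_inf hl' ?_)
    rintro _ ⟨y, hy, rfl⟩
    exact (Subgroup.mem_normalizer_iff.1 (hYn hl) y).1 (hPY hy)
  have hN : L ⊓ Subgroup.normalizer (R : Set G) ≤ L ⊓ Subgroup.normalizer (J : Set G) := by
    refine inf_le_inf_left _ ((normalizer_le_normalizer_jOf R).trans ?_)
    rw [jOf_eq_of_le h.syl (inf_le_left.trans h.syl.1) (h.syl.2.1.to_le inf_le_left)
      (le_inf (jOf_le T) hJY)]
  have hfrat : ∀ g ∈ L, ∃ y ∈ Y, ∃ m ∈ L ⊓ Subgroup.normalizer (J : Set G), g = y * m := by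
    intro g hg
    obtain ⟨y, hy, hye⟩ := hsyl.conjugate (hsyl.map_conj_mem (hYn hg))
    refine ⟨y, hy, y⁻¹ * g, hN ⟨L.mul_mem (L.inv_mem (hYL hy)) hg,
      CfsgLib.LocalEven.mem_normalizer_of_map_conj_eq ?_⟩, by group⟩
    rw [CfsgLib.LocalEven.map_conj_mul, ← hye, CfsgLib.LocalEven.map_conj_inv_map_conj]
  -- the lines fixed by all of `Y`
  have hYstab : Yb ≤ lineStab (Hbar L) := by
    rw [hYb, Subgroup.closure_le]
    rintro _ ⟨a, ha, l, rfl⟩
    exact conj_mem_lineStab ⟨_, rfl⟩ (good_mem_lineStab hV ha.1)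
  have hzl : ∀ x, IsJLine T L x → ∀ g : L, act L g ∈ Subgroup.zpowers x → (g : G) ∈ U := by
    intro x hx g hg
    have h1 := h.pre_le_kOf_sup hx (mem_pre.2 ⟨g.2, hg⟩ : (g : G) ∈ pre L x)
    refine (sup_le ?_ ?_ : kOf T L x ⊔ cOf L ≤ U) h1
    · exact (le_iSup₂ (f := fun x (_ : x ∈ {x | IsJLine T L x}) => kOf T L x) x hx).trans le_sup_left
    · exact (le_inf inf_le_left h.cOf_normalizer_J).trans le_sup_right
  have hgenU : ∀ b ∈ Yb, ∀ g : L, act L g = b → (g : G) ∈ U := by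
    have hle : Yb ≤ (U.subgroupOf L).map (act L) := by
      rw [hYb, Subgroup.closure_le]
      rintro _ ⟨a, ha, l, rfl⟩
      obtain ⟨y, hy, m, hm, hlym⟩ := hfrat l l.2
      -- conjugating by `m` stays among the generators coming from `J(T)`
      obtain ⟨hgood, A, hA, j, hjA, hja⟩ := ha
      set A' := A.map (MulAut.conj m).toMonoidHom with hA'
      have hA'J : A' ≤ J := by
        refine (Subgroup.map_mono (show A ≤ J from hJ ▸ (jOf_eq T ▸ hA.le_thompson))).trans ?_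
        exact (Subgroup.mem_normalizer_iff_map_conj_eq.1 hm.2).le
      have hA'max : IsMaxElemIn 2 T A' :=
        hA.of_card_le (hA'J.trans (jOf_le T)) (elemAb_map _ hA.2.1)
          (Subgroup.card_map_of_injective (MulAut.conj m).injective).ge
      have hj' : m * (j : G) * m⁻¹ ∈ A' := ⟨j, hjA, rfl⟩
      set γ := act L ⟨m, hm.1⟩ with hγ
      have he : act L (⟨m, hm.1⟩ * j * ⟨m, hm.1⟩⁻¹) = γ * a * γ⁻¹ := by
        rw [map_mul, map_mul, map_inv, hja]
      obtain ⟨haH, htr, x, hx, hlx, hax⟩ := hgood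
      have hx'F : γ * x * γ⁻¹ ∈ fit (Hbar L) := conj_mem_fit ⟨_, rfl⟩ hx
      have hinv' : γ * a * γ⁻¹ * (γ * x * γ⁻¹) * (γ * a * γ⁻¹)⁻¹ = (γ * x * γ⁻¹)⁻¹ := by
        calc γ * a * γ⁻¹ * (γ * x * γ⁻¹) * (γ * a * γ⁻¹)⁻¹ = γ * (a * x * a⁻¹) * γ⁻¹ := by group
          _ = (γ * x * γ⁻¹)⁻¹ := by rw [hax]; group
      have hgood' : Good (Hbar L) (γ * a * γ⁻¹) :=
        ⟨(Hbar L).mul_mem ((Hbar L).mul_mem ⟨_, rfl⟩ haH) ((Hbar L).inv_mem ⟨_, rfl⟩),
          htr.conj γ, _, hx'F, hlx.conj γ, hinv'⟩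
      have hJG : JGood T L (γ * a * γ⁻¹) := ⟨hgood', A', hA'max, _, hj', he⟩
      have hJL : IsJLine T L (γ * x * γ⁻¹) := ⟨hx'F, hlx.conj γ, _, hJG, hinv'⟩
      obtain ⟨hyL, hy'⟩ : ∃ hyL : y ∈ L, act L ⟨y, hyL⟩ ∈ Yb := by
        obtain ⟨y', hy', rfl⟩ := hy; exact ⟨y'.2, hy'⟩
      set η := act L ⟨y, hyL⟩ with hη
      have hl : act L l = η * γ := by
        rw [hη, hγ, ← map_mul]; exact congrArg (act L) (Subtype.ext hlym)
      have hstab := (hYstab hy').2 _ hx'F (hlx.conj γ)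
      have h1 : η * (γ * a * γ⁻¹) * η⁻¹ * (γ * a * γ⁻¹) ∈ Subgroup.zpowers (γ * x * γ⁻¹) := by
        refine transv_mul_mem hV (hgood'.2.1.conj η) hgood'.2.1 (hlx.conj γ) ?_ hinv'
        set x' := γ * x * γ⁻¹
        set a' := γ * a * γ⁻¹
        have hx'' : η⁻¹ * x' * η = x' ∨ η⁻¹ * x' * η = x'⁻¹ := by
          rcases hstab with e | e
          · left
            calc η⁻¹ * x' * η = η⁻¹ * (η * x' * η⁻¹) * η := by rw [e]
              _ = x' := by group
          · right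
            calc η⁻¹ * x' * η = η⁻¹ * (η * x' * η⁻¹)⁻¹ * η := by rw [e, inv_inv]
              _ = x'⁻¹ := by group
        have e1 : η * a' * η⁻¹ * x' * (η * a' * η⁻¹)⁻¹ = η * (a' * (η⁻¹ * x' * η) * a'⁻¹) * η⁻¹ := by
          group
        rcases hx'' with e2 | e2
        · have e3 : η * x' * η⁻¹ = x' := by
            calc η * x' * η⁻¹ = η * (η⁻¹ * x' * η) * η⁻¹ := by rw [e2]
              _ = x' := by group
          rw [e1, e2, hinv']
          calc η * x'⁻¹ * η⁻¹ = (η * x' * η⁻¹)⁻¹ := by group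
            _ = x'⁻¹ := by rw [e3]
        · have e3 : η * x'⁻¹ * η⁻¹ = x' := by
            calc η * x'⁻¹ * η⁻¹ = η * (η⁻¹ * x' * η) * η⁻¹ := by rw [e2]
              _ = x' := by group
          rw [e1, e2, show a' * x'⁻¹ * a'⁻¹ = x' by
            calc a' * x'⁻¹ * a'⁻¹ = (a' * x' * a'⁻¹)⁻¹ := by group
              _ = x' := by rw [hinv', inv_inv]]
          calc η * x' * η⁻¹ = (η * x'⁻¹ * η⁻¹)⁻¹ := by group
            _ = x'⁻¹ := by rw [e3]
      have hl' : act L l * a * (act L l)⁻¹ = η * (γ * a * γ⁻¹) * η⁻¹ := by rw [hl]; group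
      set jm : L := ⟨m, hm.1⟩ * j * ⟨m, hm.1⟩⁻¹ with hjm
      obtain ⟨w, hw⟩ : ∃ w : L, act L w = η * (γ * a * γ⁻¹) * η⁻¹ * (γ * a * γ⁻¹) := by
        obtain ⟨i, hi⟩ := Subgroup.mem_zpowers_iff.1 h1
        obtain ⟨p, hp⟩ := fit_le (Hbar L) hx'F
        exact ⟨p ^ i, by rw [map_zpow, hp, hi]⟩
      refine ⟨w * jm, ?_, ?_⟩
      · refine U.mul_mem (hzl _ hJL w (hw ▸ h1)) (Subgroup.mem_sup_right
          ⟨jm.2, Subgroup.le_normalizer (hA'J hj')⟩)
      · rw [map_mul, hw, hjm, he, mul_assoc (η * (γ * a * γ⁻¹) * η⁻¹), hgood'.2.1.1, mul_one, hl']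
    intro b hb g hg
    obtain ⟨u, hu, hue⟩ := hle hb
    have hc : (u : G)⁻¹ * g ∈ U := by
      refine Subgroup.mem_sup_right ⟨L.mul_mem (L.inv_mem u.2) g.2, h.cOf_normalizer_J ?_⟩
      exact (act_eq_one_iff L (u⁻¹ * g)).1 (by rw [map_mul, map_inv, hue, hg, inv_mul_cancel])
    have := U.mul_mem (show (u : G) ∈ U from hu) hc
    rwa [mul_inv_cancel_left] at this
  intro g hg
  obtain ⟨y, hy, m, hm, rfl⟩ := hfrat g hg
  obtain ⟨y', hy', rfl⟩ := hy
  exact U.mul_mem (hgenU _ hy' y' rfl) (Subgroup.mem_sup_right hm)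

theorem exists_line : ∃ x, IsJLine T L x := by
  obtain ⟨a, ha⟩ := h.exists_jgood
  have ha' := ha.1
  obtain ⟨-, -, x, hx, hlx, hax⟩ := ha'
  exact ⟨x, hx, hlx, a, ha, hax⟩

end Over

end CfsgLib.JComp
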